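/-
Coordinates in the small Ree groups: the group law of `U¹`.
-/
import Cfsg.Agent.Lib.Tw.NH
import Cfsg.Agent.Lib.Tw.PerfG2
import Cfsg.Agent.Lib.Tw.CoreT

set_option autoImplicit false
set_option synthInstance.maxHeartbeats 400000
set_option synthInstance.maxSize 1024

namespace CfsgLib.Ree

open Cfsg.Lie Cfsg.Lie.ChevalleyDatum CfsgLib.BN CfsgLib.Chev

section law

variable {K : Type*} [Field K] [CharP K 3]

local notation "X" => TG2.good.xG (F := K)

variable (K) in
lemma three0 : (3 : K) = 0 := by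
  have : ((3 : ℕ) : K) = 0 := CharP.cast_eq_zero K 3
  exact_mod_cast this

lemma comm_aaab_b (F B' : K) : X g2aaab F * X g2b B' = X g2b B' * X g2aaab F * X g2aaabb (-(B' * F)) := by
  have h := TG2.good.comm_G (F := K) (r := g2b) (s := g2aaab) (by decide +kernel) (by decide +kernel) (by decide +kernel) (by decide +kernel) B' F
  have e : chevG2.commTerms g2b g2aaab = [(g2aaabb, 1, 1, 1)] := by decide +kernel
  unfold ChevalleyDatum.commWord at h
  rw [e] at h
  simp only [List.map_cons, List.map_nil, Good.wordG, List.prod_cons, List.prod_nil, mul_one] at h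
  rw [h]
  congr 2
  push_cast
  ring

lemma comm_ab_a (C A' : K) : X g2ab C * X g2a A' = X g2a A' * X g2ab C * X g2aab (-(A' * C)) := by
  have h := TG2.good.comm_G (F := K) (r := g2a) (s := g2ab) (by decide +kernel) (by decide +kernel) (by decide +kernel) (by decide +kernel) A' C
  have e : chevG2.commTerms g2a g2ab = [(g2aab, -2, 1, 1), (g2aaab, -3, 2, 1), (g2aaabb, 3, 1, 2)] := by decide +kernel
  unfold ChevalleyDatum.commWord at h
  rw [e] at h
  simp only [List.map_cons, List.map_nil, Good.wordG, List.prod_cons, List.prod_nil, mul_one] at h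
  have h3 := three0 K
  have a1 : (((-3 : ℤ)) : K) = 0 := by
    push_cast
    rw [h3, neg_zero]
  have a2 : (((3 : ℤ)) : K) = 0 := by
    push_cast
    exact h3
  rw [a1, a2, zero_mul, zero_mul, zero_mul, zero_mul, TG2.good.xG_zero, TG2.good.xG_zero, one_mul, mul_one] at h
  rw [h]
  congr 2
  push_cast
  linear_combination (A' * C) * h3

lemma comm_aab_a (E A' : K) : X g2aab E * X g2a A' = X g2a A' * X g2aab E := by
  have h := TG2.good.comm_G (F := K) (r := g2a) (s := g2aab) (by decide +kernel) (by decide +kernel) (by decide +kernel) (by decide +kernel) A' E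
  have e : chevG2.commTerms g2a g2aab = [(g2aaab, 3, 1, 1)] := by decide +kernel
  unfold ChevalleyDatum.commWord at h
  rw [e] at h
  simp only [List.map_cons, List.map_nil, Good.wordG, List.prod_cons, List.prod_nil, mul_one] at h
  have h3 := three0 K
  have a2 : (((3 : ℤ)) : K) = 0 := by
    push_cast
    exact h3
  rw [a2, zero_mul, zero_mul, TG2.good.xG_zero, mul_one] at h
  exact h

lemma A_mul_b (C E F G B' : K) : g2A C E F G * X g2b B' = X g2b B' * g2A C E F (G + -(B' * F)) := by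
  have c1 : ∀ a b : K, X g2ab a * X g2b b = X g2b b * X g2ab a := g2_comm_c (by decide +kernel) (by decide +kernel) (by decide +kernel) (by decide +kernel) (by decide +kernel)
  have c2 : ∀ a b : K, X g2aab a * X g2b b = X g2b b * X g2aab a := g2_comm_c (by decide +kernel) (by decide +kernel) (by decide +kernel) (by decide +kernel) (by decide +kernel)
  have c4 : ∀ a b : K, X g2aaabb a * X g2b b = X g2b b * X g2aaabb a := g2_comm_c (by decide +kernel) (by decide +kernel) (by decide +kernel) (by decide +kernel) (by decide +kernel)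
  have c3 := comm_aaab_b (K := K)
  have c5 : ∀ a b : K, X g2aaabb a * X g2aaabb b = X g2aaabb (a + b) := fun a b => (TG2.good.xG_add _ _ _)
  have c6 : ∀ a b : K, X g2aaabb a * X g2aaabb b = X g2aaabb (b + a) := fun a b => by rw [c5, add_comm]
  unfold g2A
  calc X g2ab C * (X g2aab E * (X g2aaab F * X g2aaabb G)) * X g2b B'
      = X g2ab C * (X g2aab E * (X g2aaab F * (X g2aaabb G * X g2b B'))) := by group
    _ = X g2ab C * (X g2aab E * ((X g2aaab F * X g2b B') * X g2aaabb G)) := by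
        rw [c4]
        group
    _ = X g2ab C * (X g2aab E * (X g2b B' * (X g2aaab F * (X g2aaabb (-(B' * F)) * X g2aaabb G)))) := by
        rw [c3]
        group
    _ = X g2ab C * ((X g2aab E * X g2b B') * (X g2aaab F * X g2aaabb (G + -(B' * F)))) := by
        rw [c6]
        group
    _ = (X g2ab C * X g2b B') * (X g2aab E * (X g2aaab F * X g2aaabb (G + -(B' * F)))) := by
        rw [c2]
        group
    _ = _ := by
        rw [c1]
        group

lemma A_mul_a (C E F G A' : K) : g2A C E F G * X g2a A' = X g2a A' * g2A C (E + -(A' * C)) F G := by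
  have c1 := comm_ab_a (K := K)
  have c2 := comm_aab_a (K := K)
  have c3 : ∀ a b : K, X g2aaab a * X g2a b = X g2a b * X g2aaab a := g2_comm_c (by decide +kernel) (by decide +kernel) (by decide +kernel) (by decide +kernel) (by decide +kernel)
  have c4 : ∀ a b : K, X g2aaabb a * X g2a b = X g2a b * X g2aaabb a := g2_comm_c (by decide +kernel) (by decide +kernel) (by decide +kernel) (by decide +kernel) (by decide +kernel)
  have c5 : ∀ a b : K, X g2aab a * X g2aab b = X g2aab (b + a) := fun a b => by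
    rw [TG2.good.xG_add, add_comm]
  unfold g2A
  calc X g2ab C * (X g2aab E * (X g2aaab F * X g2aaabb G)) * X g2a A'
      = X g2ab C * (X g2aab E * (X g2aaab F * (X g2aaabb G * X g2a A'))) := by group
    _ = X g2ab C * (X g2aab E * ((X g2aaab F * X g2a A') * X g2aaabb G)) := by
        rw [c4]
        group
    _ = X g2ab C * ((X g2aab E * X g2a A') * (X g2aaab F * X g2aaabb G)) := by
        rw [c3]
        group
    _ = (X g2ab C * X g2a A') * (X g2aab E * (X g2aaab F * X g2aaabb G)) := by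
        rw [c2]
        group
    _ = X g2a A' * (X g2ab C * ((X g2aab (-(A' * C)) * X g2aab E) * (X g2aaab F * X g2aaabb G))) := by
        rw [c1]
        group
    _ = _ := by
        rw [c5]

/-- The product of two elements in normal form. -/
lemma N_mul (B A C E F G B' A' C' E' F' G' : K) : g2N B A C E F G * g2N B' A' C' E' F' G' =
    g2N (B + B') (A + A') (C + -B' * A + C') (E + -B' * A ^ 2 + -(A' * (C + -B' * A)) + E') (F + B' * A ^ 3 + F')
      (G + -(B' * F) + B' ^ 2 * A ^ 3 + G') := by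
  unfold g2N
  have h1 : X g2b B * X g2a A * g2A C E F G * (X g2b B' * X g2a A' * g2A C' E' F' G') =
      X g2b B * X g2a A * (g2A C E F G * X g2b B') * X g2a A' * g2A C' E' F' G' := by group
  rw [h1, A_mul_b]
  have h2 : X g2b B * X g2a A * (X g2b B' * g2A C E F (G + -(B' * F))) * X g2a A' * g2A C' E' F' G' =
      X g2b B * (X g2a A * X g2b B') * g2A C E F (G + -(B' * F)) * X g2a A' * g2A C' E' F' G' := by group
  rw [h2, g2_comm_ba']
  have h3 : X g2b B * (X g2b B' * X g2a A * g2A (-B' * A) (-B' * A ^ 2) (B' * A ^ 3) (B' ^ 2 * A ^ 3)) * g2A C E F (G + -(B' * F)) * X g2a A' * g2A C' E' F' G' =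
      (X g2b B * X g2b B') * X g2a A * (g2A (-B' * A) (-B' * A ^ 2) (B' * A ^ 3) (B' ^ 2 * A ^ 3) * g2A C E F (G + -(B' * F))) * X g2a A' * g2A C' E' F' G' := by group
  rw [h3, g2A_mul, TG2.good.xG_add]
  have h4 : X g2b (B + B') * X g2a A * g2A (-B' * A + C) (-B' * A ^ 2 + E) (B' * A ^ 3 + F) (B' ^ 2 * A ^ 3 + (G + -(B' * F))) * X g2a A' * g2A C' E' F' G' =
      X g2b (B + B') * X g2a A * (g2A (-B' * A + C) (-B' * A ^ 2 + E) (B' * A ^ 3 + F) (B' ^ 2 * A ^ 3 + (G + -(B' * F))) * X g2a A') * g2A C' E' F' G' := by group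
  rw [h4, A_mul_a]
  have h5 : X g2b (B + B') * X g2a A * (X g2a A' * g2A (-B' * A + C) (-B' * A ^ 2 + E + -(A' * (-B' * A + C))) (B' * A ^ 3 + F) (B' ^ 2 * A ^ 3 + (G + -(B' * F)))) * g2A C' E' F' G' =
      X g2b (B + B') * (X g2a A * X g2a A') * (g2A (-B' * A + C) (-B' * A ^ 2 + E + -(A' * (-B' * A + C))) (B' * A ^ 3 + F) (B' ^ 2 * A ^ 3 + (G + -(B' * F))) * g2A C' E' F' G') := by group
  rw [h5, g2A_mul, TG2.good.xG_add]
  congr 2 <;> first | ring | (congr 1 <;> ring)

end law

/-- The field data of a small Ree group. -/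
structure RCtx (K : Type*) [Field K] (e : ℕ) where
  char : CharP K 3
  φ : K ≃+* K
  hφ : ∀ t, φ t = t ^ e
  hφ2 : ∀ t, (φ (φ t)) ^ 3 = t
  he : e ≠ 0
  hm1 : ¬ IsSquare (-1 : K)

section ctx

variable {K : Type*} [Field K] {e : ℕ} (C : RCtx K e)

/-- The inverse of `φ`: the map `x ↦ x ^ (3 e)`. -/
def RCtx.ρ : K ≃+* K := C.φ.symm

lemma RCtx.cube_eq (t : K) : (C.φ t) ^ 3 = C.ρ t := by
  show (C.φ t) ^ 3 = C.φ.symm t
  apply C.φ.injective
  rw [map_pow, C.hφ2]
  simp

lemma RCtx.φ_ρ (t : K) : C.φ (C.ρ t) = t := C.φ.apply_symm_apply t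

lemma RCtx.ρ_φ (t : K) : C.ρ (C.φ t) = t := C.φ.symm_apply_apply t

lemma RCtx.ρ_eq_pow (t : K) : C.ρ t = t ^ (3 * e) := by
  rw [← C.cube_eq, C.hφ, ← pow_mul, mul_comm]

lemma RCtx.three (C : RCtx K e) : (3 : K) = 0 := by
  haveI := C.char
  exact three0 K

lemma RCtx.two_eq (C : RCtx K e) : (2 : K) = -1 := by
  linear_combination C.three

lemma RCtx.two_ne (C : RCtx K e) : (2 : K) ≠ 0 := by
  rw [C.two_eq]
  simp

lemma RCtx.neg_one_ne (C : RCtx K e) : (-1 : K) ≠ 1 := by
  intro h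
  apply C.two_ne
  linear_combination -h

lemma RCtx.mem_T (t u v : K) : g2N t (C.φ t) (C.φ u) (C.φ v) (t * C.ρ t + u) (t ^ 2 * C.ρ t + v) ∈ twistedG2 K e := by
  haveI := C.char
  have := g2_mem_T C.φ C.hφ t u v
  rwa [C.cube_eq] at this

/-- The elements of `U¹`. -/
noncomputable def RCtx.rS (t u v : K) : ↥(twistedG2 K e) :=
  ⟨g2N t (C.φ t) (C.φ u) (C.φ v) (t * C.ρ t + u) (t ^ 2 * C.ρ t + v), C.mem_T t u v⟩

lemma RCtx.rS_val (t u v : K) : ((C.rS t u v : ↥(twistedG2 K e)) : GL chevG2.Idx K) = g2N t (C.φ t) (C.φ u) (C.φ v) (t * C.ρ t + u) (t ^ 2 * C.ρ t + v) := rfl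

/-- The law of `U¹`. -/
theorem RCtx.rS_mul (t u v t' u' v' : K) : C.rS t u v * C.rS t' u' v' =
    C.rS (t + t') (u + u' - t * C.ρ t') (v + v' - t ^ 2 * C.ρ t' - t' * u + t * t' * C.ρ t') := by
  haveI := C.char
  apply Subtype.ext
  show (C.rS t u v : GL chevG2.Idx K) * C.rS t' u' v' = _
  rw [C.rS_val, C.rS_val, C.rS_val, N_mul]
  have h3 := C.three
  have c1 : (C.φ t) ^ 3 = C.ρ t := C.cube_eq t
  have h6 : ∀ B A C E F G B' A' C' E' F' G' : K, B = B' → A = A' → C = C' → E = E' → F = F' → G = G' → g2N B A C E F G = g2N B' A' C' E' F' G' := by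
    intro B A C E F G B' A' C' E' F' G' a1 a2 a3 a4 a5 a6
    rw [a1, a2, a3, a4, a5, a6]
  apply h6
  · rfl
  · rw [map_add]
  · simp only [map_add, map_sub, map_mul, C.φ_ρ]
    ring
  · simp only [map_add, map_sub, map_mul, map_pow, C.φ_ρ]
    ring
  · rw [c1, map_add]
    ring
  · rw [c1, map_add]
    linear_combination (-(t * t' * C.ρ t) - t * t' * C.ρ t') * h3

lemma RCtx.rS_zero : C.rS 0 0 0 = 1 := by
  haveI := C.char
  apply Subtype.ext
  show g2N (0 : K) (C.φ 0) (C.φ 0) (C.φ 0) (0 * C.ρ 0 + 0) (0 ^ 2 * C.ρ 0 + 0) = 1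
  unfold g2N g2A
  simp [TG2.good.xG_zero]

lemma RCtx.rS_inj {t u v t' u' v' : K} (h : C.rS t u v = C.rS t' u' v') : t = t' ∧ u = u' ∧ v = v' := by
  haveI := C.char
  have h1 := congrArg Subtype.val h
  rw [C.rS_val, C.rS_val] at h1
  obtain ⟨a1, a2, a3, a4, a5, a6⟩ := g2N_inj h1
  exact ⟨a1, C.φ.injective a3, C.φ.injective a4⟩

end ctx

end CfsgLib.Ree
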