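/-
The torus, the Weyl element and the Bruhat decomposition of the small Ree groups.
-/
import Cfsg.Agent.Lib.Ree.Basic

set_option autoImplicit false
set_option synthInstance.maxHeartbeats 400000
set_option synthInstance.maxSize 1024

namespace CfsgLib.Ree

open Cfsg.Lie Cfsg.Lie.ChevalleyDatum CfsgLib.BN CfsgLib.Chev

section ctx

variable {K : Type*} [Field K] [Fintype K] {e : ℕ} (C : RCtx K e)

/-- The field data from the order of the field. -/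
theorem exists_ctx {m : ℕ} (hK : Fintype.card K = 3 ^ (2 * m + 1)) : Nonempty (RCtx K (3 ^ m)) := by
  haveI : CharP K 3 := charP_of_card Nat.prime_three hK
  obtain ⟨φ, hφ, hφ2⟩ := exists_theta Nat.prime_three hK
  refine ⟨⟨inferInstance, φ, hφ, hφ2, by positivity, ?_⟩⟩
  rw [FiniteField.isSquare_neg_one_iff, hK]
  have h : 3 ^ (2 * m + 1) % 4 = 3 := by
    rw [pow_succ, pow_mul, Nat.mul_mod, Nat.pow_mod]
    norm_num
  rw [h]
  simp

/-- The elements of `U¹`. -/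
theorem RCtx.mem_U_iff {g : GL chevG2.Idx K} : g ∈ chevG2.posUnipotent K ⊓ twistedG2 K e ↔ ∃ t u v : K, g = (C.rS t u v : ↥(twistedG2 K e)) := by
  haveI := C.char
  have hperf : ∀ x : K, ∃ y : K, y ^ 3 = x := fun x => ⟨C.φ (C.φ x), C.hφ2 x⟩
  rw [g2_mem_U hperf C.φ C.hφ2 C.hφ]
  constructor
  · rintro ⟨t, u, v, rfl⟩
    refine ⟨t, u, v, ?_⟩
    rw [g2_word_eq C.φ C.hφ, C.rS_val, C.cube_eq]
  · rintro ⟨t, u, v, rfl⟩
    refine ⟨t, u, v, ?_⟩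
    rw [g2_word_eq C.φ C.hφ, C.rS_val, C.cube_eq]

lemma RCtx.rS_mem_U (t u v : K) : ((C.rS t u v : ↥(twistedG2 K e)) : GL chevG2.Idx K) ∈ chevG2.posUnipotent K :=
  (Subgroup.mem_inf.1 (C.mem_U_iff.2 ⟨t, u, v, rfl⟩)).1

/-- The elements of `H¹`: existence. -/
theorem RCtx.exists_H (y : Kˣ) : ∃ k : ↥(twistedG2 K e), (k : GL chevG2.Idx K) ∈ chevG2.diagonalSubgroup K ∧ ∃ d, IsMono TG2.good (k : GL chevG2.Idx K) 1 d ∧ d g2B' = y ∧ d g2A' = C.φ y := by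
  haveI := C.char
  have hperf : ∀ x : K, ∃ y : K, y ^ 3 = x := fun x => ⟨C.φ (C.φ x), C.hφ2 x⟩
  obtain ⟨Dt, e', hJ⟩ := g2_td hperf C.φ C.hφ2 C.hφ
  obtain ⟨k, hk, d, hd, hb⟩ := g2_surj hperf C.φ C.hφ2 Dt hJ C.he C.hm1 (e'.symm 0) y
  obtain ⟨hk1, hk2⟩ := Subgroup.mem_inf.1 hk
  refine ⟨⟨k, hk2⟩, hk1, d, hd, hb, ?_⟩
  rw [g2_chars_fixed hperf C.φ hk1 (Dt.T_fix k hk2) hd, hb]

/-- The map from the units to `H¹`. -/
noncomputable def RCtx.rH₀ (y : Kˣ) : ↥(twistedG2 K e) := (C.exists_H y).choose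

lemma RCtx.rH₀_diag (y : Kˣ) : ((C.rH₀ y : ↥(twistedG2 K e)) : GL chevG2.Idx K) ∈ chevG2.diagonalSubgroup K := (C.exists_H y).choose_spec.1

lemma RCtx.rH₀_spec (y : Kˣ) : ∃ d, IsMono TG2.good ((C.rH₀ y : ↥(twistedG2 K e)) : GL chevG2.Idx K) 1 d ∧ d g2B' = y ∧ d g2A' = C.φ y := (C.exists_H y).choose_spec.2

omit [Fintype K] in
/-- Elements of `H` are determined by the values on the simple roots. -/
lemma H_ext {h h' : GL chevG2.Idx K} (hh : h ∈ chevG2.diagonalSubgroup K) (hh' : h' ∈ chevG2.diagonalSubgroup K) {d d' : Fin chevG2.nroots → K}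
    (hd : IsMono TG2.good h 1 d) (hd' : IsMono TG2.good h' 1 d') (hb : d g2B' = d' g2B') (ha : d g2A' = d' g2A') : h = h' := by
  apply TG2.extra.H_ext TG2.good hh hh' hd hd'
  intro i hi'
  have hi'' : i < 2 := hi'
  interval_cases i
  · exact ha
  · exact hb

/-- The torus as a homomorphism. -/
noncomputable def RCtx.rH : Kˣ →* ↥(twistedG2 K e) :=
  MonoidHom.mk' C.rH₀ (by
    intro y y'
    obtain ⟨d, hd, h1, h2⟩ := C.rH₀_spec (y * y')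
    obtain ⟨d₁, hd₁, a1, a2⟩ := C.rH₀_spec y
    obtain ⟨d₂, hd₂, b1, b2⟩ := C.rH₀_spec y'
    apply Subtype.ext
    apply H_ext (C.rH₀_diag _) (mul_mem (C.rH₀_diag _) (C.rH₀_diag _)) hd (hd₁.hmul hd₂)
    · show d g2B' = d₁ g2B' * d₂ g2B'
      rw [h1, a1, b1, Units.val_mul]
    · show d g2A' = d₁ g2A' * d₂ g2A'
      rw [h2, a2, b2, Units.val_mul, map_mul])

lemma RCtx.rH_diag (y : Kˣ) : ((C.rH y : ↥(twistedG2 K e)) : GL chevG2.Idx K) ∈ chevG2.diagonalSubgroup K := C.rH₀_diag y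

lemma RCtx.rH_spec (y : Kˣ) : ∃ d, IsMono TG2.good ((C.rH y : ↥(twistedG2 K e)) : GL chevG2.Idx K) 1 d ∧ d g2B' = y ∧ d g2A' = C.φ y := C.rH₀_spec y

lemma RCtx.rH_inj : Function.Injective C.rH := by
  intro y y' h
  obtain ⟨d, hd, h1, -⟩ := C.rH_spec y
  obtain ⟨d', hd', h1', -⟩ := C.rH_spec y'
  rw [h] at hd
  apply Units.ext
  rw [← h1, ← h1', hd.d_unique hd']

/-- All elements of `H¹`. -/
theorem RCtx.mem_H_iff {g : GL chevG2.Idx K} : g ∈ chevG2.diagonalSubgroup K ⊓ twistedG2 K e ↔ ∃ y, g = (C.rH y : ↥(twistedG2 K e)) := by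
  haveI := C.char
  have hperf : ∀ x : K, ∃ y : K, y ^ 3 = x := fun x => ⟨C.φ (C.φ x), C.hφ2 x⟩
  constructor
  · intro hx
    obtain ⟨Dt, e', hJ⟩ := g2_td hperf C.φ C.hφ2 C.hφ
    obtain ⟨hx1, hx2⟩ := Subgroup.mem_inf.1 hx
    obtain ⟨τ, d', hi⟩ := TG2.good.mono_of_mem_N TG2.extra (TG2.good.diagonal_le_monomial hx1)
    have hτ1 := TG2.extra.perm_of_H TG2.good TG2.braid hx1 hi
    subst hτ1
    refine ⟨Units.mk0 (d' g2B') (hi.d_ne _), ?_⟩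
    obtain ⟨d, hd, h1, h2⟩ := C.rH_spec (Units.mk0 (d' g2B') (hi.d_ne _))
    apply H_ext hx1 (C.rH_diag _) hi hd
    · rw [h1, Units.val_mk0]
    · rw [h2, Units.val_mk0, g2_chars_fixed hperf C.φ hx1 (Dt.T_fix g hx2) hi]
  · rintro ⟨y, rfl⟩
    exact Subgroup.mem_inf.2 ⟨C.rH_diag y, (C.rH y).2⟩

/-- The action of the torus on `U¹`. -/
theorem RCtx.rH_conj (y : Kˣ) (t u v : K) : C.rH y * C.rS t u v * (C.rH y)⁻¹ = C.rS ((y : K) * t) ((y : K) * C.ρ y * u) ((y : K) ^ 2 * C.ρ y * v) := by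
  haveI := C.char
  apply Subtype.ext
  obtain ⟨d, hd, h1, h2⟩ := C.rH_spec y
  show ((C.rH y : ↥(twistedG2 K e)) : GL chevG2.Idx K) * (C.rS t u v : ↥(twistedG2 K e)) * ((C.rH y : ↥(twistedG2 K e)) : GL chevG2.Idx K)⁻¹ = _
  rw [C.rS_val, C.rS_val, g2_conj_N (C.rH_diag y) hd, h1, h2]
  have c1 : (C.φ y) ^ 3 = C.ρ y := C.cube_eq y
  have h6 : ∀ B A C E F G B' A' C' E' F' G' : K, B = B' → A = A' → C = C' → E = E' → F = F' → G = G' → g2N B A C E F G = g2N B' A' C' E' F' G' := by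
    intro B A C E F G B' A' C' E' F' G' a1 a2 a3 a4 a5 a6
    rw [a1, a2, a3, a4, a5, a6]
  apply h6
  · rfl
  · rw [map_mul]
  · simp only [map_mul, C.φ_ρ]
  · simp only [map_mul, map_pow, C.φ_ρ]
  · rw [c1, map_mul]
    ring
  · rw [c1, map_mul]
    ring

/-- The Weyl element and the Bruhat decomposition. -/
theorem RCtx.core (C : RCtx K e) : ∃ w : GL chevG2.Idx K, w ∈ chevG2.monomialSubgroup K ⊓ twistedG2 K e ∧
    (∃ τ d, IsMono TG2.good w τ d ∧ ∀ r (hr : r < chevG2.nroots), (τ ⟨r, hr⟩).val = chevG2.neg r) ∧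
    (∀ n ∈ chevG2.monomialSubgroup K ⊓ twistedG2 K e, n ∈ chevG2.diagonalSubgroup K ∨ w⁻¹ * n ∈ chevG2.diagonalSubgroup K) ∧
    (∀ g ∈ twistedG2 K e, ∃ a ∈ chevG2.posUnipotent K ⊓ twistedG2 K e, ∃ n ∈ chevG2.monomialSubgroup K ⊓ twistedG2 K e, ∃ c ∈ chevG2.posUnipotent K ⊓ twistedG2 K e, g = a * n * c) := by
  haveI := C.char
  have hperf : ∀ x : K, ∃ y : K, y ^ 3 = x := fun x => ⟨C.φ (C.φ x), C.hφ2 x⟩
  obtain ⟨Dt, e', hJ⟩ := g2_td hperf C.φ C.hφ2 C.hφ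
  set j := e'.symm 0 with hj
  have hwN := Dt.w_N TG2.extra TG2.braid j
  have hwT := Dt.w_T TG2.extra TG2.braid j
  have hτ : ∀ r (hr : r < chevG2.nroots), ((Dt.τw TG2.extra TG2.braid j) ⟨r, hr⟩).val = chevG2.neg r := by
    intro r hr
    rw [g2_τ hperf C.φ Dt hJ j r hr]
    revert r
    decide +kernel
  refine ⟨Dt.w TG2.extra TG2.braid j, Subgroup.mem_inf.2 ⟨hwN, hwT⟩, ⟨_, _, Dt.w_mono TG2.extra TG2.braid j, hτ⟩, ?_, ?_⟩
  · intro n hn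
    obtain ⟨ψ, hs, hk⟩ := g2_NH hperf C.φ Dt e' hJ
    set w' : ↥(chevG2.monomialSubgroup K ⊓ twistedG2 K e) := ⟨_, Subgroup.mem_inf.2 ⟨hwN, hwT⟩⟩ with hw'
    have hnot : ψ w' ≠ 1 := by
      intro h
      have h1 : w' ∈ ψ.ker := h
      rw [hk, Subgroup.mem_subgroupOf] at h1
      have h2 := (Subgroup.mem_inf.1 h1).1
      have h3 := TG2.extra.perm_of_H TG2.good TG2.braid h2 (Dt.w_mono TG2.extra TG2.braid j)
      have h4 := hτ g2b (by decide +kernel)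
      rw [h3] at h4
      exact absurd h4 (by decide +kernel)
    have hcases : ∀ x : Multiplicative (ZMod 2), x = 1 ∨ x = Multiplicative.ofAdd 1 := by decide +kernel
    have hn' : ψ ⟨n, hn⟩ = 1 ∨ ψ (w'⁻¹ * ⟨n, hn⟩) = 1 := by
      rcases hcases (ψ ⟨n, hn⟩) with h | h
      · exact Or.inl h
      · right
        rcases hcases (ψ w') with h2 | h2
        · exact absurd h2 hnot
        · rw [map_mul, map_inv, h, h2]
          simp
    rcases hn' with h | h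
    · left
      have h1 : (⟨n, hn⟩ : ↥(chevG2.monomialSubgroup K ⊓ twistedG2 K e)) ∈ ψ.ker := h
      rw [hk, Subgroup.mem_subgroupOf] at h1
      exact (Subgroup.mem_inf.1 h1).1
    · right
      have h1 : (w'⁻¹ * ⟨n, hn⟩ : ↥(chevG2.monomialSubgroup K ⊓ twistedG2 K e)) ∈ ψ.ker := h
      rw [hk, Subgroup.mem_subgroupOf] at h1
      exact (Subgroup.mem_inf.1 h1).1
  · intro g hg
    obtain ⟨a, ha, n, hn, c, hc, e1, -⟩ := (Dt.twist TG2.extra TG2.braid).canonical (g := g) hg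
    have hU := Dt.U_inf_T TG2.extra TG2.braid
    refine ⟨a, ?_, n, hn, c, ?_, e1⟩
    · rw [hU]
      exact ha
    · rw [hU]
      exact hc

end ctx

end CfsgLib.Ree
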