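/-
The Bruhat decomposition and the doubly transitive action of the small Ree groups.
-/
import Cfsg.Agent.Lib.Ree.Core

set_option autoImplicit false
set_option synthInstance.maxHeartbeats 400000
set_option synthInstance.maxSize 1024

namespace CfsgLib.Ree

open Cfsg.Lie Cfsg.Lie.ChevalleyDatum CfsgLib.BN CfsgLib.Chev

section ctx

variable {K : Type*} [Field K] [Fintype K] {e : ℕ} (C : RCtx K e)

/-- The Weyl element. -/
noncomputable def RCtx.rW : ↥(twistedG2 K e) := ⟨C.core.choose, (Subgroup.mem_inf.1 C.core.choose_spec.1).2⟩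

lemma RCtx.rW_N : ((C.rW : ↥(twistedG2 K e)) : GL chevG2.Idx K) ∈ chevG2.monomialSubgroup K := (Subgroup.mem_inf.1 C.core.choose_spec.1).1

lemma RCtx.rW_mono : ∃ τ d, IsMono TG2.good ((C.rW : ↥(twistedG2 K e)) : GL chevG2.Idx K) τ d ∧ ∀ r (hr : r < chevG2.nroots), (τ ⟨r, hr⟩).val = chevG2.neg r :=
  C.core.choose_spec.2.1

lemma RCtx.rW_cases {n : GL chevG2.Idx K} (hn : n ∈ chevG2.monomialSubgroup K ⊓ twistedG2 K e) :
    n ∈ chevG2.diagonalSubgroup K ∨ ((C.rW : ↥(twistedG2 K e)) : GL chevG2.Idx K)⁻¹ * n ∈ chevG2.diagonalSubgroup K :=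
  C.core.choose_spec.2.2.1 n hn

lemma RCtx.canonical (C : RCtx K e) (g : ↥(twistedG2 K e)) : ∃ a ∈ chevG2.posUnipotent K ⊓ twistedG2 K e, ∃ n ∈ chevG2.monomialSubgroup K ⊓ twistedG2 K e, ∃ c ∈ chevG2.posUnipotent K ⊓ twistedG2 K e, (g : GL chevG2.Idx K) = a * n * c :=
  C.core.choose_spec.2.2.2 g g.2

omit [Fintype K] in
lemma g2_coef_neg {h : GL chevG2.Idx K} (hh : h ∈ chevG2.diagonalSubgroup K) {d : Fin chevG2.nroots → K} (hd : IsMono TG2.good h 1 d) :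
    d ⟨chevG2.neg g2b, by decide +kernel⟩ = (d g2B')⁻¹ ∧ d ⟨chevG2.neg g2a, by decide +kernel⟩ = (d g2A')⁻¹ := by
  constructor
  · rw [g2_coef hh hd]
    have c0 : TG2.cert.coef (⟨chevG2.neg g2b, by decide +kernel⟩ : Fin chevG2.nroots) 0 = 0 := by decide +kernel
    have c1 : TG2.cert.coef (⟨chevG2.neg g2b, by decide +kernel⟩ : Fin chevG2.nroots) 1 = -1 := by decide +kernel
    rw [c0, c1]
    simp
  · rw [g2_coef hh hd]
    have c0 : TG2.cert.coef (⟨chevG2.neg g2a, by decide +kernel⟩ : Fin chevG2.nroots) 0 = -1 := by decide +kernel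
    have c1 : TG2.cert.coef (⟨chevG2.neg g2a, by decide +kernel⟩ : Fin chevG2.nroots) 1 = 0 := by decide +kernel
    rw [c0, c1]
    simp

/-- The Weyl element inverts the torus. -/
theorem RCtx.rW_conj (y : Kˣ) : C.rW * C.rH y * C.rW⁻¹ = C.rH y⁻¹ := by
  obtain ⟨τ, d₀, hw, hτ⟩ := C.rW_mono
  obtain ⟨d, hd, h1, h2⟩ := C.rH_spec y
  obtain ⟨d', hd', h1', h2'⟩ := C.rH_spec y⁻¹
  apply Subtype.ext
  show ((C.rW : ↥(twistedG2 K e)) : GL chevG2.Idx K) * (C.rH y : ↥(twistedG2 K e)) * ((C.rW : ↥(twistedG2 K e)) : GL chevG2.Idx K)⁻¹ = _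
  have hb : τ⁻¹ g2B' = ⟨chevG2.neg g2b, by decide +kernel⟩ := by
    rw [Equiv.Perm.inv_eq_iff_eq]
    apply Fin.ext
    rw [hτ]
    decide +kernel
  have ha : τ⁻¹ g2A' = ⟨chevG2.neg g2a, by decide +kernel⟩ := by
    rw [Equiv.Perm.inv_eq_iff_eq]
    apply Fin.ext
    rw [hτ]
    decide +kernel
  obtain ⟨e1, e2⟩ := g2_coef_neg (C.rH_diag y) hd
  apply H_ext (TG2.extra.diagonal_conj TG2.good C.rW_N (C.rH_diag y)) (C.rH_diag _) (hd.hconj hw) hd'
  · show d (τ⁻¹ g2B') = _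
    rw [hb, e1, h1, h1']
    simp
  · show d (τ⁻¹ g2A') = _
    rw [ha, e2, h2, h2']
    simp

/-- The Weyl element maps `U` to `V`. -/
theorem RCtx.rW_conj_U {x : GL chevG2.Idx K} (hx : x ∈ chevG2.posUnipotent K) :
    ((C.rW : ↥(twistedG2 K e)) : GL chevG2.Idx K) * x * ((C.rW : ↥(twistedG2 K e)) : GL chevG2.Idx K)⁻¹ ∈ chevG2.negUnipotent K := by
  obtain ⟨τ, d₀, hw, hτ⟩ := C.rW_mono
  rw [TG2.good.posUnipotent_eq] at hx
  induction hx using Subgroup.closure_induction with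
  | mem x hx =>
    obtain ⟨r, hr, t, rfl⟩ := hx
    have hlt : r < chevG2.nroots := hr.1
    have h2 := (TG2.extra.posIff r hlt).1 hr
    have h1 := hw.conj ⟨r, hlt⟩ t
    have h3 : (⟨r, hlt⟩ : Fin chevG2.nroots).val = r := rfl
    rw [h3] at h1
    rw [h1, hτ]
    have key : ∀ r < chevG2.nroots, chevG2.nroots / 2 ≤ r → chevG2.neg r < chevG2.nroots ∧ chevG2.neg r < chevG2.nroots / 2 := by decide +kernel
    have h4 := key r hlt h2
    exact TG2.good.negUnipotent_mem ((TG2.extra.negIff _ h4.1).2 h4.2) _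
  | one => simp
  | mul a b _ _ ha hb =>
    have e1 : ((C.rW : ↥(twistedG2 K e)) : GL chevG2.Idx K) * (a * b) * ((C.rW : ↥(twistedG2 K e)) : GL chevG2.Idx K)⁻¹ =
        (((C.rW : ↥(twistedG2 K e)) : GL chevG2.Idx K) * a * ((C.rW : ↥(twistedG2 K e)) : GL chevG2.Idx K)⁻¹) * (((C.rW : ↥(twistedG2 K e)) : GL chevG2.Idx K) * b * ((C.rW : ↥(twistedG2 K e)) : GL chevG2.Idx K)⁻¹) := by group
    rw [e1]
    exact mul_mem ha hb
  | inv a _ ha =>
    have e1 : ((C.rW : ↥(twistedG2 K e)) : GL chevG2.Idx K) * a⁻¹ * ((C.rW : ↥(twistedG2 K e)) : GL chevG2.Idx K)⁻¹ =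
        (((C.rW : ↥(twistedG2 K e)) : GL chevG2.Idx K) * a * ((C.rW : ↥(twistedG2 K e)) : GL chevG2.Idx K)⁻¹)⁻¹ := by group
    rw [e1]
    exact inv_mem ha

/-- The Borel subgroup. -/
theorem RCtx.mem_B_iff {g : GL chevG2.Idx K} : g ∈ chevG2.borelSubgroup K ⊓ twistedG2 K e ↔ ∃ t u v y, g = ((C.rS t u v * C.rH y : ↥(twistedG2 K e)) : GL chevG2.Idx K) := by
  haveI := C.char
  have hperf : ∀ x : K, ∃ y : K, y ^ 3 = x := fun x => ⟨C.φ (C.φ x), C.hφ2 x⟩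
  constructor
  · intro hg
    obtain ⟨Dt, e', hJ⟩ := g2_td hperf C.φ C.hφ2 C.hφ
    obtain ⟨u, hu, h, hh, e1⟩ := (Dt.twist TG2.extra TG2.braid).B_T (b := g) hg
    have hU := Dt.U_inf_T TG2.extra TG2.braid
    have hu' : u ∈ chevG2.posUnipotent K ⊓ twistedG2 K e := by
      rw [hU]
      exact hu
    obtain ⟨t, a, v, rfl⟩ := C.mem_U_iff.1 hu'
    obtain ⟨y, rfl⟩ := C.mem_H_iff.1 hh
    exact ⟨t, a, v, y, e1⟩
  · rintro ⟨t, u, v, y, rfl⟩
    refine Subgroup.mem_inf.2 ⟨mul_mem (Subgroup.mem_sup_left (C.rS_mem_U t u v)) (Subgroup.mem_sup_right (C.rH_diag y)), Subtype.property _⟩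

/-- The Borel subgroup of the group. -/
def borelOf (K : Type*) [Field K] (e : ℕ) : Subgroup ↥(twistedG2 K e) := (chevG2.borelSubgroup K ⊓ twistedG2 K e).subgroupOf (twistedG2 K e)

lemma RCtx.mem_borelOf {g : ↥(twistedG2 K e)} : g ∈ borelOf K e ↔ ∃ t u v y, g = C.rS t u v * C.rH y := by
  unfold borelOf
  rw [Subgroup.mem_subgroupOf, C.mem_B_iff]
  constructor
  · rintro ⟨t, u, v, y, h⟩
    exact ⟨t, u, v, y, Subtype.ext h⟩
  · rintro ⟨t, u, v, y, rfl⟩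
    exact ⟨t, u, v, y, rfl⟩

lemma RCtx.rS_mem_B (t u v : K) : C.rS t u v ∈ borelOf K e := by
  rw [C.mem_borelOf]
  exact ⟨t, u, v, 1, by simp⟩

lemma RCtx.rH_mem_B (y : Kˣ) : C.rH y ∈ borelOf K e := by
  rw [C.mem_borelOf]
  exact ⟨0, 0, 0, y, by rw [C.rS_zero, one_mul]⟩

/-- The square of the Weyl element lies in the torus. -/
theorem RCtx.rW_sq : ∃ y, C.rW * C.rW = C.rH y := by
  have h1 : ((C.rW * C.rW : ↥(twistedG2 K e)) : GL chevG2.Idx K) ∈ chevG2.monomialSubgroup K ⊓ twistedG2 K e :=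
    Subgroup.mem_inf.2 ⟨mul_mem C.rW_N C.rW_N, Subtype.property _⟩
  obtain ⟨τ, d₀, hw, hτ⟩ := C.rW_mono
  have hnot : ((C.rW : ↥(twistedG2 K e)) : GL chevG2.Idx K) ∉ chevG2.diagonalSubgroup K := by
    intro h
    have h3 := TG2.extra.perm_of_H TG2.good TG2.braid h hw
    have h4 := hτ g2b (by decide +kernel)
    rw [h3] at h4
    exact absurd h4 (by decide +kernel)
  rcases C.rW_cases h1 with h | h
  · obtain ⟨y, hy⟩ := C.mem_H_iff.1 (Subgroup.mem_inf.2 ⟨h, Subtype.property _⟩)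
    exact ⟨y, Subtype.ext hy⟩
  · exfalso
    apply hnot
    have e1 : ((C.rW : ↥(twistedG2 K e)) : GL chevG2.Idx K)⁻¹ * ((C.rW * C.rW : ↥(twistedG2 K e)) : GL chevG2.Idx K) = (C.rW : ↥(twistedG2 K e)) := by
      show ((C.rW : ↥(twistedG2 K e)) : GL chevG2.Idx K)⁻¹ * (((C.rW : ↥(twistedG2 K e)) : GL chevG2.Idx K) * ((C.rW : ↥(twistedG2 K e)) : GL chevG2.Idx K)) = _
      group
    rwa [e1] at h

/-- The Weyl element is outside of the Borel subgroup. -/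
theorem RCtx.rW_not_B : C.rW ∉ borelOf K e := by
  intro h
  obtain ⟨τ, d₀, hw, hτ⟩ := C.rW_mono
  have h1 : ((C.rW : ↥(twistedG2 K e)) : GL chevG2.Idx K) ∈ chevG2.borelSubgroup K ⊓ chevG2.monomialSubgroup K :=
    Subgroup.mem_inf.2 ⟨(Subgroup.mem_inf.1 h).1, C.rW_N⟩
  rw [TG2.extra.borel_inf_monomial TG2.good TG2.braid] at h1
  have h3 := TG2.extra.perm_of_H TG2.good TG2.braid h1 hw
  have h4 := hτ g2b (by decide +kernel)
  rw [h3] at h4
  exact absurd h4 (by decide +kernel)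

/-- If `w s w⁻¹` lies in the Borel subgroup then `s = 1`. -/
theorem RCtx.conj_rS_B {t u v : K} (h : C.rW * C.rS t u v * C.rW⁻¹ ∈ borelOf K e) : t = 0 ∧ u = 0 ∧ v = 0 := by
  have h1 : ((C.rW * C.rS t u v * C.rW⁻¹ : ↥(twistedG2 K e)) : GL chevG2.Idx K) ∈ chevG2.borelSubgroup K := (Subgroup.mem_inf.1 h).1
  have h2 := TG2.extra.B_V TG2.good h1 (C.rW_conj_U (C.rS_mem_U t u v))
  have h3 : C.rW * C.rS t u v * C.rW⁻¹ = 1 := Subtype.ext h2
  have h4 : C.rS t u v = C.rS 0 0 0 := by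
    rw [C.rS_zero]
    have := conj_eq_one_iff.1 h3
    exact this
  exact C.rS_inj h4

/-- The decomposition of an element of the group. -/
theorem RCtx.bruhat (g : ↥(twistedG2 K e)) : (∃ t u v y, g = C.rS t u v * C.rH y) ∨
    ∃ t u v y t' u' v', g = C.rS t u v * C.rH y * C.rW * C.rS t' u' v' := by
  obtain ⟨a, ha, n, hn, c, hc, e1⟩ := C.canonical g
  obtain ⟨t, u, v, rfl⟩ := C.mem_U_iff.1 ha
  obtain ⟨t', u', v', rfl⟩ := C.mem_U_iff.1 hc
  rcases C.rW_cases hn with h | h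
  · left
    obtain ⟨y, rfl⟩ := C.mem_H_iff.1 (Subgroup.mem_inf.2 ⟨h, (Subgroup.mem_inf.1 hn).2⟩)
    have e2 : g = C.rS t u v * C.rH y * C.rS t' u' v' := Subtype.ext e1
    have e3 : C.rH y * C.rS t' u' v' = C.rS ((y : K) * t') ((y : K) * C.ρ y * u') ((y : K) ^ 2 * C.ρ y * v') * C.rH y := by
      rw [← C.rH_conj]
      group
    rw [mul_assoc, e3, ← mul_assoc, C.rS_mul] at e2
    exact ⟨_, _, _, _, e2⟩
  · right
    have hT : ((C.rW : ↥(twistedG2 K e)) : GL chevG2.Idx K)⁻¹ * n ∈ twistedG2 K e := mul_mem (inv_mem (Subtype.property _)) (Subgroup.mem_inf.1 hn).2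
    obtain ⟨y, hy⟩ := C.mem_H_iff.1 (Subgroup.mem_inf.2 ⟨h, hT⟩)
    have e2 : n = ((C.rW * C.rH y : ↥(twistedG2 K e)) : GL chevG2.Idx K) := by
      show n = ((C.rW : ↥(twistedG2 K e)) : GL chevG2.Idx K) * (C.rH y : ↥(twistedG2 K e))
      rw [← hy]
      group
    have e3 : C.rW * C.rH y = C.rH y⁻¹ * C.rW := by
      rw [← C.rW_conj]
      group
    rw [e3] at e2
    refine ⟨t, u, v, y⁻¹, t', u', v', Subtype.ext ?_⟩
    rw [e1, e2]
    simp only [Subgroup.coe_mul, mul_assoc]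

end ctx

end CfsgLib.Ree
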