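/-
The action of the small Ree groups on the cosets of the Borel subgroup.
-/
import Cfsg.Agent.Lib.Ree.Bruhat

set_option autoImplicit false
set_option synthInstance.maxHeartbeats 400000
set_option synthInstance.maxSize 1024

namespace CfsgLib.Ree

open Cfsg.Lie Cfsg.Lie.ChevalleyDatum CfsgLib.BN CfsgLib.Chev

section ctx

variable {K : Type*} [Field K] [Fintype K] {e : ℕ} (C : RCtx K e)

/-- The points. -/
abbrev Pts (K : Type*) [Field K] (e : ℕ) := ↥(twistedG2 K e) ⧸ borelOf K e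

omit [Fintype K] in
/-- The inverse in `U¹`. -/
theorem RCtx.rS_inv (t u v : K) : (C.rS t u v)⁻¹ = C.rS (-t) (-u - t * C.ρ t) (-v - t * u + t ^ 2 * C.ρ t) := by
  apply inv_eq_of_mul_eq_one_right
  rw [C.rS_mul, ← C.rS_zero]
  congr 1
  · ring
  · rw [map_neg]
    ring
  · rw [map_neg]
    linear_combination (t ^ 2 * C.ρ t) * C.three

/-- The point at infinity. -/
def ptI : Pts K e := QuotientGroup.mk 1

/-- The finite points. -/
noncomputable def RCtx.ptF (t u v : K) : Pts K e := QuotientGroup.mk (C.rS t u v * C.rW)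

lemma smul_ptI (g : ↥(twistedG2 K e)) : g • (ptI : Pts K e) = QuotientGroup.mk g := by
  show QuotientGroup.mk (g * 1) = _
  rw [mul_one]

lemma fix_ptI {g : ↥(twistedG2 K e)} : g • (ptI : Pts K e) = ptI ↔ g ∈ borelOf K e := by
  rw [smul_ptI]
  unfold ptI
  rw [QuotientGroup.eq]
  simp

lemma mk_eq_smul (g : ↥(twistedG2 K e)) (x : ↥(twistedG2 K e)) : g • (QuotientGroup.mk x : Pts K e) = QuotientGroup.mk (g * x) := rfl

lemma RCtx.ptF_eq_smul (t u v : K) : C.ptF t u v = C.rS t u v • C.rW • (ptI : Pts K e) := by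
  rw [smul_ptI, mk_eq_smul]
  rfl

lemma RCtx.rS_smul_ptF (t u v t' u' v' : K) : C.rS t u v • C.ptF t' u' v' =
    C.ptF (t + t') (u + u' - t * C.ρ t') (v + v' - t ^ 2 * C.ρ t' - t' * u + t * t' * C.ρ t') := by
  unfold RCtx.ptF
  rw [mk_eq_smul, ← mul_assoc, C.rS_mul]

lemma RCtx.rS_smul_ptI (t u v : K) : C.rS t u v • (ptI : Pts K e) = ptI := fix_ptI.2 (C.rS_mem_B t u v)

lemma RCtx.rH_smul_ptI (y : Kˣ) : C.rH y • (ptI : Pts K e) = ptI := fix_ptI.2 (C.rH_mem_B y)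

lemma RCtx.rH_smul_ptF (y : Kˣ) (t u v : K) : C.rH y • C.ptF t u v = C.ptF ((y : K) * t) ((y : K) * C.ρ y * u) ((y : K) ^ 2 * C.ρ y * v) := by
  unfold RCtx.ptF
  rw [mk_eq_smul, QuotientGroup.eq, ← C.rH_conj]
  have e2 : ((C.rH y * (C.rS t u v * C.rW))⁻¹ * (C.rH y * C.rS t u v * (C.rH y)⁻¹ * C.rW)) = (C.rW⁻¹ * C.rH y * C.rW)⁻¹ := by group
  rw [e2]
  apply inv_mem
  have e3 : C.rW⁻¹ * C.rH y * C.rW = C.rH y⁻¹ := by
    have := C.rW_conj y⁻¹
    rw [inv_inv] at this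
    rw [← this]
    group
  rw [e3]
  exact C.rH_mem_B _

lemma RCtx.rW_smul_ptI : C.rW • (ptI : Pts K e) = C.ptF 0 0 0 := by
  rw [C.ptF_eq_smul, C.rS_zero, one_smul]

lemma RCtx.rW_smul_ptF0 : C.rW • C.ptF 0 0 0 = (ptI : Pts K e) := by
  rw [C.ptF_eq_smul, C.rS_zero, one_smul, smul_smul]
  obtain ⟨y, hy⟩ := C.rW_sq
  rw [hy, C.rH_smul_ptI]

lemma RCtx.ptF_ne_ptI (t u v : K) : C.ptF t u v ≠ ptI := by
  intro h
  rw [C.ptF_eq_smul] at h
  have h1 : C.rS t u v * C.rW ∈ borelOf K e := by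
    rw [← fix_ptI, mul_smul]
    exact h
  apply C.rW_not_B
  have e1 : C.rW = (C.rS t u v)⁻¹ * (C.rS t u v * C.rW) := by group
  rw [e1]
  exact mul_mem (inv_mem (C.rS_mem_B t u v)) h1

lemma RCtx.ptF_inj {t u v t' u' v' : K} (h : C.ptF t u v = C.ptF t' u' v') : t = t' ∧ u = u' ∧ v = v' := by
  unfold RCtx.ptF at h
  rw [QuotientGroup.eq] at h
  have e1 : (C.rS t u v * C.rW)⁻¹ * (C.rS t' u' v' * C.rW) = C.rW⁻¹ * ((C.rS t u v)⁻¹ * C.rS t' u' v') * C.rW := by group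
  rw [e1] at h
  -- the inverse of an element of `U¹`
  have hinv : ∃ a b c : K, (C.rS t u v)⁻¹ * C.rS t' u' v' = C.rS a b c ∧ a = t' - t := by
    rw [C.rS_inv, C.rS_mul]
    exact ⟨_, _, _, rfl, by ring⟩
  obtain ⟨a, b, c, h4, h5⟩ := hinv
  rw [h4] at h
  obtain ⟨τ, d₀, hw, hτ⟩ := C.rW_mono
  obtain ⟨y, hy⟩ := C.rW_sq
  have h6 : C.rW * C.rS a b c * C.rW⁻¹ ∈ borelOf K e := by
    have e2 : C.rW * C.rS a b c * C.rW⁻¹ = (C.rW * C.rW) * (C.rW⁻¹ * C.rS a b c * C.rW) * (C.rW * C.rW)⁻¹ := by group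
    rw [e2, hy]
    exact mul_mem (mul_mem (C.rH_mem_B y) h) (inv_mem (C.rH_mem_B y))
  obtain ⟨h7, h8, h9⟩ := C.conj_rS_B h6
  have h10 : C.rS t' u' v' = C.rS t u v := by
    have : (C.rS t u v)⁻¹ * C.rS t' u' v' = 1 := by
      rw [h4, h7, h8, h9, C.rS_zero]
    exact (inv_mul_eq_one.1 this).symm
  obtain ⟨h11, h12, h13⟩ := C.rS_inj h10
  exact ⟨h11.symm, h12.symm, h13.symm⟩

/-- All points. -/
theorem RCtx.pt_cases (x : Pts K e) : x = ptI ∨ ∃ t u v, x = C.ptF t u v := by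
  induction x using QuotientGroup.induction_on with
  | H g =>
    rcases C.bruhat g with ⟨t, u, v, y, rfl⟩ | ⟨t, u, v, y, t', u', v', rfl⟩
    · left
      rw [← smul_ptI]
      exact fix_ptI.2 (mul_mem (C.rS_mem_B _ _ _) (C.rH_mem_B _))
    · right
      refine ⟨t, u, v, ?_⟩
      rw [← smul_ptI, mul_smul, C.rS_smul_ptI, mul_smul, mul_smul, C.ptF_eq_smul]
      congr 1
      -- `h w ∞ = w ∞`
      have e1 : C.rH y * C.rW = C.rW * C.rH y⁻¹ := by
        have := C.rW_conj y⁻¹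
        rw [inv_inv] at this
        rw [← this]
        group
      rw [← mul_smul, e1, mul_smul, C.rH_smul_ptI]

/-- Double transitivity. -/
theorem RCtx.exists_move {x y : Pts K e} (h : x ≠ y) : ∃ g : ↥(twistedG2 K e), g • x = ptI ∧ g • y = C.ptF 0 0 0 := by
  -- first move `x` to infinity
  have h1 : ∃ g : ↥(twistedG2 K e), g • x = ptI := by
    rcases C.pt_cases x with rfl | ⟨t, u, v, rfl⟩
    · exact ⟨1, one_smul _ _⟩
    · refine ⟨(C.rS t u v * C.rW)⁻¹, ?_⟩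
      rw [C.ptF_eq_smul, ← mul_smul, ← mul_smul]
      simp
  obtain ⟨g, hg⟩ := h1
  have h2 : g • y ≠ ptI := by
    intro h3
    apply h
    rw [← hg] at h3
    exact (MulAction.injective g h3).symm
  rcases C.pt_cases (g • y) with h3 | ⟨t, u, v, h3⟩
  · exact absurd h3 h2
  · -- translate
    refine ⟨(C.rS t u v)⁻¹ * g, ?_, ?_⟩
    · rw [mul_smul, hg, C.rS_inv, C.rS_smul_ptI]
    · rw [mul_smul, h3, C.ptF_eq_smul, inv_smul_smul, C.rW_smul_ptI]

/-- The stabiliser of the points `∞` and `0`. -/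
theorem RCtx.stab_two {g : ↥(twistedG2 K e)} (h1 : g • (ptI : Pts K e) = ptI) (h2 : g • C.ptF 0 0 0 = C.ptF 0 0 0) : ∃ y, g = C.rH y := by
  obtain ⟨t, u, v, y, rfl⟩ := C.mem_borelOf.1 (fix_ptI.1 h1)
  rw [mul_smul, C.rH_smul_ptF, C.rS_smul_ptF] at h2
  simp only [mul_zero, add_zero, map_zero, zero_mul, sub_zero] at h2
  obtain ⟨rfl, rfl, rfl⟩ := C.ptF_inj h2
  exact ⟨y, by rw [C.rS_zero, one_mul]⟩

omit [Fintype K] in
/-- Values of `ρ`. -/
lemma RCtx.ρ_ρ (x : K) : C.ρ (C.ρ x) = x ^ 3 := by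
  apply C.φ.injective
  apply C.φ.injective
  rw [C.φ_ρ, C.φ_ρ, map_pow, map_pow, C.hφ2]

omit [Fintype K] in
/-- The second weight. -/
lemma RCtx.weight_two {y : K} (hy : y ≠ 0) (h : y * C.ρ y = 1) : y ^ 2 = 1 := by
  have h1 : C.ρ y = y⁻¹ := eq_inv_of_mul_eq_one_right h
  have h2 := C.ρ_ρ y
  rw [h1, map_inv₀, h1, inv_inv] at h2
  have : y * (y ^ 2 - 1) = 0 := by linear_combination -h2
  have h3 := (mul_eq_zero.1 this).resolve_left hy
  linear_combination h3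

omit [Fintype K] in
/-- The third weight. -/
lemma RCtx.weight_three {y : K} (hy : y ≠ 0) (h : y ^ 2 * C.ρ y = 1) : y = 1 := by
  have h1 : C.ρ y = (y ^ 2)⁻¹ := eq_inv_of_mul_eq_one_right h
  have h2 := C.ρ_ρ y
  rw [h1, map_inv₀, map_pow, h1] at h2
  field_simp at h2
  exact h2

omit [Fintype K] in
lemma sq_cases {y : K} (h : y ^ 2 = 1) : y = 1 ∨ y = -1 := by
  have h1 : (y - 1) * (y + 1) = 0 := by linear_combination h
  rcases mul_eq_zero.1 h1 with h2 | h2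
  · exact Or.inl (sub_eq_zero.1 h2)
  · exact Or.inr (eq_neg_of_add_eq_zero_left h2)

end ctx

end CfsgLib.Ree
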