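/-
First structural results on the small Ree groups.
-/
import Cfsg.Agent.Lib.Ree.Points

set_option autoImplicit false
set_option synthInstance.maxHeartbeats 400000
set_option synthInstance.maxSize 1024

namespace CfsgLib.Ree

open Cfsg.Lie Cfsg.Lie.ChevalleyDatum CfsgLib.BN CfsgLib.Chev

section ctx

variable {K : Type*} [Field K] [Fintype K] {e : ℕ} (C : RCtx K e)

/-- `H¹` as the units of the field. -/
noncomputable def RCtx.hHom : Kˣ →* ↥(chevG2.diagonalSubgroup K ⊓ twistedG2 K e) where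
  toFun y := ⟨(C.rH y : ↥(twistedG2 K e)), C.mem_H_iff.2 ⟨y, rfl⟩⟩
  map_one' := by
    apply Subtype.ext
    simp
  map_mul' y y' := by
    apply Subtype.ext
    simp

lemma RCtx.hHom_bij : Function.Bijective C.hHom := by
  constructor
  · intro y y' h
    have h1 := congrArg Subtype.val h
    exact C.rH_inj (Subtype.ext h1)
  · rintro ⟨g, hg⟩
    obtain ⟨y, rfl⟩ := C.mem_H_iff.1 hg
    exact ⟨y, rfl⟩

/-- `H¹` is isomorphic to the units. -/
noncomputable def RCtx.hEquiv : Kˣ ≃* ↥(chevG2.diagonalSubgroup K ⊓ twistedG2 K e) := MulEquiv.ofBijective C.hHom C.hHom_bij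

/-- `H¹` is cyclic. -/
theorem RCtx.H_cyclic (C : RCtx K e) : IsCyclic ↥(chevG2.diagonalSubgroup K ⊓ twistedG2 K e) :=
  isCyclic_of_surjective C.hHom C.hHom_bij.2

/-- Counting elements of odd order in a cyclic group of order twice an odd number. -/
lemma card_odd_cyclic {A : Type*} [CommGroup A] [Finite A] [IsCyclic A] {M : ℕ} (hM : Odd M) (hA : Nat.card A = 2 * M) :
    Nat.card {x : A // Odd (orderOf x)} = M := by
  have h1 : ∀ x : A, Odd (orderOf x) ↔ x ∈ (powMonoidHom M : A →* A).ker := by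
    intro x
    rw [MonoidHom.mem_ker, powMonoidHom_apply]
    constructor
    · intro h
      have h2 : orderOf x ∣ 2 * M := by
        rw [← hA]
        exact orderOf_dvd_natCard x
      have h3 : Nat.Coprime (orderOf x) 2 := Nat.Coprime.symm (Nat.coprime_two_left.2 h)
      exact orderOf_dvd_iff_pow_eq_one.1 (h3.dvd_of_dvd_mul_left h2)
    · intro h
      exact Odd.of_dvd_nat hM (orderOf_dvd_of_pow_eq_one h)
  have h2 : Nat.card {x : A // Odd (orderOf x)} = Nat.card (powMonoidHom M : A →* A).ker := by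
    apply Nat.card_congr
    exact Equiv.subtypeEquivRight h1
  rw [h2]
  have h3 := (powMonoidHom M : A →* A).ker.card_mul_index
  rw [IsCyclic.index_powMonoidHom_ker, hA] at h3
  have h4 : (2 * M).gcd M = M := Nat.gcd_eq_right (Dvd.intro_left 2 rfl)
  rw [h4] at h3
  have hM0 : 0 < M := hM.pos
  have h5 : 2 * M / M = 2 := Nat.mul_div_cancel _ hM0
  rw [h5] at h3
  omega

end ctx

section card

variable {K : Type*} [Field K] [Fintype K] {m : ℕ} (hK : Fintype.card K = 3 ^ (2 * m + 1))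

include hK in
/-- The number of elements of odd order. -/
theorem H_odd_count (C : RCtx K (3 ^ m)) : 2 * Nat.card {h : ↥(chevG2.diagonalSubgroup K ⊓ twistedG2 K (3 ^ m)) // Odd (orderOf h)} = 3 ^ (2 * m + 1) - 1 := by
  classical
  have hq : 3 ^ (2 * m + 1) % 4 = 3 := by
    rw [pow_succ, pow_mul, Nat.mul_mod, Nat.pow_mod]
    norm_num
  have hcard : Nat.card Kˣ = 3 ^ (2 * m + 1) - 1 := by
    rw [Nat.card_eq_fintype_card, Fintype.card_units, hK]
  obtain ⟨M, hM⟩ : ∃ M, 3 ^ (2 * m + 1) - 1 = 2 * M ∧ Odd M := by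
    generalize 3 ^ (2 * m + 1) = q at hq
    refine ⟨(q - 1) / 2, by omega, ?_⟩
    rw [Nat.odd_iff]
    omega
  have h2 : Nat.card {h : ↥(chevG2.diagonalSubgroup K ⊓ twistedG2 K (3 ^ m)) // Odd (orderOf h)} = Nat.card {y : Kˣ // Odd (orderOf y)} := by
    apply Nat.card_congr
    refine (Equiv.subtypeEquiv C.hEquiv.toEquiv ?_).symm
    intro y
    show Odd (orderOf y) ↔ Odd (orderOf (C.hEquiv y))
    rw [MulEquiv.orderOf_eq]
  rw [h2, card_odd_cyclic hM.2 (by rw [hcard, hM.1]), hM.1]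

omit hK in
/-- Odd elements of `H¹` act fixed point freely. -/
theorem H_odd_fpf (C : RCtx K (3 ^ m)) (h : GL chevG2.Idx K) (hh : h ∈ chevG2.diagonalSubgroup K ⊓ twistedG2 K (3 ^ m)) (h1 : h ≠ 1) (hodd : Odd (orderOf h)) :
    (chevG2.posUnipotent K ⊓ twistedG2 K (3 ^ m)) ⊓ Subgroup.centralizer {h} = ⊥ := by
  obtain ⟨y, rfl⟩ := C.mem_H_iff.1 hh
  have hy1 : (y : K) ≠ 1 := by
    intro h2
    apply h1
    have : y = 1 := Units.ext h2
    rw [this, map_one]
    rfl
  have hy2 : (y : K) ^ 2 ≠ 1 := by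
    intro h2
    apply h1
    have h3 : y ^ 2 = 1 := Units.ext (by simpa using h2)
    have h4 : ((C.rH y : ↥(twistedG2 K (3 ^ m))) : GL chevG2.Idx K) ^ 2 = 1 := by
      rw [← Subgroup.coe_pow, ← map_pow, h3, map_one]
      rfl
    have h5 := orderOf_dvd_of_pow_eq_one h4
    have h6 : orderOf ((C.rH y : ↥(twistedG2 K (3 ^ m))) : GL chevG2.Idx K) = 1 := by
      have h7 : Nat.Coprime (orderOf ((C.rH y : ↥(twistedG2 K (3 ^ m))) : GL chevG2.Idx K)) 2 := Nat.Coprime.symm (Nat.coprime_two_left.2 hodd)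
      exact h7.eq_one_of_dvd h5
    exact orderOf_eq_one_iff.1 h6
  rw [eq_bot_iff]
  intro x hx
  obtain ⟨hx1, hx2⟩ := Subgroup.mem_inf.1 hx
  obtain ⟨t, u, v, rfl⟩ := C.mem_U_iff.1 hx1
  rw [Subgroup.mem_centralizer_singleton_iff] at hx2
  have h3 : C.rS t u v * C.rH y = C.rH y * C.rS t u v := Subtype.ext hx2
  have h4 : C.rH y * C.rS t u v * (C.rH y)⁻¹ = C.rS t u v := by
    rw [← h3]
    group
  rw [C.rH_conj] at h4
  obtain ⟨a1, a2, a3⟩ := C.rS_inj h4
  have hy0 : (y : K) ≠ 0 := y.ne_zero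
  have b1 : t = 0 := by
    have : ((y : K) - 1) * t = 0 := by linear_combination a1
    exact (mul_eq_zero.1 this).resolve_left (sub_ne_zero.2 hy1)
  have b2 : u = 0 := by
    have : ((y : K) * C.ρ y - 1) * u = 0 := by linear_combination a2
    refine (mul_eq_zero.1 this).resolve_left (sub_ne_zero.2 ?_)
    intro h5
    exact hy2 (C.weight_two hy0 h5)
  have b3 : v = 0 := by
    have : ((y : K) ^ 2 * C.ρ y - 1) * v = 0 := by linear_combination a3
    refine (mul_eq_zero.1 this).resolve_left (sub_ne_zero.2 ?_)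
    intro h5
    exact hy1 (C.weight_three hy0 h5)
  rw [b1, b2, b3, C.rS_zero]
  exact Subgroup.mem_bot.2 rfl

end card

section three

variable {K : Type*} [Field K] [Fintype K] {e : ℕ} (C : RCtx K e)

/-- An element fixing `∞`, `0` and one more point. -/
theorem RCtx.fix_three {g : ↥(twistedG2 K e)} {t u v : K} (hne : ¬ (t = 0 ∧ u = 0 ∧ v = 0)) (h1 : g • (ptI : Pts K e) = ptI) (h2 : g • C.ptF 0 0 0 = C.ptF 0 0 0)
    (h3 : g • C.ptF t u v = C.ptF t u v) : g = 1 ∨ g = C.rH (-1) := by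
  obtain ⟨y, rfl⟩ := C.stab_two h1 h2
  rw [C.rH_smul_ptF] at h3
  obtain ⟨a1, a2, a3⟩ := C.ptF_inj h3
  have hy0 : (y : K) ≠ 0 := y.ne_zero
  have hy : (y : K) ^ 2 = 1 := by
    by_cases ht : t = 0
    · by_cases hu : u = 0
      · have hv : v ≠ 0 := fun hv => hne ⟨ht, hu, hv⟩
        have : ((y : K) ^ 2 * C.ρ y - 1) * v = 0 := by linear_combination a3
        have h5 := sub_eq_zero.1 ((mul_eq_zero.1 this).resolve_right hv)
        rw [C.weight_three hy0 h5]
        simp
      · have : ((y : K) * C.ρ y - 1) * u = 0 := by linear_combination a2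
        have h5 := sub_eq_zero.1 ((mul_eq_zero.1 this).resolve_right hu)
        exact C.weight_two hy0 h5
    · have : ((y : K) - 1) * t = 0 := by linear_combination a1
      have h5 := sub_eq_zero.1 ((mul_eq_zero.1 this).resolve_right ht)
      rw [h5]
      simp
  rcases sq_cases hy with h | h
  · left
    have : y = 1 := Units.ext h
    rw [this, map_one]
  · right
    have : y = -1 := Units.ext (by simpa using h)
    rw [this]

lemma RCtx.ρ_neg_one : C.ρ (-1) = -1 := by
  rw [map_neg, map_one]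

/-- The central involution of the torus fixes the points `(0, u, 0)`. -/
lemma RCtx.invol_fix (u : K) : C.rH (-1) • C.ptF 0 u 0 = C.ptF 0 u 0 := by
  rw [C.rH_smul_ptF]
  congr 1
  · simp
  · simp only [Units.val_neg, Units.val_one, map_neg, map_one]
    ring
  · simp

lemma RCtx.invol_ne : C.rH (-1) ≠ 1 := by
  intro h
  have h1 : (-1 : Kˣ) = 1 := C.rH_inj (by rw [h, map_one])
  apply C.neg_one_ne
  have := congrArg Units.val h1
  simpa using this

/-- Three point stabilisers in the coset action. -/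
theorem RCtx.three_pt (C : RCtx K e) : (∀ x y z : Pts K e, x ≠ y → x ≠ z → y ≠ z →
        Nat.card ↥(MulAction.stabilizer ↥(twistedG2 K e) x ⊓ MulAction.stabilizer ↥(twistedG2 K e) y ⊓ MulAction.stabilizer ↥(twistedG2 K e) z) ≤ 2) ∧
      ∃ x y z : Pts K e, x ≠ y ∧ x ≠ z ∧ y ≠ z ∧
        Nat.card ↥(MulAction.stabilizer ↥(twistedG2 K e) x ⊓ MulAction.stabilizer ↥(twistedG2 K e) y ⊓ MulAction.stabilizer ↥(twistedG2 K e) z) = 2 := by
  classical
  constructor
  · intro x y z hxy hxz hyz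
    obtain ⟨g, h1, h2⟩ := C.exists_move hxy
    have h3 : g • z ≠ ptI := by
      intro h
      apply hxz
      rw [← h1] at h
      exact (MulAction.injective g h).symm
    have h4 : g • z ≠ C.ptF 0 0 0 := by
      intro h
      apply hyz
      rw [← h2] at h
      exact (MulAction.injective g h).symm
    obtain ⟨t, u, v, h5⟩ := (C.pt_cases (g • z)).resolve_left h3
    have hne : ¬ (t = 0 ∧ u = 0 ∧ v = 0) := by
      rintro ⟨rfl, rfl, rfl⟩
      exact h4 h5
    set S := MulAction.stabilizer ↥(twistedG2 K e) x ⊓ MulAction.stabilizer ↥(twistedG2 K e) y ⊓ MulAction.stabilizer ↥(twistedG2 K e) z with hS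
    have hsub : (S : Set ↥(twistedG2 K e)) ⊆ {1, g⁻¹ * C.rH (-1) * g} := by
      intro f hf
      obtain ⟨⟨f1, f2⟩, f3⟩ := hf
      have f1' : f • x = x := f1
      have f2' : f • y = y := f2
      have f3' : f • z = z := f3
      have a1 : (g * f * g⁻¹) • (ptI : Pts K e) = ptI := by
        rw [← h1, mul_smul, mul_smul, inv_smul_smul, f1']
      have a2 : (g * f * g⁻¹) • C.ptF 0 0 0 = C.ptF 0 0 0 := by
        rw [← h2, mul_smul, mul_smul, inv_smul_smul, f2']
      have a3 : (g * f * g⁻¹) • C.ptF t u v = C.ptF t u v := by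
        rw [← h5, mul_smul, mul_smul, inv_smul_smul, f3']
      rcases C.fix_three hne a1 a2 a3 with h | h
      · left
        have := conj_eq_one_iff.1 h
        exact this
      · right
        show f = g⁻¹ * C.rH (-1) * g
        rw [← h]
        group
    have hf : (S : Set ↥(twistedG2 K e)).Finite := by
      exact Set.Finite.subset (Set.toFinite _) hsub
    have hc : Nat.card ↥S = (S : Set ↥(twistedG2 K e)).ncard := Nat.card_coe_set_eq _
    rw [hc]
    calc (S : Set ↥(twistedG2 K e)).ncard ≤ ({1, g⁻¹ * C.rH (-1) * g} : Set ↥(twistedG2 K e)).ncard := Set.ncard_le_ncard hsub (Set.toFinite _)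
      _ ≤ 2 := (Set.ncard_insert_le _ _).trans (by simp)
  · refine ⟨ptI, C.ptF 0 0 0, C.ptF 0 1 0, (C.ptF_ne_ptI _ _ _).symm, (C.ptF_ne_ptI _ _ _).symm, ?_, ?_⟩
    · intro h
      have := (C.ptF_inj h).2.1
      exact zero_ne_one this
    · set S := MulAction.stabilizer ↥(twistedG2 K e) (ptI : Pts K e) ⊓ MulAction.stabilizer ↥(twistedG2 K e) (C.ptF 0 0 0) ⊓ MulAction.stabilizer ↥(twistedG2 K e) (C.ptF 0 1 0) with hS
      have hset : (S : Set ↥(twistedG2 K e)) = {1, C.rH (-1)} := by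
        ext f
        constructor
        · intro hf
          obtain ⟨⟨f1, f2⟩, f3⟩ := hf
          exact C.fix_three (t := 0) (u := 1) (v := 0) (fun h => one_ne_zero h.2.1) f1 f2 f3
        · rintro (rfl | rfl)
          · exact one_mem S
          · refine ⟨⟨C.rH_smul_ptI _, ?_⟩, C.invol_fix 1⟩
            exact C.invol_fix 0
      have hc : Nat.card ↥S = (S : Set ↥(twistedG2 K e)).ncard := Nat.card_coe_set_eq _
      rw [hc, hset, Set.ncard_pair C.invol_ne.symm]

end three

end CfsgLib.Ree
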