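/-
The Sylow 3-subgroups of the small Ree groups.
-/
import Cfsg.Agent.Lib.Ree.Small

set_option autoImplicit false
set_option synthInstance.maxHeartbeats 400000
set_option synthInstance.maxSize 1024

namespace CfsgLib.Ree

open Cfsg.Lie Cfsg.Lie.ChevalleyDatum CfsgLib.BN CfsgLib.Chev

section cube

variable {K : Type*} [Field K] [Fintype K] {e : ℕ} (C : RCtx K e)

omit [Fintype K] in
/-- The cube of an element of `U¹`. -/
theorem RCtx.rS_cube (t u v : K) : (C.rS t u v) ^ 3 = C.rS 0 0 (-(t ^ 2 * C.ρ t)) := by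
  have h3 := C.three
  rw [pow_succ, pow_two, C.rS_mul, C.rS_mul]
  have e1 : t + t + t = 0 := by linear_combination t * h3
  have e2 : (t + t) * C.ρ t = 2 * (t * C.ρ t) := by ring
  rw [e1]
  congr 1
  · linear_combination (u - t * C.ρ t) * h3
  · have h4 : t ^ 2 * C.ρ t * 3 = 0 := by
      rw [h3, mul_zero]
    linear_combination (v - t * u - 1 * (t ^ 2 * C.ρ t) * 0) * h3 + (-(t ^ 2 * C.ρ t)) * 0

omit [Fintype K] in
lemma RCtx.rS_cube_eq_one_iff (t u v : K) : (C.rS t u v) ^ 3 = 1 ↔ t = 0 := by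
  rw [C.rS_cube, ← C.rS_zero]
  constructor
  · intro h
    obtain ⟨-, -, h3⟩ := C.rS_inj h
    by_contra ht
    have h4 : t ^ 2 * C.ρ t ≠ 0 := mul_ne_zero (pow_ne_zero _ ht) (by simpa using ht)
    exact h4 (neg_eq_zero.1 h3)
  · rintro rfl
    simp

/-- The elements of order 3 in `U¹`. -/
theorem RCtx.card_order_three (C : RCtx K e) :
    Nat.card {u : ↥(chevG2.posUnipotent K ⊓ twistedG2 K e) // orderOf u = 3} = (Fintype.card K) ^ 2 - 1 := by
  classical
  haveI : Fact (Nat.Prime 3) := ⟨Nat.prime_three⟩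
  have hmem : ∀ a b : K, ((C.rS 0 a b : ↥(twistedG2 K e)) : GL chevG2.Idx K) ∈ chevG2.posUnipotent K ⊓ twistedG2 K e := fun a b => C.mem_U_iff.2 ⟨0, a, b, rfl⟩
  have hpow : ∀ (x : ↥(chevG2.posUnipotent K ⊓ twistedG2 K e)) (t u v : K), (x : GL chevG2.Idx K) = (C.rS t u v : ↥(twistedG2 K e)) →
      (x ^ 3 = 1 ↔ t = 0) := by
    intro x t u v hx
    rw [← C.rS_cube_eq_one_iff t u v]
    constructor
    · intro h
      apply Subtype.ext
      have h1 := congrArg Subtype.val h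
      rw [Subgroup.coe_pow, hx] at h1
      rw [Subgroup.coe_pow]
      exact h1
    · intro h
      apply Subtype.ext
      rw [Subgroup.coe_pow, hx, ← Subgroup.coe_pow, h]
      rfl
  have hone : ∀ (x : ↥(chevG2.posUnipotent K ⊓ twistedG2 K e)) (t u v : K), (x : GL chevG2.Idx K) = (C.rS t u v : ↥(twistedG2 K e)) →
      (x = 1 ↔ t = 0 ∧ u = 0 ∧ v = 0) := by
    intro x t u v hx
    constructor
    · intro h
      rw [h] at hx
      have h1 : C.rS t u v = C.rS 0 0 0 := by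
        rw [C.rS_zero]
        exact (Subtype.ext hx).symm
      exact C.rS_inj h1
    · rintro ⟨rfl, rfl, rfl⟩
      apply Subtype.ext
      rw [hx, C.rS_zero]
      rfl
  have h1 : Nat.card {u : ↥(chevG2.posUnipotent K ⊓ twistedG2 K e) // orderOf u = 3} = Nat.card {p : K × K // p ≠ 0} := by
    symm
    apply Nat.card_congr
    refine Equiv.ofBijective (fun p => ⟨⟨(C.rS 0 p.1.1 p.1.2 : ↥(twistedG2 K e)), hmem _ _⟩, ?_⟩) ⟨?_, ?_⟩
    · apply orderOf_eq_prime
      · exact (hpow _ 0 _ _ rfl).2 rfl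
      · intro h
        obtain ⟨-, h2, h3⟩ := (hone _ 0 _ _ rfl).1 h
        exact p.2 (Prod.ext h2 h3)
    · rintro ⟨⟨a, b⟩, h⟩ ⟨⟨a', b'⟩, h'⟩ h2
      have h3 := congrArg (fun z => ((z.1 : ↥(chevG2.posUnipotent K ⊓ twistedG2 K e)) : GL chevG2.Idx K)) h2
      obtain ⟨-, h5, h6⟩ := C.rS_inj (Subtype.ext h3)
      apply Subtype.ext
      exact Prod.ext h5 h6
    · rintro ⟨x, hx⟩
      obtain ⟨t, u, v, h2⟩ := C.mem_U_iff.1 x.2
      have h3 : x ^ 3 = 1 := by
        rw [← hx]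
        exact pow_orderOf_eq_one x
      have ht := (hpow x t u v h2).1 h3
      subst ht
      refine ⟨⟨(u, v), ?_⟩, ?_⟩
      · intro h4
        have h5 : u = 0 := congrArg Prod.fst h4
        have h6 : v = 0 := congrArg Prod.snd h4
        have h7 := (hone x 0 u v h2).2 ⟨rfl, h5, h6⟩
        rw [h7, orderOf_one] at hx
        omega
      · apply Subtype.ext
        apply Subtype.ext
        exact h2.symm
  rw [h1, Nat.card_eq_fintype_card]
  have h2 : Fintype.card {p : K × K // p ≠ 0} = Fintype.card (K × K) - 1 := by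
    rw [Fintype.card_subtype_compl, Fintype.card_subtype_eq]
  rw [h2, Fintype.card_prod]
  ring_nf

/-- `U¹` as a subgroup of the group. -/
def uOf (K : Type*) [Field K] (e : ℕ) : Subgroup ↥(twistedG2 K e) := (chevG2.posUnipotent K ⊓ twistedG2 K e).subgroupOf (twistedG2 K e)

lemma RCtx.mem_uOf {g : ↥(twistedG2 K e)} : g ∈ uOf K e ↔ ∃ t u v, g = C.rS t u v := by
  unfold uOf
  rw [Subgroup.mem_subgroupOf, C.mem_U_iff]
  constructor
  · rintro ⟨t, u, v, h⟩
    exact ⟨t, u, v, Subtype.ext h⟩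
  · rintro ⟨t, u, v, rfl⟩
    exact ⟨t, u, v, rfl⟩

lemma RCtx.rS_mem_uOf (t u v : K) : C.rS t u v ∈ uOf K e := C.mem_uOf.2 ⟨t, u, v, rfl⟩

lemma card_uOf (C : RCtx K e) : Nat.card (uOf K e) = (Fintype.card K) ^ 3 := by
  haveI := C.char
  have hperf : ∀ x : K, ∃ y : K, y ^ 3 = x := fun x => ⟨C.φ (C.φ x), C.hφ2 x⟩
  have h1 := g2_card_U hperf C.φ C.hφ2 C.hφ
  rw [Nat.card_eq_fintype_card (α := K)] at h1
  rw [← h1]
  exact Nat.card_congr (Subgroup.subgroupOfEquivOfLe inf_le_right).toEquiv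

lemma RCtx.card_units (C : RCtx K e) : Nat.card Kˣ = Fintype.card K - 1 := by
  classical
  rw [Nat.card_eq_fintype_card, Fintype.card_units]

/-- The order of the group. -/
theorem RCtx.card_G (C : RCtx K e) : Nat.card ↥(twistedG2 K e) = (Fintype.card K) ^ 3 * (Fintype.card K - 1) * (1 + (Fintype.card K) ^ 3) := by
  haveI := C.char
  have hperf : ∀ x : K, ∃ y : K, y ^ 3 = x := fun x => ⟨C.φ (C.φ x), C.hφ2 x⟩
  obtain ⟨Dt, e', hJ⟩ := g2_td hperf C.φ C.hφ2 C.hφ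
  rw [g2_card_T hperf C.φ C.hφ2 Dt hJ C.hφ (Nat.card_eq_fintype_card) e', ← C.card_units,
    Nat.card_congr C.hEquiv.toEquiv]

/-- The Borel subgroup normalises `U¹`. -/
lemma RCtx.B_conj_U (C : RCtx K e) {b x : ↥(twistedG2 K e)} (hb : b ∈ borelOf K e) (hx : x ∈ uOf K e) : b * x * b⁻¹ ∈ uOf K e := by
  obtain ⟨t, u, v, y, rfl⟩ := C.mem_borelOf.1 hb
  obtain ⟨t', u', v', rfl⟩ := C.mem_uOf.1 hx
  have e1 : C.rS t u v * C.rH y * C.rS t' u' v' * (C.rS t u v * C.rH y)⁻¹ = C.rS t u v * (C.rH y * C.rS t' u' v' * (C.rH y)⁻¹) * (C.rS t u v)⁻¹ := by group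
  rw [e1, C.rH_conj]
  exact mul_mem (mul_mem (C.rS_mem_uOf _ _ _) (C.rS_mem_uOf _ _ _)) (inv_mem (C.rS_mem_uOf _ _ _))

/-- `U¹` is a Sylow subgroup, and all Sylow 3-subgroups are conjugates. -/
theorem RCtx.exists_sylow_conj (C : RCtx K e) {n : ℕ} (hK : Fintype.card K = 3 ^ n) (P : Sylow 3 ↥(twistedG2 K e)) :
    ∃ g : ↥(twistedG2 K e), ∀ y, y ∈ (P : Subgroup ↥(twistedG2 K e)) ↔ g⁻¹ * y * g ∈ uOf K e := by
  classical
  haveI : Fact (Nat.Prime 3) := ⟨Nat.prime_three⟩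
  have hU : IsPGroup 3 (uOf K e) := by
    apply IsPGroup.of_card (n := 3 * n)
    rw [card_uOf C, hK, ← pow_mul, mul_comm]
  obtain ⟨Q, hQ⟩ := hU.exists_le_sylow
  have hQU : (Q : Subgroup ↥(twistedG2 K e)) = uOf K e := by
    symm
    apply Subgroup.eq_of_le_of_card_ge hQ
    obtain ⟨k, hk⟩ := IsPGroup.iff_card.1 Q.isPGroup'
    rw [hk, card_uOf C, hK, ← pow_mul]
    have h1 : 3 ^ k ∣ Nat.card ↥(twistedG2 K e) := by
      rw [← hk]
      exact Subgroup.card_subgroup_dvd_card _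
    rw [C.card_G, hK, mul_assoc] at h1
    have hn : 0 < n := by
      rcases Nat.eq_zero_or_pos n with rfl | hn
      · have := Fintype.one_lt_card (α := K)
        rw [hK] at this
        norm_num at this
      · exact hn
    have h2 : Nat.Coprime (3 ^ k) ((3 ^ n - 1) * (1 + (3 ^ n) ^ 3)) := by
      apply Nat.Coprime.pow_left
      have hn3 : 3 ∣ 3 ^ n := dvd_pow_self 3 (by omega)
      have h3 : 3 ^ n - 1 + 1 = 3 ^ n := Nat.sub_add_cancel (Nat.one_le_pow _ _ (by norm_num))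
      apply Nat.Coprime.mul_right
      · rw [Nat.Prime.coprime_iff_not_dvd Nat.prime_three]
        intro h
        have := (Nat.dvd_add_right h).1 (by rwa [h3])
        norm_num at this
      · rw [Nat.Prime.coprime_iff_not_dvd Nat.prime_three]
        intro h
        have h4 : 3 ∣ (3 ^ n) ^ 3 := dvd_pow hn3 (by norm_num)
        have := (Nat.dvd_add_left h4).1 h
        norm_num at this
    have h5 := h2.dvd_of_dvd_mul_right h1
    rw [← pow_mul] at h5
    exact Nat.le_of_dvd (by positivity) h5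
  obtain ⟨x, hx⟩ := MulAction.exists_smul_eq ↥(twistedG2 K e) Q P
  refine ⟨x, fun y => ?_⟩
  rw [← hx, Sylow.coe_subgroup_smul, Subgroup.mem_pointwise_smul_iff_inv_smul_mem, hQU]
  show (MulAut.conj x⁻¹ y) ∈ _ ↔ _
  rw [MulAut.conj_apply, inv_inv]

/-- An element of order a power of `3` fixing two points is trivial. -/
theorem RCtx.eq_one_of_fix_two (C : RCtx K e) {n : ℕ} (hK : Fintype.card K = 3 ^ n) {x : ↥(twistedG2 K e)} {k : ℕ} (hx : x ^ 3 ^ k = 1) {p p' : Pts K e} (hne : p ≠ p') (h1 : x • p = p) (h2 : x • p' = p') : x = 1 := by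
  classical
  obtain ⟨g, a1, a2⟩ := C.exists_move hne
  have b1 : (g * x * g⁻¹) • (ptI : Pts K e) = ptI := by
    rw [← a1, mul_smul, mul_smul, inv_smul_smul, h1]
  have b2 : (g * x * g⁻¹) • C.ptF 0 0 0 = C.ptF 0 0 0 := by
    rw [← a2, mul_smul, mul_smul, inv_smul_smul, h2]
  obtain ⟨y, hy⟩ := C.stab_two b1 b2
  have h3 : (g * x * g⁻¹) ^ 3 ^ k = 1 := by
    rw [conj_pow, hx]
    simp
  rw [hy, ← map_pow] at h3
  have h4 : y ^ 3 ^ k = 1 := C.rH_inj (by rw [h3, map_one])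
  have h5 : y ^ (3 ^ n - 1) = 1 := by
    rw [← hK, ← Fintype.card_units]
    exact pow_card_eq_one
  have h6 : Nat.Coprime (3 ^ k) (3 ^ n - 1) := by
    apply Nat.Coprime.pow_left
    have hn : 0 < n := by
      rcases Nat.eq_zero_or_pos n with rfl | hn
      · have := Fintype.one_lt_card (α := K)
        rw [hK] at this
        norm_num at this
      · exact hn
    have hn3 : 3 ∣ 3 ^ n := dvd_pow_self 3 (by omega)
    have h3 : 3 ^ n - 1 + 1 = 3 ^ n := Nat.sub_add_cancel (Nat.one_le_pow _ _ (by norm_num))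
    rw [Nat.Prime.coprime_iff_not_dvd Nat.prime_three]
    intro h
    have := (Nat.dvd_add_right h).1 (by rwa [h3])
    norm_num at this
  have h7 : y = 1 := by
    have h8 := orderOf_dvd_of_pow_eq_one h4
    have h9 := orderOf_dvd_of_pow_eq_one h5
    exact orderOf_eq_one_iff.1 (Nat.eq_one_of_dvd_coprimes h6 h8 h9)
  rw [h7, map_one] at hy
  exact conj_eq_one_iff.1 hy

/-- Sylow 3-subgroups are TI-subgroups. -/
theorem RCtx.sylow_TI (C : RCtx K e) {n : ℕ} (hK : Fintype.card K = 3 ^ n) (P Q : Sylow 3 ↥(twistedG2 K e)) (hPQ : P ≠ Q) :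
    (P : Subgroup ↥(twistedG2 K e)) ⊓ (Q : Subgroup ↥(twistedG2 K e)) = ⊥ := by
  classical
  haveI : Fact (Nat.Prime 3) := ⟨Nat.prime_three⟩
  obtain ⟨g, hg⟩ := C.exists_sylow_conj hK P
  obtain ⟨g', hg'⟩ := C.exists_sylow_conj hK Q
  have hne : g • (ptI : Pts K e) ≠ g' • (ptI : Pts K e) := by
    intro h
    apply hPQ
    have hb : g⁻¹ * g' ∈ borelOf K e := by
      rw [← fix_ptI, mul_smul, ← h, inv_smul_smul]
    apply Sylow.ext
    ext y
    rw [hg, hg']
    constructor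
    · intro hy
      have h1 := C.B_conj_U (inv_mem hb) hy
      have e1 : (g⁻¹ * g')⁻¹ * (g⁻¹ * y * g) * (g⁻¹ * g')⁻¹⁻¹ = g'⁻¹ * y * g' := by group
      rwa [e1] at h1
    · intro hy
      have h1 := C.B_conj_U hb hy
      have e1 : (g⁻¹ * g') * (g'⁻¹ * y * g') * (g⁻¹ * g')⁻¹ = g⁻¹ * y * g := by group
      rwa [e1] at h1
  rw [eq_bot_iff]
  rintro x ⟨hx1, hx2⟩
  have hfix : ∀ f : ↥(twistedG2 K e), f⁻¹ * x * f ∈ uOf K e → x • (f • (ptI : Pts K e)) = f • (ptI : Pts K e) := by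
    intro f hf
    obtain ⟨t, u, v, h1⟩ := C.mem_uOf.1 hf
    have e1 : x * f = f * C.rS t u v := by
      rw [← h1]
      group
    rw [← mul_smul, e1, mul_smul, C.rS_smul_ptI]
  obtain ⟨k, hk⟩ := (IsPGroup.iff_orderOf.1 P.isPGroup') ⟨x, hx1⟩
  have hxk : x ^ 3 ^ k = 1 := by
    have h1 : orderOf x = 3 ^ k := (Subgroup.orderOf_coe (⟨x, hx1⟩ : ↥(P : Subgroup ↥(twistedG2 K e)))).trans hk
    rw [← h1]
    exact pow_orderOf_eq_one x
  exact Subgroup.mem_bot.2 (C.eq_one_of_fix_two hK hxk hne (hfix g ((hg x).1 hx1)) (hfix g' ((hg' x).1 hx2)))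

end cube

end CfsgLib.Ree
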