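/-
Field automorphisms of the small Ree groups.
-/
import Cfsg.Agent.Lib.Ree.Small2
import Cfsg.Agent.Lib.Sz.Aut2

set_option autoImplicit false
set_option synthInstance.maxHeartbeats 400000
set_option synthInstance.maxSize 1024

namespace CfsgLib.Ree

open Cfsg.Lie Cfsg.Lie.ChevalleyDatum CfsgLib.BN CfsgLib.Chev

section field

variable {K : Type*} [Field K] [Fintype K] {e : ℕ} (C : RCtx K e)

omit [Fintype K] in
lemma glMap_word (σ : K ≃+* K) (w : List (ℕ × K)) : glMap chevG2 σ (TG2.good.wordG w) = TG2.good.wordG (w.map fun p => (p.1, σ p.2)) := by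
  induction w with
  | nil =>
    simp [Good.wordG]
  | cons a w ih =>
    rw [TG2.good.wordG_cons, map_mul, ih, TG2.good.glMap_x, List.map_cons, TG2.good.wordG_cons]

omit [Fintype K] in
lemma glMap_T (σ : K ≃+* K) {g : GL chevG2.Idx K} (hg : g ∈ twistedG2 K e) : glMap chevG2 σ g ∈ twistedG2 K e := by
  have hle : twistedG2 K e ≤ (twistedG2 K e).comap (glMap chevG2 σ).toMonoidHom := by
    apply TG2.good.gen_le
    rintro w ⟨t, u, v, rfl | rfl⟩
    · show glMap chevG2 σ _ ∈ twistedG2 K e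
      rw [glMap_word]
      apply TG2.good.wordG_mem_gen
      refine ⟨σ t, σ u, σ v, Or.inl ?_⟩
      simp [reeWordU]
    · show glMap chevG2 σ _ ∈ twistedG2 K e
      rw [glMap_word]
      apply TG2.good.wordG_mem_gen
      refine ⟨σ t, σ u, σ v, Or.inr ?_⟩
      simp [reeWordV, reeWordU, ChevalleyDatum.negWord]
  exact hle hg

/-- Field automorphisms of the group. -/
noncomputable def fA (σ : K ≃+* K) : ↥(twistedG2 K e) ≃* ↥(twistedG2 K e) where
  toFun g := ⟨glMap chevG2 σ g, glMap_T σ g.2⟩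
  invFun g := ⟨glMap chevG2 σ.symm g, glMap_T σ.symm g.2⟩
  left_inv g := Subtype.ext ((glMap chevG2 σ).symm_apply_apply (g : GL chevG2.Idx K))
  right_inv g := Subtype.ext ((glMap chevG2 σ).apply_symm_apply (g : GL chevG2.Idx K))
  map_mul' a b := Subtype.ext (map_mul _ _ _)

lemma fA_val (σ : K ≃+* K) (g : ↥(twistedG2 K e)) : ((fA σ g : ↥(twistedG2 K e)) : GL chevG2.Idx K) = glMap chevG2 σ g := rfl

lemma fA_symm_mul (σ τ : K ≃+* K) : (fA (e := e) τ)⁻¹ * fA σ = fA (σ.trans τ.symm) := by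
  apply MulEquiv.ext
  intro g
  apply Subtype.ext
  apply Units.ext
  apply Matrix.ext
  intro i j
  rfl

lemma RCtx.σ_φ (σ : K ≃+* K) (t : K) : σ (C.φ t) = C.φ (σ t) := by
  rw [C.hφ, C.hφ, map_pow]

lemma RCtx.σ_ρ (σ : K ≃+* K) (t : K) : σ (C.ρ t) = C.ρ (σ t) := by
  rw [← C.cube_eq, ← C.cube_eq, map_pow, C.σ_φ]

lemma glMap_N (σ : K ≃+* K) (B A C' E F G : K) : glMap chevG2 σ (g2N B A C' E F G) = g2N (σ B) (σ A) (σ C') (σ E) (σ F) (σ G) := by
  unfold g2N g2A
  simp only [map_mul, TG2.good.glMap_x]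

lemma RCtx.fA_S (σ : K ≃+* K) (t u v : K) : fA σ (C.rS t u v) = C.rS (σ t) (σ u) (σ v) := by
  apply Subtype.ext
  rw [fA_val, C.rS_val, C.rS_val, glMap_N]
  simp only [map_add, map_mul, map_pow, C.σ_φ, C.σ_ρ]

omit [Fintype K] in
/-- Monomial data under field automorphisms. -/
lemma IsMono_glMap {h : GL chevG2.Idx K} {π : Equiv.Perm (Fin chevG2.nroots)} {d : Fin chevG2.nroots → K} (hd : IsMono TG2.good h π d) (σ : K ≃+* K) :
    IsMono TG2.good (glMap chevG2 σ h) π (fun s => σ (d s)) where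
  d_ne s := by
    simpa using hd.d_ne s
  col_eq s := by
    show σ ((h : Matrix chevG2.Idx chevG2.Idx K) _ _) = _
    rw [hd.col_eq]
  col_ne ρ s hρ := by
    show σ ((h : Matrix chevG2.Idx chevG2.Idx K) _ _) = _
    rw [hd.col_ne ρ s hρ, map_zero]
  block v j := by
    show σ ((h : Matrix chevG2.Idx chevG2.Idx K) _ _) = _
    rw [hd.block v j, map_zero]
  conj r t := by
    have h1 := congrArg (glMap chevG2 σ) (hd.conj r (σ.symm t))
    simp only [map_mul, map_inv, TG2.good.glMap_x, RingEquiv.apply_symm_apply] at h1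
    exact h1
  neg_comp := hd.neg_comp

omit [Fintype K] in
lemma glMap_nn (σ : K ≃+* K) (r : ℕ) (t : K) : glMap chevG2 σ (TG2.good.nnG r t) = TG2.good.nnG r (σ t) := by
  simp [Good.nnG, nn, TG2.good.glMap_x, map_mul, map_neg, map_inv₀]

omit [Fintype K] in
lemma glMap_hh (σ : K ≃+* K) (r : ℕ) (t : K) : glMap chevG2 σ (TG2.good.hhG r t) = TG2.good.hhG r (σ t) := by
  have e1 : TG2.good.hhG r t = TG2.good.nnG r t * TG2.good.nnG r (-1) := rfl
  have e2 : TG2.good.hhG r (σ t) = TG2.good.nnG r (σ t) * TG2.good.nnG r (-1) := rfl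
  rw [e1, e2, map_mul, glMap_nn, glMap_nn]
  simp

omit [Fintype K] in
lemma glMap_diag (σ : K ≃+* K) {u : GL chevG2.Idx K} (hu : u ∈ chevG2.diagonalSubgroup K) : glMap chevG2 σ u ∈ chevG2.diagonalSubgroup K := by
  rw [TG2.good.diagonal_eq] at hu ⊢
  have hle : Subgroup.closure {g : GL chevG2.Idx K | ∃ r < chevG2.nroots, ∃ t : K, t ≠ 0 ∧ g = TG2.good.hhG r t} ≤
      (Subgroup.closure {g : GL chevG2.Idx K | ∃ r < chevG2.nroots, ∃ t : K, t ≠ 0 ∧ g = TG2.good.hhG r t}).comap (glMap chevG2 σ).toMonoidHom := by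
    apply (Subgroup.closure_le _).2
    rintro _ ⟨r, hr, t, ht, rfl⟩
    apply Subgroup.subset_closure
    refine ⟨r, hr, σ t, (map_ne_zero σ).2 ht, ?_⟩
    exact glMap_hh σ r t
  exact hle hu

lemma RCtx.fA_H (σ : K ≃+* K) (y : Kˣ) : fA σ (C.rH y) = C.rH (Units.map (σ : K →* K) y) := by
  apply Subtype.ext
  obtain ⟨d, hd, h1, h2⟩ := C.rH_spec y
  obtain ⟨d', hd', h1', h2'⟩ := C.rH_spec (Units.map (σ : K →* K) y)
  rw [fA_val]
  apply H_ext (glMap_diag σ (C.rH_diag y)) (C.rH_diag _) (IsMono_glMap hd σ) hd'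
  · show σ (d g2B') = _
    rw [h1, h1']
    rfl
  · show σ (d g2A') = _
    rw [h2, h2', C.σ_φ]
    rfl

end field

end CfsgLib.Ree
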