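/-
A presentation of `SL₂` over a field: maps from `SL₂` from the relations of its Bruhat decomposition.
-/
import Mathlib
import Cfsg.Agent.Lib.H9.SL2Cl

set_option autoImplicit false

namespace CfsgLib.Ree.SLP

open Matrix CfsgLib.H9.SL2Cl

variable {K : Type*} [Field K]

/-- Upper unipotent elements. -/
def up (s : K) : SL2 K := mk 1 s 0 1 (by ring)

/-- Diagonal elements. -/
def dg (y : K) (hy : y ≠ 0) : SL2 K := mk y 0 0 y⁻¹ (by field_simp; ring)

/-- The Weyl element. -/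
def wz : SL2 K := mk 0 (-1) 1 0 (by ring)

lemma up_mul_00 (s : K) (x : SL2 K) : (up s * x).1 0 0 = x.1 0 0 + s * x.1 1 0 := by
  rw [mul_00]; simp [up]
lemma up_mul_01 (s : K) (x : SL2 K) : (up s * x).1 0 1 = x.1 0 1 + s * x.1 1 1 := by
  rw [mul_01]; simp [up]
lemma up_mul_10 (s : K) (x : SL2 K) : (up s * x).1 1 0 = x.1 1 0 := by
  rw [mul_10]; simp [up]
lemma up_mul_11 (s : K) (x : SL2 K) : (up s * x).1 1 1 = x.1 1 1 := by
  rw [mul_11]; simp [up]
lemma dg_mul_00 (y : K) (hy : y ≠ 0) (x : SL2 K) : (dg y hy * x).1 0 0 = y * x.1 0 0 := by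
  rw [mul_00]; simp [dg]
lemma dg_mul_01 (y : K) (hy : y ≠ 0) (x : SL2 K) : (dg y hy * x).1 0 1 = y * x.1 0 1 := by
  rw [mul_01]; simp [dg]
lemma dg_mul_10 (y : K) (hy : y ≠ 0) (x : SL2 K) : (dg y hy * x).1 1 0 = y⁻¹ * x.1 1 0 := by
  rw [mul_10]; simp [dg]
lemma dg_mul_11 (y : K) (hy : y ≠ 0) (x : SL2 K) : (dg y hy * x).1 1 1 = y⁻¹ * x.1 1 1 := by
  rw [mul_11]; simp [dg]
lemma wz_mul_00 (x : SL2 K) : (wz * x).1 0 0 = - x.1 1 0 := by
  rw [mul_00]; simp [wz]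
lemma wz_mul_01 (x : SL2 K) : (wz * x).1 0 1 = - x.1 1 1 := by
  rw [mul_01]; simp [wz]
lemma wz_mul_10 (x : SL2 K) : (wz * x).1 1 0 = x.1 0 0 := by
  rw [mul_10]; simp [wz]
lemma wz_mul_11 (x : SL2 K) : (wz * x).1 1 1 = x.1 0 1 := by
  rw [mul_11]; simp [wz]

/-- The relations. -/
structure Rel (K : Type*) [Field K] (Γ : Type*) [Group Γ] where
  Y : K → Γ
  H : K → Γ
  w : Γ
  Y_add : ∀ s t, Y (s + t) = Y s * Y t
  H_mul : ∀ y z, y ≠ 0 → z ≠ 0 → H (y * z) = H y * H z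
  H_Y : ∀ y u, y ≠ 0 → H y * Y u = Y (y ^ 2 * u) * H y
  w_H : ∀ y, y ≠ 0 → w * H y = H y⁻¹ * w
  w_sq : w * w = H (-1)
  w_Y : ∀ u, u ≠ 0 → w * Y u = Y (-u⁻¹) * H (-u⁻¹) * w * Y (-u⁻¹) * w

variable {Γ : Type*} [Group Γ] (R : Rel K Γ)

lemma Rel.Y_zero : R.Y 0 = 1 := by
  have := R.Y_add 0 0
  rw [add_zero] at this
  exact (mul_eq_left.1 this.symm)

lemma Rel.H_one : R.H 1 = 1 := by
  have := R.H_mul 1 1 one_ne_zero one_ne_zero
  rw [mul_one] at this
  exact (mul_eq_left.1 this.symm)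

open Classical in
/-- The map on normal forms. -/
noncomputable def Rel.psi (x : SL2 K) : Γ :=
  if x.1 1 0 = 0 then R.Y (x.1 0 0 * x.1 0 1) * R.H (x.1 0 0)
  else R.Y (x.1 0 0 / x.1 1 0) * R.H (x.1 1 0)⁻¹ * R.w * R.Y (x.1 1 1 / x.1 1 0)

lemma Rel.psi_of (x : SL2 K) (h : x.1 1 0 = 0) : R.psi x = R.Y (x.1 0 0 * x.1 0 1) * R.H (x.1 0 0) := by
  unfold Rel.psi
  rw [if_pos h]

lemma Rel.psi_of' (x : SL2 K) (h : x.1 1 0 ≠ 0) : R.psi x = R.Y (x.1 0 0 / x.1 1 0) * R.H (x.1 1 0)⁻¹ * R.w * R.Y (x.1 1 1 / x.1 1 0) := by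
  unfold Rel.psi
  rw [if_neg h]

lemma Rel.psi_one : R.psi 1 = 1 := by
  rw [R.psi_of _ (by simp)]
  simp [R.H_one, R.Y_zero]

lemma Rel.psi_up (s : K) (x : SL2 K) : R.psi (up s * x) = R.Y s * R.psi x := by
  have hd := det_eq x
  by_cases h : x.1 1 0 = 0
  · rw [R.psi_of _ (by rw [up_mul_10, h]), R.psi_of _ h, up_mul_00, up_mul_01, h]
    rw [mul_zero, add_zero, ← mul_assoc, ← R.Y_add]
    congr 2
    rw [h] at hd
    linear_combination s * hd
  · rw [R.psi_of' _ (by rw [up_mul_10]; exact h), R.psi_of' _ h, up_mul_00, up_mul_10, up_mul_11]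
    have : (x.1 0 0 + s * x.1 1 0) / x.1 1 0 = s + x.1 0 0 / x.1 1 0 := by
      field_simp
      ring
    rw [this, R.Y_add]
    group

lemma Rel.psi_dg (y : K) (hy : y ≠ 0) (x : SL2 K) : R.psi (dg y hy * x) = R.H y * R.psi x := by
  have hd := det_eq x
  by_cases h : x.1 1 0 = 0
  · have h0 : x.1 0 0 ≠ 0 := by
      intro h0
      rw [h, h0] at hd
      simp at hd
    rw [R.psi_of _ (by rw [dg_mul_10, h, mul_zero]), R.psi_of _ h, dg_mul_00, dg_mul_01]
    rw [R.H_mul _ _ hy h0, ← mul_assoc (R.H y), R.H_Y _ _ hy]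
    have e : y * x.1 0 0 * (y * x.1 0 1) = y ^ 2 * (x.1 0 0 * x.1 0 1) := by ring
    rw [e, mul_assoc]
  · have hne : y⁻¹ * x.1 1 0 ≠ 0 := mul_ne_zero (inv_ne_zero hy) h
    rw [R.psi_of' _ (by rw [dg_mul_10]; exact hne), R.psi_of' _ h, dg_mul_00, dg_mul_10, dg_mul_11]
    have e1 : y * x.1 0 0 / (y⁻¹ * x.1 1 0) = y ^ 2 * (x.1 0 0 / x.1 1 0) := by
      field_simp
    have e2 : (y⁻¹ * x.1 1 0)⁻¹ = y * (x.1 1 0)⁻¹ := by
      field_simp
    have e3 : y⁻¹ * x.1 1 1 / (y⁻¹ * x.1 1 0) = x.1 1 1 / x.1 1 0 := by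
      field_simp
    rw [e1, e2, e3, R.H_mul _ _ hy (inv_ne_zero h)]
    have := R.H_Y y (x.1 0 0 / x.1 1 0) hy
    calc _ = (R.Y (y ^ 2 * (x.1 0 0 / x.1 1 0)) * R.H y) * (R.H (x.1 1 0)⁻¹ * R.w * R.Y (x.1 1 1 / x.1 1 0)) := by group
      _ = _ := by rw [← this]; group

lemma Rel.psi_wz (x : SL2 K) : R.psi (wz * x) = R.w * R.psi x := by
  have hd := det_eq x
  by_cases h : x.1 1 0 = 0
  · have h0 : x.1 0 0 ≠ 0 := by
      intro h0
      rw [h, h0] at hd
      simp at hd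
    rw [R.psi_of' _ (by rw [wz_mul_10]; exact h0), R.psi_of _ h, wz_mul_00, wz_mul_10, wz_mul_11, h]
    have e1 : -(0 : K) / x.1 0 0 = 0 := by simp
    have := R.H_Y (x.1 0 0) (x.1 0 1 / x.1 0 0) h0
    have e2 : x.1 0 0 ^ 2 * (x.1 0 1 / x.1 0 0) = x.1 0 0 * x.1 0 1 := by
      field_simp
    rw [e2] at this
    rw [e1, R.Y_zero, one_mul, ← this, ← mul_assoc, R.w_H _ h0]
  · rw [R.psi_of' _ h]
    by_cases ha : x.1 0 0 = 0
    · rw [R.psi_of _ (by rw [wz_mul_10]; exact ha), wz_mul_00, wz_mul_01, ha, zero_div, R.Y_zero, one_mul]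
      have e0 : -x.1 1 0 ≠ 0 := neg_ne_zero.2 h
      have e1 := R.H_Y (-x.1 1 0) (x.1 1 1 / x.1 1 0) e0
      have e2 : (-x.1 1 0) ^ 2 * (x.1 1 1 / x.1 1 0) = -x.1 1 0 * -x.1 1 1 := by
        field_simp
      rw [e2] at e1
      rw [← e1]
      have e3 := R.w_H _ (inv_ne_zero h)
      rw [inv_inv] at e3
      have e4 : R.H (-x.1 1 0) = R.H (x.1 1 0) * R.H (-1) := by
        rw [← R.H_mul _ _ h (by simp)]
        congr 1
        ring
      rw [e4, ← R.w_sq]
      calc _ = R.H (x.1 1 0) * (R.w * R.w) * R.Y (x.1 1 1 / x.1 1 0) := rfl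
        _ = (R.H (x.1 1 0) * R.w) * R.w * R.Y (x.1 1 1 / x.1 1 0) := by group
        _ = _ := by rw [← e3]; group
    · have hu : x.1 0 0 / x.1 1 0 ≠ 0 := div_ne_zero ha h
      rw [R.psi_of' _ (by rw [wz_mul_10]; exact ha), wz_mul_00, wz_mul_10, wz_mul_11]
      have e1 := R.w_Y _ hu
      set c := x.1 1 0 with hc
      set a := x.1 0 0 with ha'
      set b := x.1 0 1 with hb'
      set d := x.1 1 1 with hd'
      have e2 : (-(a / c)⁻¹) = -c / a := by
        field_simp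
      rw [e2] at e1
      have hc0 : -c ≠ 0 := neg_ne_zero.2 h
      have e3 : R.w * R.H c⁻¹ * R.w = R.H (-c) := by
        rw [R.w_H _ (inv_ne_zero h), inv_inv, mul_assoc, R.w_sq, ← R.H_mul _ _ h (by simp)]
        congr 1
        ring
      have e4 : R.H (-c) * R.Y (-1 / (a * c)) = R.Y (-c / a) * R.H (-c) := by
        rw [R.H_Y _ _ hc0]
        congr 2
        field_simp
      have e5 : R.w * R.H (-c) = R.H (-c)⁻¹ * R.w := R.w_H _ hc0
      have e6 : R.H (-c / a) * R.H (-c)⁻¹ = R.H a⁻¹ := by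
        rw [← R.H_mul _ _ (div_ne_zero hc0 ha) (inv_ne_zero hc0)]
        congr 1
        field_simp
      have e7 : R.Y (-1 / (a * c)) * R.Y (d / c) = R.Y (b / a) := by
        rw [← R.Y_add]
        congr 1
        field_simp
        linear_combination hd
      have e1' : R.Y (-c / a) * R.H (-c / a) * R.w * R.Y (-c / a) * R.w = R.w * R.Y (a / c) := e1.symm
      calc R.Y (-c / a) * R.H a⁻¹ * R.w * R.Y (b / a)
          = R.Y (-c / a) * R.H (-c / a) * (R.H (-c)⁻¹ * R.w) * (R.Y (-1 / (a * c)) * R.Y (d / c)) := by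
            rw [e7, ← e6]; group
        _ = R.Y (-c / a) * R.H (-c / a) * R.w * (R.Y (-c / a) * R.H (-c)) * R.Y (d / c) := by
            rw [← e5, ← e4]; group
        _ = (R.Y (-c / a) * R.H (-c / a) * R.w * R.Y (-c / a) * R.w) * R.H c⁻¹ * R.w * R.Y (d / c) := by
            rw [← e3]; group
        _ = _ := by rw [e1']; group

/-- Normal forms in `SL₂`. -/
lemma sl_cases (x : SL2 K) : (∃ s y, ∃ hy : y ≠ 0, x = up s * dg y hy) ∨ (∃ s y t, ∃ hy : y ≠ 0, x = up s * (dg y hy * (wz * up t))) := by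
  have hd := det_eq x
  by_cases h : x.1 1 0 = 0
  · left
    have h0 : x.1 0 0 ≠ 0 := by
      intro h0
      rw [h, h0] at hd
      simp at hd
    refine ⟨x.1 0 0 * x.1 0 1, x.1 0 0, h0, ?_⟩
    rw [h] at hd
    apply sl_ext
    · rw [up_mul_00, dg]; simp
    · rw [up_mul_01, dg]
      simp only [mk_01, mk_11]
      field_simp
      ring
    · rw [up_mul_10, dg]; simpa using h
    · rw [up_mul_11, dg]
      simp only [mk_11]
      field_simp
      linear_combination hd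
  · right
    refine ⟨x.1 0 0 / x.1 1 0, (x.1 1 0)⁻¹, x.1 1 1 / x.1 1 0, inv_ne_zero h, ?_⟩
    apply sl_ext
    · rw [up_mul_00, dg_mul_00, dg_mul_10, wz_mul_00, wz_mul_10]
      simp only [up, mk_00, mk_10]
      field_simp
      ring
    · rw [up_mul_01, dg_mul_01, dg_mul_11, wz_mul_01, wz_mul_11]
      simp only [up, mk_11, mk_01]
      field_simp
      linear_combination -hd
    · rw [up_mul_10, dg_mul_10, wz_mul_10]
      simp only [up, mk_00]
      field_simp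
    · rw [up_mul_11, dg_mul_11, wz_mul_11]
      simp only [up, mk_01]
      field_simp

lemma up_one_mul (s : K) : up s = up s * 1 := by simp

/-- The homomorphism defined by the relations. -/
noncomputable def Rel.hom : SL2 K →* Γ :=
  MonoidHom.mk' R.psi (by
    intro x x'
    rcases sl_cases x with ⟨s, y, hy, rfl⟩ | ⟨s, y, t, hy, rfl⟩
    · rw [mul_assoc, R.psi_up, R.psi_dg]
      have h1 : R.psi (up s * dg y hy) = R.Y s * R.H y := by
        rw [R.psi_up]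
        have := R.psi_dg y hy 1
        rw [mul_one, R.psi_one, mul_one] at this
        rw [this]
      rw [h1]
      group
    · have h1 : R.psi (up s * (dg y hy * (wz * up t))) = R.Y s * (R.H y * (R.w * R.Y t)) := by
        rw [R.psi_up, R.psi_dg, R.psi_wz]
        have := R.psi_up t 1
        rw [mul_one, R.psi_one, mul_one] at this
        rw [this]
      rw [h1]
      have e : up s * (dg y hy * (wz * up t)) * x' = up s * (dg y hy * (wz * (up t * x'))) := by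
        simp only [mul_assoc]
      rw [e, R.psi_up, R.psi_dg, R.psi_wz, R.psi_up]
      group)

lemma Rel.hom_apply (x : SL2 K) : R.hom x = R.psi x := rfl

lemma Rel.hom_up (s : K) : R.hom (up s) = R.Y s := by
  have := R.psi_up s 1
  rw [mul_one, R.psi_one, mul_one] at this
  exact this

lemma Rel.hom_dg (y : K) (hy : y ≠ 0) : R.hom (dg y hy) = R.H y := by
  have := R.psi_dg y hy 1
  rw [mul_one, R.psi_one, mul_one] at this
  exact this

lemma Rel.hom_wz : R.hom wz = R.w := by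
  have := R.psi_wz (K := K) 1
  rw [mul_one, R.psi_one, mul_one] at this
  exact this

end CfsgLib.Ree.SLP
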