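/-
The Weyl involution of the small Ree groups and the map from `SL₂`.
-/
import Cfsg.Agent.Lib.Ree.Small2
import Cfsg.Agent.Lib.Ree.SLPres

set_option autoImplicit false
set_option synthInstance.maxHeartbeats 400000
set_option synthInstance.maxSize 1024

namespace CfsgLib.Ree

open Cfsg.Lie Cfsg.Lie.ChevalleyDatum CfsgLib.BN CfsgLib.Chev

section ctx

variable {K : Type*} [Field K] {e : ℕ}

local notation "X" => TG2.good.xG (F := K)
local notation "NN" => TG2.good.nnG (F := K)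
local notation "HH" => TG2.good.hhG (F := K)

lemma g2_ab_lt : g2ab < chevG2.nroots := by decide +kernel
lemma g2_aaab_lt : g2aaab < chevG2.nroots := by decide +kernel
lemma g2_nab_lt : chevG2.neg g2ab < chevG2.nroots := by decide +kernel
lemma g2_naaab_lt : chevG2.neg g2aaab < chevG2.nroots := by decide +kernel

lemma comm_1 (a b : K) : X g2aaab a * X g2ab b = X g2ab b * X g2aaab a :=
  g2_comm_c (by decide +kernel) (by decide +kernel) (by decide +kernel) (by decide +kernel) (by decide +kernel) a b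
lemma comm_2 (a b : K) : X (chevG2.neg g2aaab) a * X g2ab b = X g2ab b * X (chevG2.neg g2aaab) a :=
  g2_comm_c (by decide +kernel) (by decide +kernel) (by decide +kernel) (by decide +kernel) (by decide +kernel) a b
lemma comm_3 (a b : K) : X g2aaab a * X (chevG2.neg g2ab) b = X (chevG2.neg g2ab) b * X g2aaab a :=
  g2_comm_c (by decide +kernel) (by decide +kernel) (by decide +kernel) (by decide +kernel) (by decide +kernel) a b
lemma comm_4 (a b : K) : X (chevG2.neg g2aaab) a * X (chevG2.neg g2ab) b = X (chevG2.neg g2ab) b * X (chevG2.neg g2aaab) a :=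
  g2_comm_c (by decide +kernel) (by decide +kernel) (by decide +kernel) (by decide +kernel) (by decide +kernel) a b

/-- `n_{a+b}` and `n_{3a+b}` commute. -/
lemma NN_comm (s t : K) : NN g2aaab t * NN g2ab s = NN g2ab s * NN g2aaab t := by
  unfold Good.nnG nn
  have c1 : ∀ (a b : K), Commute (X g2aaab a) (X g2ab b) := comm_1
  have c2 : ∀ (a b : K), Commute (X (chevG2.neg g2aaab) a) (X g2ab b) := comm_2
  have c3 : ∀ (a b : K), Commute (X g2aaab a) (X (chevG2.neg g2ab) b) := comm_3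
  have c4 : ∀ (a b : K), Commute (X (chevG2.neg g2aaab) a) (X (chevG2.neg g2ab) b) := comm_4
  have h1 : ∀ (a b c : K), Commute (X g2aaab a * X (chevG2.neg g2aaab) b * X g2aaab c) (X g2ab s) := fun a b c =>
    ((c1 a s).mul_left (c2 b s)).mul_left (c1 c s)
  have h2 : ∀ (a b c : K), Commute (X g2aaab a * X (chevG2.neg g2aaab) b * X g2aaab c) (X (chevG2.neg g2ab) (-s⁻¹)) := fun a b c =>
    ((c3 a _).mul_left (c4 b _)).mul_left (c3 c _)
  exact (((h1 _ _ _).mul_right (h2 _ _ _)).mul_right (h1 _ _ _))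

lemma NN_one_sq (r : ℕ) (hr : r < chevG2.nroots) : NN r 1 * NN r 1 = (HH r (-1))⁻¹ := by
  have h1 := TG2.good.nnG_eq hr (t := (-1 : K)) (by simp)
  have h2 : (NN r 1)⁻¹ = NN r (-1) := by
    unfold Good.nnG nn
    simp only [mul_inv_rev, TG2.good.xG_neg]
    simp [mul_assoc]
  rw [← h2] at h1
  have h3 : HH r (-1) * (NN r 1 * NN r 1) = 1 := by
    rw [← mul_assoc, ← h1]
    group
  exact eq_inv_of_mul_eq_one_right h3

lemma HH_prod_one : HH g2ab (-1) * HH g2aaab (-1) = 1 := by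
  have h1 := (TG2.good.isMono_hhG (F := K) g2_ab_lt (c := -1) (by simp)).mul (TG2.good.isMono_hhG (F := K) g2_aaab_lt (c := -1) (by simp))
  apply TG2.good.eq_one_of_isMono TG2.extra
  convert h1 using 1
  · exact (mul_one 1).symm
  funext s
  have key : ∀ s : Fin chevG2.nroots, (cartanA chevG2 g2ab s + cartanA chevG2 g2aaab s) % 2 = 0 := by decide +kernel
  obtain ⟨k, hk⟩ : Even (cartanA chevG2 g2ab s + cartanA chevG2 g2aaab s) := Int.even_iff.2 (key s)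
  show (1 : K) = (-1 : K) ^ (cartanA chevG2 g2ab s) * (-1 : K) ^ (cartanA chevG2 g2aaab s)
  rw [← zpow_add₀ (by simp), hk, zpow_add₀ (by simp)]
  have : ((-1 : K) ^ k) * ((-1 : K) ^ k) = ((-1 : K) * (-1 : K)) ^ k := (mul_zpow _ _ _).symm
  rw [this]
  simp

lemma HH_comm (s t : K) : HH g2aaab t * NN g2ab s = NN g2ab s * HH g2aaab t := by
  unfold Good.hhG hh
  have c : ∀ a b : K, Commute (TG2.good.nnG (F := K) g2aaab a) (TG2.good.nnG (F := K) g2ab b) := fun a b => NN_comm b a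
  exact (c t s).mul_left (c _ s)

variable (C : RCtx K e)

/-- The lower analogue of `Y`. -/
noncomputable def RCtx.rZ (u : K) : ↥(twistedG2 K e) :=
  ⟨X (chevG2.neg g2ab) (-C.φ u) * X (chevG2.neg g2aaab) (-u), by
    haveI := C.char
    have h := TG2.good.wordG_mem_gen (S := g2Words K e) (w := reeWordV e (0 : K) u 0) ⟨0, u, 0, Or.inr rfl⟩
    have e1 : TG2.good.wordG (reeWordV e (0 : K) u 0) = X (chevG2.neg g2ab) (-C.φ u) * X (chevG2.neg g2aaab) (-u) := by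
      unfold reeWordV reeWordU negWord
      have h0 : (0 : K) ^ e = 0 := zero_pow C.he
      have h1 : (0 : K) ^ (e + 1) = 0 := zero_pow (by omega)
      have h2 : (0 : K) ^ (2 * e + 1) = 0 := zero_pow (by omega)
      simp only [h0, h1, h2, zero_add, ← C.hφ, List.map_cons, List.map_nil, Good.wordG, List.prod_cons, List.prod_nil, neg_zero]
      have n0 : ∀ r, TG2.good.xG (F := K) r 0 = 1 := fun r => TG2.good.xG_zero r
      simp only [n0, one_mul, mul_one]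
      have e5 : ∀ r, chevG2.negIdx.getD r 0 = chevG2.neg r := fun r => rfl
      simp only [e5]
    exact e1 ▸ h⟩

lemma RCtx.rZ_val (u : K) : ((C.rZ u : ↥(twistedG2 K e)) : GL chevG2.Idx K) = X (chevG2.neg g2ab) (-C.φ u) * X (chevG2.neg g2aaab) (-u) := rfl

lemma RCtx.Y_val (u : K) : ((C.rS 0 u 0 : ↥(twistedG2 K e)) : GL chevG2.Idx K) = X g2ab (C.φ u) * X g2aaab u := by
  rw [C.rS_val]
  unfold g2N g2A
  simp [TG2.good.xG_zero]

/-- The monomial element attached to `t`. -/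
noncomputable def RCtx.rN (t : K) : ↥(twistedG2 K e) := C.rS 0 t 0 * C.rZ t⁻¹ * C.rS 0 t 0

lemma RCtx.rN_val {t : K} (ht : t ≠ 0) : ((C.rN t : ↥(twistedG2 K e)) : GL chevG2.Idx K) = NN g2ab (C.φ t) * NN g2aaab t := by
  show ((C.rS 0 t 0 : ↥(twistedG2 K e)) : GL chevG2.Idx K) * ((C.rZ t⁻¹ : ↥(twistedG2 K e)) : GL chevG2.Idx K) * ((C.rS 0 t 0 : ↥(twistedG2 K e)) : GL chevG2.Idx K) = _
  rw [C.Y_val, C.rZ_val]
  unfold Good.nnG nn
  rw [map_inv₀]
  generalize C.φ t = A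
  have c1 : ∀ (a b : K), Commute (X g2aaab a) (X g2ab b) := comm_1
  have c2 : ∀ (a b : K), Commute (X (chevG2.neg g2aaab) a) (X g2ab b) := comm_2
  have c3 : ∀ (a b : K), Commute (X g2aaab a) (X (chevG2.neg g2ab) b) := comm_3
  calc X g2ab A * X g2aaab t * (X (chevG2.neg g2ab) (-A⁻¹) * X (chevG2.neg g2aaab) (-t⁻¹)) * (X g2ab A * X g2aaab t)
      = X g2ab A * (X g2aaab t * X (chevG2.neg g2ab) (-A⁻¹)) * X (chevG2.neg g2aaab) (-t⁻¹) * X g2ab A * X g2aaab t := by group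
    _ = X g2ab A * X (chevG2.neg g2ab) (-A⁻¹) * (X g2aaab t * X (chevG2.neg g2aaab) (-t⁻¹)) * X g2ab A * X g2aaab t := by
        rw [(c3 t _).eq]; group
    _ = X g2ab A * X (chevG2.neg g2ab) (-A⁻¹) * ((X g2aaab t * X (chevG2.neg g2aaab) (-t⁻¹)) * X g2ab A) * X g2aaab t := by group
    _ = X g2ab A * X (chevG2.neg g2ab) (-A⁻¹) * (X g2ab A * (X g2aaab t * X (chevG2.neg g2aaab) (-t⁻¹))) * X g2aaab t := by
        rw [(((c1 t A).mul_left (c2 _ A)).eq)]
    _ = _ := by group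

/-- The Weyl involution. -/
noncomputable def RCtx.w₁ : ↥(twistedG2 K e) := C.rN 1

lemma RCtx.w₁_val : ((C.w₁ : ↥(twistedG2 K e)) : GL chevG2.Idx K) = NN g2ab 1 * NN g2aaab 1 := by
  have := C.rN_val (t := 1) one_ne_zero
  rwa [map_one] at this

/-- The Weyl element of the group is an involution. -/
theorem RCtx.w₁_sq : C.w₁ * C.w₁ = 1 := by
  apply Subtype.ext
  show ((C.w₁ : ↥(twistedG2 K e)) : GL chevG2.Idx K) * ((C.w₁ : ↥(twistedG2 K e)) : GL chevG2.Idx K) = 1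
  rw [C.w₁_val]
  have h1 : NN g2ab 1 * NN g2aaab 1 * (NN g2ab 1 * NN g2aaab 1) = (NN g2ab 1 * NN g2ab 1) * (NN g2aaab 1 * NN g2aaab 1) := by
    calc _ = NN g2ab 1 * (NN g2aaab 1 * NN g2ab 1) * NN g2aaab 1 := by group
      _ = _ := by rw [NN_comm]; group
  rw [h1, NN_one_sq _ g2_ab_lt, NN_one_sq _ g2_aaab_lt]
  have h2 := HH_prod_one (K := K)
  have h3 : HH g2aaab (-1) = (HH g2ab (-1))⁻¹ := eq_inv_of_mul_eq_one_right h2
  rw [h3]
  simp

lemma RCtx.w₁_inv : C.w₁⁻¹ = C.w₁ := inv_eq_of_mul_eq_one_left C.w₁_sq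

/-- Conjugation by the Weyl involution. -/
theorem RCtx.w₁_conj_Y (u : K) : C.w₁ * C.rS 0 u 0 * C.w₁⁻¹ = C.rZ u := by
  apply Subtype.ext
  show ((C.w₁ : ↥(twistedG2 K e)) : GL chevG2.Idx K) * ((C.rS 0 u 0 : ↥(twistedG2 K e)) : GL chevG2.Idx K) * ((C.w₁ : ↥(twistedG2 K e)) : GL chevG2.Idx K)⁻¹ = _
  rw [C.w₁_val, C.Y_val, C.rZ_val]
  have h1 := TG2.good.nnG_conj_self g2_ab_lt (t := (1 : K)) one_ne_zero (C.φ u)
  have h2 := TG2.good.nnG_conj_self g2_aaab_lt (t := (1 : K)) one_ne_zero u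
  simp only [inv_one, mul_one, one_mul] at h1 h2
  rw [← h1, ← h2]
  have c2 : ∀ (a b : K), Commute (NN g2aaab a) (X g2ab b) := by
    intro a b
    have c1' : Commute (X g2aaab a) (X g2ab b) := comm_1 a b
    have c2' : Commute (X (chevG2.neg g2aaab) (-a⁻¹)) (X g2ab b) := comm_2 _ b
    unfold Good.nnG nn
    exact (c1'.mul_left c2').mul_left c1'
  have c3 : ∀ (a b : K), Commute (NN g2ab a) (X (chevG2.neg g2aaab) b) := by
    intro a b
    have c1' : Commute (X (chevG2.neg g2aaab) b) (X g2ab a) := comm_2 b a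
    have c2' : Commute (X (chevG2.neg g2aaab) b) (X (chevG2.neg g2ab) (-a⁻¹)) := comm_4 _ _
    unfold Good.nnG nn
    exact ((c1'.symm).mul_left c2'.symm).mul_left c1'.symm
  set A := NN g2ab 1
  set B := NN g2aaab 1
  set P := X g2ab (C.φ u)
  set Q := X g2aaab u
  set Q' := X (chevG2.neg g2aaab) (-u)
  have a1 : B * P = P * B := (c2 1 _).eq
  have a2 : A * Q' = Q' * A := (c3 1 _).eq
  have a3 : B * Q * B⁻¹ = Q' := h2
  calc A * B * (P * Q) * (A * B)⁻¹ = A * (B * P) * Q * B⁻¹ * A⁻¹ := by group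
    _ = A * P * (B * Q * B⁻¹) * A⁻¹ := by rw [a1]; group
    _ = A * P * A⁻¹ * (A * Q') * A⁻¹ := by rw [a3]; group
    _ = _ := by rw [a2, a3]; group

lemma RCtx.Y_add (s t : K) : C.rS 0 (s + t) 0 = C.rS 0 s 0 * C.rS 0 t 0 := by
  rw [C.rS_mul]
  congr 1 <;> simp

lemma RCtx.Y_zero : C.rS 0 (0 : K) 0 = 1 := C.rS_zero

lemma RCtx.Y_inv (s : K) : (C.rS 0 s 0)⁻¹ = C.rS 0 (-s) 0 := by
  apply inv_eq_of_mul_eq_one_left
  rw [← C.Y_add]
  simp [C.Y_zero]

/-- The map `y ↦ ρ(y)/y` on the units. -/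
noncomputable def RCtx.rhoU : Kˣ →* Kˣ :=
  MonoidHom.mk' (fun y => Units.map (C.ρ : K →* K) y * y⁻¹) (by
    intro y z
    simp only [map_mul, _root_.mul_inv_rev]
    rw [mul_comm z⁻¹ y⁻¹]
    exact mul_mul_mul_comm _ _ _ _)

lemma RCtx.rhoU_val (y : Kˣ) : ((C.rhoU y : Kˣ) : K) = C.ρ y * (y : K)⁻¹ := by
  show ((Units.map (C.ρ : K →* K) y * y⁻¹ : Kˣ) : K) = _
  simp

lemma RCtx.rhoU_neg (y : Kˣ) : C.rhoU (-y) = C.rhoU y := by
  apply Units.ext
  rw [C.rhoU_val, C.rhoU_val]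
  simp only [Units.val_neg, map_neg, inv_neg, neg_mul_neg]

lemma RCtx.rhoU_weight (y : Kˣ) : ((C.rhoU y : Kˣ) : K) * C.ρ (C.rhoU y : Kˣ) = (y : K) ^ 2 := by
  rw [C.rhoU_val, map_mul, map_inv₀, C.ρ_ρ]
  have h1 : C.ρ (y : K) ≠ 0 := (map_ne_zero _).2 y.ne_zero
  have h2 := y.ne_zero
  field_simp

variable [Fintype K]

/-- The torus of the subgroup `L`. -/
noncomputable def RCtx.hT : Kˣ →* ↥(twistedG2 K e) := C.rH.comp C.rhoU

lemma RCtx.hT_apply (y : Kˣ) : C.hT y = C.rH (C.rhoU y) := rfl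

lemma RCtx.hT_neg (y : Kˣ) : C.hT (-y) = C.hT y := by
  rw [C.hT_apply, C.hT_apply, C.rhoU_neg]

lemma RCtx.hT_conj (y : Kˣ) (u : K) : C.hT y * C.rS 0 u 0 * (C.hT y)⁻¹ = C.rS 0 ((y : K) ^ 2 * u) 0 := by
  rw [C.hT_apply, C.rH_conj, C.rhoU_weight]
  simp

/-- The value of the product of the diagonal elements. -/
theorem RCtx.HH_eq (y : Kˣ) : HH g2ab (C.φ y) * HH g2aaab y = ((C.hT y : ↥(twistedG2 K e)) : GL chevG2.Idx K) := by
  haveI := C.char
  have hy := y.ne_zero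
  have hy' : C.φ (y : K) ≠ 0 := (map_ne_zero _).2 hy
  have h1 := (TG2.good.isMono_hhG (F := K) g2_ab_lt hy').mul (TG2.good.isMono_hhG (F := K) g2_aaab_lt hy)
  rw [mul_one] at h1
  obtain ⟨d, hd, d1, d2⟩ := C.rH_spec (C.rhoU y)
  have hdiag : HH g2ab (C.φ y) * HH g2aaab y ∈ chevG2.diagonalSubgroup K :=
    mul_mem (TG2.good.hhG_mem_diagonal g2_ab_lt hy') (TG2.good.hhG_mem_diagonal g2_aaab_lt hy)
  refine H_ext hdiag (C.rH_diag _) h1 hd ?_ ?_
  · rw [d1, C.rhoU_val, ← C.cube_eq]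
    have c1 : cartanA chevG2 g2ab ((g2B' : Fin chevG2.nroots) : ℕ) = 3 := by decide +kernel
    have c2 : cartanA chevG2 g2aaab ((g2B' : Fin chevG2.nroots) : ℕ) = -1 := by decide +kernel
    show C.φ (y : K) ^ cartanA chevG2 g2ab ((g2B' : Fin chevG2.nroots) : ℕ) * (y : K) ^ cartanA chevG2 g2aaab ((g2B' : Fin chevG2.nroots) : ℕ) = _
    rw [c1, c2]
    simp
  · rw [d2, C.rhoU_val, map_mul, C.φ_ρ, map_inv₀]
    have c1 : cartanA chevG2 g2ab ((g2A' : Fin chevG2.nroots) : ℕ) = -1 := by decide +kernel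
    have c2 : cartanA chevG2 g2aaab ((g2A' : Fin chevG2.nroots) : ℕ) = 1 := by decide +kernel
    show C.φ (y : K) ^ cartanA chevG2 g2ab ((g2A' : Fin chevG2.nroots) : ℕ) * (y : K) ^ cartanA chevG2 g2aaab ((g2A' : Fin chevG2.nroots) : ℕ) = _
    rw [c1, c2]
    simp
    ring

/-- `n(t) = h(t) n(1)`. -/
theorem RCtx.rN_eq (y : Kˣ) : C.rN y = C.hT y * C.w₁ := by
  apply Subtype.ext
  show ((C.rN y : ↥(twistedG2 K e)) : GL chevG2.Idx K) = ((C.hT y : ↥(twistedG2 K e)) : GL chevG2.Idx K) * ((C.w₁ : ↥(twistedG2 K e)) : GL chevG2.Idx K)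
  rw [C.rN_val y.ne_zero, C.w₁_val, ← C.HH_eq y]
  rw [TG2.good.nnG_eq g2_ab_lt ((map_ne_zero _).2 y.ne_zero), TG2.good.nnG_eq g2_aaab_lt y.ne_zero]
  have := HH_comm (K := K) 1 y
  calc _ = HH g2ab (C.φ y) * (NN g2ab 1 * HH g2aaab y) * NN g2aaab 1 := by group
    _ = _ := by rw [← this]; group

/-- The Weyl involution and the Weyl element. -/
theorem RCtx.w₁_eq : ∃ y, C.w₁ = C.rW * C.rH y := by
  have h1 : ((C.w₁ : ↥(twistedG2 K e)) : GL chevG2.Idx K) ∈ chevG2.monomialSubgroup K ⊓ twistedG2 K e := by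
    refine Subgroup.mem_inf.2 ⟨?_, Subtype.property _⟩
    rw [C.w₁_val, TG2.good.monomial_eq_N0 TG2.extra]
    exact mul_mem (TG2.good.nnG_mem_N0 TG2.extra g2_ab_lt one_ne_zero) (TG2.good.nnG_mem_N0 TG2.extra g2_aaab_lt one_ne_zero)
  rcases C.rW_cases h1 with h | h
  · exfalso
    obtain ⟨y, hy⟩ := C.mem_H_iff.1 (Subgroup.mem_inf.2 ⟨h, Subtype.property _⟩)
    have e1 : C.w₁ = C.rH y := Subtype.ext hy
    have e2 := C.w₁_conj_Y (1 : K)
    rw [e1, C.rH_conj] at e2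
    have h2 : ((C.rZ (1 : K) : ↥(twistedG2 K e)) : GL chevG2.Idx K) ∈ chevG2.negUnipotent K := by
      rw [C.rZ_val]
      exact mul_mem (TG2.good.negUnipotent_mem ((TG2.extra.negIff _ g2_nab_lt).2 (by decide +kernel)) _) (TG2.good.negUnipotent_mem ((TG2.extra.negIff _ g2_naaab_lt).2 (by decide +kernel)) _)
    have h3 : ((C.rZ (1 : K) : ↥(twistedG2 K e)) : GL chevG2.Idx K) ∈ chevG2.borelSubgroup K := by
      rw [← e2]
      exact (Subgroup.mem_inf.1 (C.rS_mem_B _ _ _)).1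
    have h4 := TG2.extra.B_V TG2.good h3 h2
    have h5 : C.rZ (1 : K) = 1 := Subtype.ext h4
    rw [h5, ← C.rS_zero] at e2
    have := C.rS_inj e2
    have h6 := this.2.1
    have hne : ((y : K) * C.ρ y * 1) ≠ 0 := by
      simp
    exact hne h6
  · have hT : ((C.rW : ↥(twistedG2 K e)) : GL chevG2.Idx K)⁻¹ * ((C.w₁ : ↥(twistedG2 K e)) : GL chevG2.Idx K) ∈ twistedG2 K e := mul_mem (inv_mem (Subtype.property _)) (Subtype.property _)
    obtain ⟨y, hy⟩ := C.mem_H_iff.1 (Subgroup.mem_inf.2 ⟨h, hT⟩)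
    refine ⟨y, Subtype.ext ?_⟩
    show ((C.w₁ : ↥(twistedG2 K e)) : GL chevG2.Idx K) = ((C.rW : ↥(twistedG2 K e)) : GL chevG2.Idx K) * ((C.rH y : ↥(twistedG2 K e)) : GL chevG2.Idx K)
    rw [← hy]
    group

theorem RCtx.w₁_conj_H (y : Kˣ) : C.w₁ * C.rH y * C.w₁⁻¹ = C.rH y⁻¹ := by
  obtain ⟨z, hz⟩ := C.w₁_eq
  rw [hz]
  have h1 : C.rH z * C.rH y = C.rH y * C.rH z := by
    rw [← map_mul, ← map_mul, mul_comm]
  calc C.rW * C.rH z * C.rH y * (C.rW * C.rH z)⁻¹ = C.rW * (C.rH z * C.rH y) * (C.rH z)⁻¹ * C.rW⁻¹ := by group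
    _ = C.rW * C.rH y * C.rW⁻¹ := by rw [h1]; group
    _ = _ := C.rW_conj y

lemma RCtx.w₁_smul_ptI : C.w₁ • (ptI : Pts K e) = C.ptF 0 0 0 := by
  obtain ⟨z, hz⟩ := C.w₁_eq
  rw [hz, mul_smul, C.rH_smul_ptI, C.rW_smul_ptI]

open Classical in
/-- The relations of `SL₂` in the Ree group. -/
noncomputable def RCtx.rel : SLP.Rel K ↥(twistedG2 K e) where
  Y u := C.rS 0 u 0
  H y := if h : y = 0 then 1 else C.hT (Units.mk0 y h)
  w := C.w₁
  Y_add := C.Y_add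
  H_mul y z hy hz := by
    rw [dif_neg hy, dif_neg hz, dif_neg (mul_ne_zero hy hz), ← map_mul]
    congr 1
    exact Units.ext rfl
  H_Y y u hy := by
    rw [dif_neg hy]
    have := C.hT_conj (Units.mk0 y hy) u
    rw [Units.val_mk0] at this
    rw [← this]
    group
  w_H y hy := by
    rw [dif_neg hy, dif_neg (inv_ne_zero hy)]
    have h1 := C.w₁_conj_H (C.rhoU (Units.mk0 y hy))
    have h2 : (C.rhoU (Units.mk0 y hy))⁻¹ = C.rhoU (Units.mk0 y⁻¹ (inv_ne_zero hy)) := by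
      rw [← map_inv]
      congr 1
      exact Units.ext rfl
    rw [h2] at h1
    rw [C.hT_apply, C.hT_apply, ← h1]
    group
  w_sq := by
    rw [dif_neg (by simp), C.w₁_sq, C.hT_apply]
    have : C.rhoU (Units.mk0 (-1 : K) (by simp)) = 1 := by
      apply Units.ext
      rw [C.rhoU_val]
      simp [C.ρ_neg_one]
    rw [this, map_one]
  w_Y u hu := by
    have hu' : -u⁻¹ ≠ 0 := neg_ne_zero.2 (inv_ne_zero hu)
    rw [dif_neg hu']
    have h1 := C.w₁_conj_Y u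
    rw [C.w₁_inv] at h1
    have h2 := C.rN_eq (Units.mk0 u⁻¹ (inv_ne_zero hu))
    have h3 : C.rN ((Units.mk0 u⁻¹ (inv_ne_zero hu) : Kˣ) : K) = C.rS 0 u⁻¹ 0 * C.rZ u * C.rS 0 u⁻¹ 0 := by
      unfold RCtx.rN
      simp
    rw [h3] at h2
    have h4 : C.hT (Units.mk0 (-u⁻¹) hu') = C.hT (Units.mk0 u⁻¹ (inv_ne_zero hu)) := by
      rw [← C.hT_neg]
      congr 1
      apply Units.ext
      simp
    rw [h4]
    have h5 : C.rZ u = C.rS 0 (-u⁻¹) 0 * (C.hT (Units.mk0 u⁻¹ (inv_ne_zero hu)) * C.w₁) * C.rS 0 (-u⁻¹) 0 := by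
      rw [← h2, ← C.Y_inv]
      group
    rw [← mul_assoc] at h5
    rw [← h5, ← h1]
    have := C.w₁_sq
    calc C.w₁ * C.rS 0 u 0 = C.w₁ * C.rS 0 u 0 * (C.w₁ * C.w₁) := by rw [this, mul_one]
      _ = _ := by group

/-- The map from `SL₂` to the Ree group. -/
noncomputable def RCtx.psi : CfsgLib.H9.SL2Cl.SL2 K →* ↥(twistedG2 K e) := C.rel.hom

end ctx

end CfsgLib.Ree
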