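/-
The centraliser of an involution in the small Ree groups.
-/
import Cfsg.Agent.Lib.Ree.Invol

set_option autoImplicit false
set_option synthInstance.maxHeartbeats 400000
set_option synthInstance.maxSize 1024

namespace CfsgLib.Ree

open Cfsg.Lie Cfsg.Lie.ChevalleyDatum CfsgLib.BN CfsgLib.Chev CfsgLib.H9.SL2Cl Matrix

section ctx

variable {K : Type*} [Field K] [Fintype K] {e : ℕ} (C : RCtx K e)

/-- The central element of `SL₂`. -/
def zZ (K : Type*) [Field K] : SL2 K := mk (-1) 0 0 (-1) (by ring)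

lemma mem_center_SL2 (z : SL2 K) : z ∈ Subgroup.center (SL2 K) ↔ z = 1 ∨ z = zZ K := by
  constructor
  · intro h
    obtain ⟨r, hr, hr2⟩ := Matrix.SpecialLinearGroup.mem_center_iff.mp h
    have h3 : r ^ 2 = 1 := by simpa using hr
    have h00 : z.1 0 0 = r := by
      have := congrFun (congrFun hr2 0) 0
      simpa using this.symm
    have h01 : z.1 0 1 = 0 := by
      have := congrFun (congrFun hr2 0) 1
      simpa using this.symm
    have h10 : z.1 1 0 = 0 := by
      have := congrFun (congrFun hr2 1) 0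
      simpa using this.symm
    have h11 : z.1 1 1 = r := by
      have := congrFun (congrFun hr2 1) 1
      simpa using this.symm
    rcases sq_cases h3 with rfl | rfl
    · left
      apply sl_ext <;> simp [h00, h01, h10, h11]
    · right
      apply sl_ext <;> simp [h00, h01, h10, h11, zZ]
  · rintro (rfl | rfl)
    · exact Subgroup.one_mem _
    · refine Subgroup.mem_center_iff.mpr fun g => ?_
      apply sl_ext <;> simp [mul_00, mul_01, mul_10, mul_11, zZ]

/-- The projection. -/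
abbrev prS (g : SL2 K) : ProjectiveSpecialLinearGroup (Fin 2) K := QuotientGroup.mk g

lemma prS_mul (a b : SL2 K) : prS (a * b) = prS a * prS b := rfl

lemma prS_one : prS (1 : SL2 K) = 1 := rfl

lemma prS_eq_one_iff (a : SL2 K) : prS a = 1 ↔ a = 1 ∨ a = zZ K := by
  rw [← mem_center_SL2]
  exact QuotientGroup.eq_one_iff a

lemma prS_surj (x : ProjectiveSpecialLinearGroup (Fin 2) K) : ∃ a : SL2 K, prS a = x :=
  QuotientGroup.mk_surjective x

lemma RCtx.psi_up (s : K) : C.psi (SLP.up s) = C.rS 0 s 0 := C.rel.hom_up s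

lemma RCtx.psi_wz : C.psi SLP.wz = C.w₁ := C.rel.hom_wz

lemma RCtx.psi_dg (y : K) (hy : y ≠ 0) : C.psi (SLP.dg y hy) = C.hT (Units.mk0 y hy) := by
  have := C.rel.hom_dg y hy
  show C.rel.hom _ = _
  rw [this]
  exact dif_neg hy

lemma RCtx.psi_of (x : SL2 K) (h : x.1 1 0 = 0) (h0 : x.1 0 0 ≠ 0) : C.psi x = C.rS 0 (x.1 0 0 * x.1 0 1) 0 * C.hT (Units.mk0 _ h0) := by
  have := C.rel.psi_of x h
  show C.rel.psi x = _
  rw [this]
  have e1 : C.rel.H (x.1 0 0) = C.hT (Units.mk0 _ h0) := dif_neg h0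
  rw [e1]
  rfl

lemma entry00_ne {x : SL2 K} (h : x.1 1 0 = 0) : x.1 0 0 ≠ 0 := by
  intro h0
  have hd := det_eq x
  rw [h, h0] at hd
  simp at hd

lemma RCtx.psi_of' (x : SL2 K) (h : x.1 1 0 ≠ 0) : C.psi x = C.rS 0 (x.1 0 0 / x.1 1 0) 0 * C.hT (Units.mk0 (x.1 1 0)⁻¹ (inv_ne_zero h)) * C.w₁ * C.rS 0 (x.1 1 1 / x.1 1 0) 0 := by
  have := C.rel.psi_of' x h
  show C.rel.psi x = _
  rw [this]
  have e1 : C.rel.H (x.1 1 0)⁻¹ = C.hT (Units.mk0 _ (inv_ne_zero h)) := dif_neg (inv_ne_zero h)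
  rw [e1]
  rfl

/-- The involution of the torus. -/
noncomputable def RCtx.aI : ↥(twistedG2 K e) := C.rH (-1)

lemma RCtx.aI_sq : C.aI * C.aI = 1 := by
  show C.rH (-1) * C.rH (-1) = 1
  rw [← map_mul]
  simp

lemma RCtx.aI_inv : C.aI⁻¹ = C.aI := inv_eq_of_mul_eq_one_left C.aI_sq

lemma RCtx.aI_ne : C.aI ≠ 1 := C.invol_ne

lemma RCtx.aI_conj (t u v : K) : C.aI * C.rS t u v * C.aI⁻¹ = C.rS (-t) u (-v) := by
  show C.rH (-1) * C.rS t u v * (C.rH (-1))⁻¹ = _
  rw [C.rH_conj]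
  congr 1 <;> simp [C.ρ_neg_one]

lemma RCtx.aI_comm_Y (u : K) : C.aI * C.rS 0 u 0 = C.rS 0 u 0 * C.aI := by
  have := C.aI_conj 0 u 0
  simp only [neg_zero] at this
  exact mul_inv_eq_iff_eq_mul.1 this

lemma RCtx.aI_comm_H (y : Kˣ) : C.aI * C.rH y = C.rH y * C.aI := by
  show C.rH (-1) * C.rH y = _ * C.rH (-1)
  rw [← map_mul, ← map_mul, mul_comm]

lemma RCtx.aI_comm_w : C.aI * C.w₁ = C.w₁ * C.aI := by
  have := C.w₁_conj_H (-1)
  have h2 : (-1 : Kˣ)⁻¹ = -1 := by simp
  rw [h2] at this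
  have h3 : C.w₁ * C.aI * C.w₁⁻¹ = C.aI := this
  exact (mul_inv_eq_iff_eq_mul.1 h3).symm

/-- `a` commutes with the image of `SL₂`. -/
lemma RCtx.aI_comm_psi (x : SL2 K) : C.aI * C.psi x = C.psi x * C.aI := by
  show Commute C.aI (C.psi x)
  by_cases h : x.1 1 0 = 0
  · rw [C.psi_of x h (entry00_ne h), C.hT_apply]
    have h1 : Commute C.aI _ := C.aI_comm_Y (x.1 0 0 * x.1 0 1)
    have h2 : Commute C.aI _ := C.aI_comm_H (C.rhoU (Units.mk0 _ (entry00_ne h)))
    exact h1.mul_right h2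
  · rw [C.psi_of' x h, C.hT_apply]
    have h1 : Commute C.aI _ := C.aI_comm_Y (x.1 0 0 / x.1 1 0)
    have h2 : Commute C.aI _ := C.aI_comm_H (C.rhoU (Units.mk0 (x.1 1 0)⁻¹ (inv_ne_zero h)))
    have h3 : Commute C.aI _ := C.aI_comm_w
    have h4 : Commute C.aI _ := C.aI_comm_Y (x.1 1 1 / x.1 1 0)
    exact ((h1.mul_right h2).mul_right h3).mul_right h4

/-- An element of `U¹ H¹` in `H¹`. -/
lemma RCtx.rS_rH_eq {s : K} {y z : Kˣ} (h : C.rS 0 s 0 * C.rH y = C.rH z) : s = 0 ∧ y = z := by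
  have h1 : (C.rS 0 s 0 * C.rH y) • C.ptF 0 0 0 = C.ptF 0 0 0 := by
    rw [h, C.rH_smul_ptF]
    simp
  rw [mul_smul, C.rH_smul_ptF, C.rS_smul_ptF] at h1
  simp only [mul_zero, zero_add, sub_zero, add_zero, zero_mul] at h1
  have h2 := C.ptF_inj h1
  have hs : s = 0 := by
    have := h2.2.1
    simpa using this
  refine ⟨hs, ?_⟩
  rw [hs, C.Y_zero, one_mul] at h
  exact C.rH_inj h

lemma RCtx.rhoU_fix {z : K} (hz : z ≠ 0) (h : C.ρ z = z) : z ^ 2 = 1 := by
  have h1 := C.ρ_ρ z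
  rw [h, h] at h1
  field_simp at h1
  exact h1.symm

/-- The kernel of the map from `SL₂`. -/
theorem RCtx.psi_eq_one_iff (x : SL2 K) : C.psi x = 1 ↔ x = 1 ∨ x = zZ K := by
  constructor
  · intro hx
    have hx10 : x.1 1 0 = 0 := by
      by_contra h
      have h1 : C.psi x • (ptI : Pts K e) = ptI := by rw [hx, one_smul]
      rw [C.psi_of' x h, C.hT_apply, mul_smul, mul_smul, mul_smul, C.rS_smul_ptI, C.w₁_smul_ptI, C.rH_smul_ptF, C.rS_smul_ptF] at h1
      exact C.ptF_ne_ptI _ _ _ h1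
    have h0 := entry00_ne hx10
    rw [C.psi_of x hx10 h0, C.hT_apply] at hx
    have h1 := C.rS_rH_eq (s := x.1 0 0 * x.1 0 1) (y := C.rhoU (Units.mk0 _ h0)) (z := 1) (by rw [hx, map_one])
    have h2 : x.1 0 1 = 0 := by
      rcases mul_eq_zero.1 h1.1 with h | h
      · exact absurd h h0
      · exact h
    have h3 : C.ρ (x.1 0 0) = x.1 0 0 := by
      have := congrArg Units.val h1.2
      rw [C.rhoU_val] at this
      simp only [Units.val_mk0, Units.val_one] at this
      field_simp at this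
      exact this
    have h4 := C.rhoU_fix h0 h3
    have hd := det_eq x
    rw [hx10, mul_zero, sub_zero] at hd
    rcases sq_cases h4 with h5 | h5
    · left
      rw [h5, one_mul] at hd
      apply sl_ext <;> simp [h5, h2, hx10, hd]
    · right
      have h6 : x.1 1 1 = -1 := by
        rw [h5] at hd
        linear_combination -hd
      apply sl_ext <;> simp [h5, h2, hx10, h6, zZ]
  · rintro (rfl | rfl)
    · exact map_one _
    · have h := C.psi_of (zZ K) (by simp [zZ]) (by simp [zZ])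
      rw [h]
      have e1 : (zZ K).1 0 0 * (zZ K).1 0 1 = 0 := by simp [zZ]
      rw [e1, C.Y_zero, one_mul, C.hT_apply]
      have : C.rhoU (Units.mk0 ((zZ K).1 0 0) (by simp [zZ])) = 1 := by
        apply Units.ext
        rw [C.rhoU_val]
        simp [zZ, C.ρ_neg_one]
      rw [this, map_one]

/-- `a` is not in the image of `SL₂`. -/
theorem RCtx.psi_ne_aI (x : SL2 K) : C.psi x ≠ C.aI := by
  intro hx
  have hx10 : x.1 1 0 = 0 := by
    by_contra h
    have h1 : C.psi x • (ptI : Pts K e) = ptI := by rw [hx]; exact C.rH_smul_ptI _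
    rw [C.psi_of' x h, C.hT_apply, mul_smul, mul_smul, mul_smul, C.rS_smul_ptI, C.w₁_smul_ptI, C.rH_smul_ptF, C.rS_smul_ptF] at h1
    exact C.ptF_ne_ptI _ _ _ h1
  have h0 := entry00_ne hx10
  rw [C.psi_of x hx10 h0, C.hT_apply] at hx
  have h1 := C.rS_rH_eq hx
  have h3 : C.ρ (x.1 0 0) = -x.1 0 0 := by
    have := congrArg Units.val h1.2
    rw [C.rhoU_val] at this
    simp only [Units.val_mk0, Units.val_neg, Units.val_one] at this
    field_simp at this
    exact this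
  have h4 : (x.1 0 0) ^ 2 = 1 := by
    have h5 := C.ρ_ρ (x.1 0 0)
    rw [h3, map_neg, h3, neg_neg] at h5
    field_simp at h5
    exact h5.symm
  rcases sq_cases h4 with h5 | h5
  · rw [h5, map_one] at h3
    exact C.neg_one_ne h3.symm
  · rw [h5, C.ρ_neg_one] at h3
    exact C.neg_one_ne (by simpa using h3)

/-- Square classes. -/
lemma RCtx.square_or_neg (C : RCtx K e) (y : Kˣ) : (∃ z : Kˣ, y = z ^ 2) ∨ (∃ z : Kˣ, y = - z ^ 2) := by
  classical
  by_cases h : IsSquare (y : K)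
  · left
    obtain ⟨z, hz⟩ := h
    have hz0 : z ≠ 0 := by
      rintro rfl
      simp at hz
    refine ⟨Units.mk0 z hz0, Units.ext ?_⟩
    simp [hz, sq]
  · right
    have h1 : quadraticChar K (y : K) = -1 := quadraticChar_neg_one_iff_not_isSquare.2 h
    have h2 : quadraticChar K (-1 : K) = -1 := quadraticChar_neg_one_iff_not_isSquare.2 C.hm1
    have h3 : quadraticChar K (-(y : K)) = 1 := by
      have : -(y : K) = (-1) * y := by ring
      rw [this, map_mul, h1, h2]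
      norm_num
    obtain ⟨z, hz⟩ := (quadraticChar_one_iff_isSquare (neg_ne_zero.2 y.ne_zero)).1 h3
    have hz0 : z ≠ 0 := by
      rintro rfl
      simp at hz
    refine ⟨Units.mk0 z hz0, Units.ext ?_⟩
    have : (y : K) = -(z * z) := by rw [← hz]; ring
    simp [this, sq]

/-- Squares of the torus are in the image. -/
lemma RCtx.rH_sq_eq (z : Kˣ) : C.rH (z ^ 2) = C.hT (z * Units.map (C.ρ : K →* K) z) := by
  rw [C.hT_apply]
  congr 1
  apply Units.ext
  rw [C.rhoU_val]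
  have h1 : C.ρ (z : K) ≠ 0 := (map_ne_zero _).2 z.ne_zero
  have h2 := z.ne_zero
  simp only [Units.val_pow_eq_pow_val, Units.val_mul, Units.coe_map, map_mul]
  show (z : K) ^ 2 = C.ρ z * C.ρ (C.ρ z) * ((z : K) * C.ρ z)⁻¹
  rw [C.ρ_ρ]
  field_simp

/-- Elements of the image. -/
lemma RCtx.hT_mem (y : Kˣ) : ∃ x : SL2 K, C.psi x = C.hT y := by
  refine ⟨SLP.dg y y.ne_zero, ?_⟩
  rw [C.psi_dg]
  congr 1
  exact Units.ext rfl

/-- The centraliser of `a`. -/
theorem RCtx.cent_cases {g : ↥(twistedG2 K e)} (hg : g * C.aI = C.aI * g) : ∃ x : SL2 K, g = C.psi x ∨ g = C.aI * C.psi x := by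
  -- the first step: reduce to the Borel subgroup
  have h1 : ∃ l : SL2 K, (C.psi l)⁻¹ * g ∈ borelOf K e := by
    rcases C.pt_cases (g • (ptI : Pts K e)) with h | ⟨t, u, v, h⟩
    · refine ⟨1, ?_⟩
      rw [map_one, inv_one, one_mul]
      exact fix_ptI.1 h
    · have h2 : C.aI • C.ptF t u v = C.ptF t u v := by
        rw [← h, ← mul_smul, ← hg, mul_smul]
        congr 1
        exact C.rH_smul_ptI _
      have h3 : C.aI • C.ptF t u v = C.ptF (-t) u (-v) := by
        show C.rH (-1) • _ = _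
        rw [C.rH_smul_ptF]
        congr 1 <;> simp [C.ρ_neg_one]
      rw [h3] at h2
      obtain ⟨a1, -, a3⟩ := C.ptF_inj h2
      have ht : t = 0 := by
        have : (2 : K) * t = 0 := by linear_combination -a1
        rcases mul_eq_zero.1 this with h | h
        · exact absurd h C.two_ne
        · exact h
      have hv : v = 0 := by
        have : (2 : K) * v = 0 := by linear_combination -a3
        rcases mul_eq_zero.1 this with h | h
        · exact absurd h C.two_ne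
        · exact h
      refine ⟨SLP.up u * SLP.wz, ?_⟩
      have e2 : C.rS 0 (-u) 0 • C.ptF 0 u 0 = C.ptF 0 0 0 := by
        rw [C.rS_smul_ptF]
        have e3 : -u + u - 0 * C.ρ 0 = 0 := by simp
        have e4 : -(0 : K) + 0 - 0 ^ 2 * C.ρ 0 - 0 * -u + 0 * 0 * C.ρ 0 = 0 := by simp
        have e5 : (0 + 0 : K) = 0 := by simp
        first
          | (rw [e3, e4, e5])
          | (congr 1 <;> simp)
      have e3 : C.w₁ • C.ptF 0 0 0 = (ptI : Pts K e) := by
        rw [← C.w₁_smul_ptI, ← mul_smul, C.w₁_sq, one_smul]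
      have e4 : (C.psi (SLP.up u * SLP.wz))⁻¹ = C.w₁ * C.rS 0 (-u) 0 := by
        rw [map_mul, C.psi_up, C.psi_wz, _root_.mul_inv_rev, C.w₁_inv, C.Y_inv]
      rw [← fix_ptI, mul_smul, h, ht, hv, e4, mul_smul, e2, e3]
  obtain ⟨l, hl⟩ := h1
  obtain ⟨t, u, v, y, hb⟩ := C.mem_borelOf.1 hl
  have hcomm : ((C.psi l)⁻¹ * g) * C.aI = C.aI * ((C.psi l)⁻¹ * g) := by
    have h3 := C.aI_comm_psi l
    have h4 : (C.psi l)⁻¹ * C.aI = C.aI * (C.psi l)⁻¹ := by
      rw [inv_mul_eq_iff_eq_mul, ← mul_assoc, ← h3, mul_assoc, mul_inv_cancel, mul_one]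
    rw [mul_assoc, hg, ← mul_assoc, h4, mul_assoc]
  rw [hb] at hcomm
  have h5 : C.aI * (C.rS t u v * C.rH y) * C.aI⁻¹ = C.rS (-t) u (-v) * C.rH y := by
    rw [← C.aI_conj]
    have := C.aI_comm_H y
    calc C.aI * (C.rS t u v * C.rH y) * C.aI⁻¹ = C.aI * C.rS t u v * (C.rH y * C.aI⁻¹) := by group
      _ = C.aI * C.rS t u v * (C.aI⁻¹ * C.rH y) := by
        congr 1
        rw [C.aI_inv, this]
      _ = _ := by group
  have h6 : C.rS t u v * C.rH y = C.rS (-t) u (-v) * C.rH y := by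
    rw [← h5, ← hcomm]
    group
  obtain ⟨a1, -, a3⟩ := C.rS_inj (mul_right_cancel h6)
  have ht : t = 0 := by
    have : (2 : K) * t = 0 := by linear_combination a1
    rcases mul_eq_zero.1 this with h | h
    · exact absurd h C.two_ne
    · exact h
  have hv : v = 0 := by
    have : (2 : K) * v = 0 := by linear_combination a3
    rcases mul_eq_zero.1 this with h | h
    · exact absurd h C.two_ne
    · exact h
  subst ht hv
  have hg2 : g = C.psi l * (C.rS 0 u 0 * C.rH y) := by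
    rw [← hb]
    group
  rcases C.square_or_neg y with ⟨z, rfl⟩ | ⟨z, rfl⟩
  · rw [C.rH_sq_eq] at hg2
    obtain ⟨x, hx⟩ := C.hT_mem (z * Units.map (C.ρ : K →* K) z)
    refine ⟨l * (SLP.up u * x), Or.inl ?_⟩
    have e5 : C.psi (l * (SLP.up u * x)) = C.psi l * (C.rS 0 u 0 * C.hT (z * Units.map (C.ρ : K →* K) z)) := by
      rw [map_mul, map_mul, C.psi_up, hx]
    rw [hg2, e5]
  · have h7 : C.rH (-z ^ 2) = C.aI * C.rH (z ^ 2) := by
      show _ = C.rH (-1) * _
      rw [← map_mul]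
      simp
    rw [h7, C.rH_sq_eq] at hg2
    obtain ⟨x, hx⟩ := C.hT_mem (z * Units.map (C.ρ : K →* K) z)
    refine ⟨l * (SLP.up u * x), Or.inr ?_⟩
    have e5 : C.psi (l * (SLP.up u * x)) = C.psi l * (C.rS 0 u 0 * C.hT (z * Units.map (C.ρ : K →* K) z)) := by
      rw [map_mul, map_mul, C.psi_up, hx]
    rw [hg2, e5]
    have h8 := C.aI_comm_psi l
    have h9 := C.aI_comm_Y u
    generalize C.hT (z * Units.map (C.ρ : K →* K) z) = B at *
    rw [← mul_assoc (C.aI), h8, mul_assoc, ← mul_assoc C.aI, h9]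
    group

/-- The map from `PSL₂`. -/
noncomputable def RCtx.psiP : ProjectiveSpecialLinearGroup (Fin 2) K →* ↥(twistedG2 K e) :=
  QuotientGroup.lift _ C.psi (fun x hx => (C.psi_eq_one_iff x).2 ((mem_center_SL2 x).1 hx))

lemma RCtx.psiP_pr (x : SL2 K) : C.psiP (prS x) = C.psi x := rfl

lemma RCtx.psiP_inj : Function.Injective C.psiP := by
  rw [injective_iff_map_eq_one]
  intro x hx
  obtain ⟨a, rfl⟩ := prS_surj x
  rw [C.psiP_pr] at hx
  exact (prS_eq_one_iff a).2 ((C.psi_eq_one_iff a).1 hx)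

lemma RCtx.aI_comm_psiP (x : ProjectiveSpecialLinearGroup (Fin 2) K) : C.aI * C.psiP x = C.psiP x * C.aI := by
  obtain ⟨a, rfl⟩ := prS_surj x
  exact C.aI_comm_psi a

lemma RCtx.psiP_ne_aI (x : ProjectiveSpecialLinearGroup (Fin 2) K) : C.psiP x ≠ C.aI := by
  obtain ⟨a, rfl⟩ := prS_surj x
  exact C.psi_ne_aI a

/-- The group `Z₂`. -/
noncomputable def RCtx.epsH : Multiplicative (ZMod 2) →* ↥(twistedG2 K e) :=
  MonoidHom.mk' (fun x => if x.toAdd = 0 then 1 else C.aI) (by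
    intro x y
    obtain ⟨a, rfl⟩ := Multiplicative.ofAdd.surjective x
    obtain ⟨b, rfl⟩ := Multiplicative.ofAdd.surjective y
    simp only [toAdd_mul, toAdd_ofAdd]
    have h11 : (1 : ZMod 2) + 1 = 0 := by decide
    have h1 : (1 : ZMod 2) ≠ 0 := by decide
    have ha : a = 0 ∨ a = 1 := by revert a; decide
    have hb : b = 0 ∨ b = 1 := by revert b; decide
    rcases ha with rfl | rfl <;> rcases hb with rfl | rfl <;> simp [h11, C.aI_sq])

lemma RCtx.epsH_zero : C.epsH (Multiplicative.ofAdd 0) = 1 := by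
  show (if (Multiplicative.ofAdd (0 : ZMod 2)).toAdd = 0 then (1 : ↥(twistedG2 K e)) else C.aI) = 1
  simp

lemma RCtx.epsH_one : C.epsH (Multiplicative.ofAdd 1) = C.aI := by
  show (if (Multiplicative.ofAdd (1 : ZMod 2)).toAdd = 0 then (1 : ↥(twistedG2 K e)) else C.aI) = C.aI
  simp

lemma RCtx.epsH_comm (ε : Multiplicative (ZMod 2)) (x : ProjectiveSpecialLinearGroup (Fin 2) K) : C.epsH ε * C.psiP x = C.psiP x * C.epsH ε := by
  obtain ⟨a, rfl⟩ := Multiplicative.ofAdd.surjective ε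
  fin_cases a
  · show C.epsH (Multiplicative.ofAdd 0) * _ = _ * C.epsH (Multiplicative.ofAdd 0)
    rw [C.epsH_zero]
    simp
  · show C.epsH (Multiplicative.ofAdd 1) * _ = _ * C.epsH (Multiplicative.ofAdd 1)
    rw [C.epsH_one]
    exact C.aI_comm_psiP x

/-- The map `Z₂ × PSL₂ → G`. -/
noncomputable def RCtx.phiC : Multiplicative (ZMod 2) × ProjectiveSpecialLinearGroup (Fin 2) K →* ↥(twistedG2 K e) :=
  MonoidHom.mk' (fun x => C.epsH x.1 * C.psiP x.2) (by
    intro x y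
    simp only [Prod.fst_mul, Prod.snd_mul, map_mul]
    have := C.epsH_comm y.1 x.2
    calc C.epsH x.1 * C.epsH y.1 * (C.psiP x.2 * C.psiP y.2) = C.epsH x.1 * (C.epsH y.1 * C.psiP x.2) * C.psiP y.2 := by group
      _ = _ := by rw [this]; group)

lemma RCtx.phiC_apply (ε : Multiplicative (ZMod 2)) (x : ProjectiveSpecialLinearGroup (Fin 2) K) : C.phiC (ε, x) = C.epsH ε * C.psiP x := rfl

lemma RCtx.phiC_inj : Function.Injective C.phiC := by
  rw [injective_iff_map_eq_one]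
  rintro ⟨ε, x⟩ h
  rw [C.phiC_apply] at h
  obtain ⟨a, rfl⟩ := Multiplicative.ofAdd.surjective ε
  fin_cases a
  · have h2 : C.epsH (Multiplicative.ofAdd 0) * C.psiP x = 1 := h
    rw [C.epsH_zero, one_mul] at h2
    have := (injective_iff_map_eq_one _).1 C.psiP_inj x h2
    rw [this]
    rfl
  · exfalso
    have h2 : C.epsH (Multiplicative.ofAdd 1) * C.psiP x = 1 := h
    rw [C.epsH_one] at h2
    apply C.psiP_ne_aI x
    have h3 := eq_inv_of_mul_eq_one_right h2
    rw [h3, C.aI_inv]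

lemma RCtx.phiC_cent (x : Multiplicative (ZMod 2) × ProjectiveSpecialLinearGroup (Fin 2) K) : C.phiC x ∈ Subgroup.centralizer {C.aI} := by
  rw [Subgroup.mem_centralizer_singleton_iff]
  obtain ⟨ε, x⟩ := x
  rw [C.phiC_apply]
  obtain ⟨a, rfl⟩ := Multiplicative.ofAdd.surjective ε
  fin_cases a
  · show C.epsH (Multiplicative.ofAdd 0) * _ * _ = _ * (C.epsH (Multiplicative.ofAdd 0) * _)
    rw [C.epsH_zero, one_mul]
    exact (C.aI_comm_psiP x).symm
  · show C.epsH (Multiplicative.ofAdd 1) * _ * _ = _ * (C.epsH (Multiplicative.ofAdd 1) * _)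
    rw [C.epsH_one, mul_assoc, ← C.aI_comm_psiP]

lemma RCtx.phiC_range_cases {g : ↥(twistedG2 K e)} (hg : g * C.aI = C.aI * g) : ∃ x, C.phiC x = g := by
  obtain ⟨x, h | h⟩ := C.cent_cases hg
  · refine ⟨(Multiplicative.ofAdd 0, prS x), ?_⟩
    rw [C.phiC_apply, C.epsH_zero, one_mul, C.psiP_pr, h]
  · refine ⟨(Multiplicative.ofAdd 1, prS x), ?_⟩
    rw [C.phiC_apply, C.epsH_one, C.psiP_pr, h]

/-- The centraliser of the involution of `H¹`. -/
noncomputable def RCtx.centEquiv : Multiplicative (ZMod 2) × ProjectiveSpecialLinearGroup (Fin 2) K ≃* ↥(Subgroup.centralizer {C.aI}) :=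
  MulEquiv.ofBijective (C.phiC.codRestrict _ C.phiC_cent) (by
    constructor
    · intro x y h
      exact C.phiC_inj (congrArg Subtype.val h)
    · rintro ⟨g, hg⟩
      obtain ⟨x, hx⟩ := C.phiC_range_cases ((Subgroup.mem_centralizer_singleton_iff).1 hg)
      exact ⟨x, Subtype.ext hx⟩)

lemma RCtx.centEquiv_apply (x) : ((C.centEquiv x : ↥(Subgroup.centralizer {C.aI})) : ↥(twistedG2 K e)) = C.phiC x := rfl

end ctx

end CfsgLib.Ree
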