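/-
A group with a Klein four Sylow subgroup and abelian centralisers of involutions of fixed order.
-/
import Mathlib
import Cfsg.Agent.Lib.H9.SL2Cl

set_option autoImplicit false

namespace CfsgLib.Ree

open CfsgLib.H9.SL2Cl

variable {Γ : Type*} [Group Γ] [Finite Γ]

omit [Finite Γ] in
/-- Two involutions with product of odd order are conjugate. -/
lemma invol_conj_of_odd {t y : Γ} (ht : t * t = 1) (hy : y * y = 1) {m : ℕ} (hm : (t * y) ^ (2 * m + 1) = 1) :
    (t * y) ^ m * t * ((t * y) ^ m)⁻¹ = y := by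
  have h1 : t⁻¹ = t := inv_eq_of_mul_eq_one_left ht
  have h2 : y⁻¹ = y := inv_eq_of_mul_eq_one_left hy
  have hz : (t * y)⁻¹ = y * t := by
    rw [_root_.mul_inv_rev, h1, h2]
  -- `t` conjugates `z` to its inverse
  have h3 : t * (t * y) ^ m * t = ((t * y)⁻¹) ^ m := by
    have : t * (t * y) * t = (t * y)⁻¹ := by
      rw [hz, ← mul_assoc, ht, one_mul]
    have h4 : t * (t * y) ^ m * t⁻¹ = (t * (t * y) * t⁻¹) ^ m := by
      rw [conj_pow]
    rw [h1] at h4
    rw [h4, this]
  set z := t * y with hzd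
  have h5 : ((t * y) ^ m)⁻¹ = (z⁻¹) ^ m := by
    rw [inv_pow]
  have h6 : t * (z⁻¹) ^ m = z ^ m * t := by
    have : t * (z⁻¹) ^ m * t = z ^ m := by
      have h7 : t * z⁻¹ * t = z := by
        rw [hz, hzd]
        calc t * (y * t) * t = t * y * (t * t) := by group
          _ = t * y := by rw [ht, mul_one]
      have h8 : t * (z⁻¹) ^ m * t⁻¹ = (t * z⁻¹ * t⁻¹) ^ m := by
        rw [conj_pow]
      rw [h1] at h8
      rw [h8, h7]
    rw [← this, mul_assoc, mul_assoc, ht, mul_one]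
  rw [h5, mul_assoc, h6]
  have h9 : z ^ m * (z ^ m * t) = z ^ (2 * m) * t := by
    rw [← mul_assoc, ← pow_add]
    congr 2
    ring
  rw [h9]
  have h10 : z ^ (2 * m) = z⁻¹ := by
    rw [pow_succ] at hm
    exact eq_inv_of_mul_eq_one_left hm
  rw [h10, hz, mul_assoc, ht, mul_one]

/-- The main lemma. -/
theorem card_of_cent_invol {n : ℕ} (h3 : ¬ 3 ∣ Nat.card Γ) (h8 : ¬ 8 ∣ Nat.card Γ) (hn4 : 4 ∣ n)
    (V : Subgroup Γ) (hV : Nat.card V = 4) (hVinv : ∀ x ∈ V, x * x = 1)
    (hcent : ∀ t : Γ, t * t = 1 → t ≠ 1 → Nat.card (Subgroup.centralizer ({t} : Set Γ)) = n ∧ ∀ x ∈ Subgroup.centralizer ({t} : Set Γ), ∀ y ∈ Subgroup.centralizer ({t} : Set Γ), x * y = y * x)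
    {t₁ t₂ : Γ} (h1 : t₁ ∈ V) (h2 : t₂ ∈ V) (h11 : t₁ ≠ 1) (h21 : t₂ ≠ 1) (h12 : t₁ ≠ t₂) : Nat.card Γ = n := by
  classical
  haveI : Fact (Nat.Prime 2) := ⟨Nat.prime_two⟩
  have hcomm : ∀ x ∈ V, ∀ y ∈ V, x * y = y * x := by
    intro x hx y hy
    have a1 := hVinv _ (V.mul_mem hx hy)
    have a2 := hVinv _ hx
    have a3 := hVinv _ hy
    calc x * y = x * (x * y * (x * y)) * y := by rw [a1]; simp
      _ = (x * x) * (y * x) * (y * y) := by group
      _ = y * x := by rw [a2, a3]; simp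
  -- `V` is a Sylow subgroup
  obtain ⟨Q, hQ⟩ : ∃ Q : Sylow 2 Γ, (Q : Subgroup Γ) = V := by
    have hU : IsPGroup 2 V := by
      apply IsPGroup.of_card (n := 2)
      rw [hV]
      norm_num
    obtain ⟨Q, hQ⟩ := hU.exists_le_sylow
    refine ⟨Q, ?_⟩
    symm
    apply Subgroup.eq_of_le_of_card_ge hQ
    obtain ⟨k, hk⟩ := IsPGroup.iff_card.1 Q.isPGroup'
    rw [hk, hV]
    have h4 : 2 ^ k ∣ Nat.card Γ := by
      rw [← hk]
      exact Subgroup.card_subgroup_dvd_card _
    have hk2 : k ≤ 2 := by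
      by_contra hlt
      push Not at hlt
      exact h8 (Dvd.dvd.trans (pow_dvd_pow 2 hlt : 2 ^ 3 ∣ 2 ^ k) h4)
    calc 2 ^ k ≤ 2 ^ 2 := Nat.pow_le_pow_right (by norm_num) hk2
      _ = 4 := by norm_num
  haveI : IsMulCommutative (Q : Subgroup Γ) := by
    constructor
    constructor
    rintro ⟨x, hx⟩ ⟨y, hy⟩
    apply Subtype.ext
    rw [hQ] at hx hy
    exact hcomm _ hx _ hy
  -- the normaliser of `V` centralises it
  have hNC : ∀ g ∈ Subgroup.normalizer (V : Set Γ), ∀ x ∈ V, g * x * g⁻¹ = x := by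
    let f := (MulAut.toPerm (M := ↥V)).comp V.normalizerMonoidHom
    have hVk : ∀ v (hv : v ∈ V), (⟨v, Subgroup.le_normalizer hv⟩ : ↥(Subgroup.normalizer (V : Set Γ))) ∈ f.ker := by
      intro v hv
      rw [MonoidHom.mem_ker]
      ext y
      show v * y.1 * v⁻¹ = y.1
      rw [hcomm _ hv _ y.2]
      simp
    have hker4 : 4 ∣ Nat.card f.ker := by
      have : Nat.card V ∣ Nat.card f.ker := by
        let j : V →* f.ker :=
          { toFun := fun v => ⟨⟨v.1, Subgroup.le_normalizer v.2⟩, hVk v.1 v.2⟩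
            map_one' := rfl
            map_mul' := fun _ _ => rfl }
        have hj : Function.Injective j := by
          intro x y h
          exact Subtype.ext (congrArg (fun z : f.ker => z.1.1) h)
        exact Subgroup.card_dvd_of_injective j hj
      rwa [hV] at this
    have hmul : Nat.card (Subgroup.normalizer (V : Set Γ)) = Nat.card f.ker * Nat.card f.range := by
      rw [← Subgroup.index_ker, Subgroup.card_mul_index]
    have hd : Nat.card (Subgroup.normalizer (V : Set Γ)) ∣ Nat.card Γ := Subgroup.card_subgroup_dvd_card _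
    have hd3 : Nat.card f.range ∣ 24 := by
      have h4 : Nat.card f.range ∣ Nat.card (Equiv.Perm ↥V) := Subgroup.card_subgroup_dvd_card _
      have h5 : Nat.card (Equiv.Perm ↥V) = 24 := by
        haveI : Fintype ↥V := Fintype.ofFinite _
        rw [Nat.card_eq_fintype_card, Fintype.card_perm, ← Nat.card_eq_fintype_card, hV]
        rfl
      rwa [h5] at h4
    have h2r : ¬ 2 ∣ Nat.card f.range := by
      intro h
      apply h8
      apply Dvd.dvd.trans _ hd
      rw [hmul]
      have : 4 * 2 ∣ Nat.card f.ker * Nat.card f.range := mul_dvd_mul hker4 h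
      exact this
    have h3r : ¬ 3 ∣ Nat.card f.range := by
      intro h
      apply h3
      apply Dvd.dvd.trans _ hd
      rw [hmul]
      exact Dvd.dvd.mul_left h _
    have hr1 : Nat.card f.range = 1 := by
      have hr24 : Nat.card f.range ≤ 24 := Nat.le_of_dvd (by norm_num) hd3
      have hpos : 0 < Nat.card f.range := Nat.card_pos
      generalize Nat.card f.range = r at *
      interval_cases r <;> omega
    have hbot : f.range = ⊥ := Subgroup.card_eq_one.1 hr1
    intro g hg x hx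
    have h4 : f ⟨g, hg⟩ = 1 := by
      have : f ⟨g, hg⟩ ∈ f.range := ⟨_, rfl⟩
      rw [hbot] at this
      exact this
    exact congrArg (fun p : Equiv.Perm ↥V => ((p ⟨x, hx⟩ : ↥V) : Γ)) h4
  -- `t₁` and `t₂` are not conjugate
  have hnc : ∀ g : Γ, g * t₁ * g⁻¹ ≠ t₂ := by
    intro g hg
    have hmem : g⁻¹⁻¹ * t₁ * g⁻¹ ∈ (Q : Subgroup Γ) := by
      rw [hQ, inv_inv, hg]
      exact h2
    have hmem2 : t₁ ∈ (Q : Subgroup Γ) := by
      rw [hQ]
      exact h1
    obtain ⟨n', hn1, hn2⟩ := Q.conj_eq_normalizer_conj_of_mem t₁ g⁻¹ hmem2 hmem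
    have hn' : n' ∈ Subgroup.normalizer (V : Set Γ) := by
      rw [← hQ]
      exact hn1
    have h5 := hNC _ (inv_mem hn') _ h1
    rw [inv_inv] at h5
    rw [inv_inv, hg, h5] at hn2
    exact h12 hn2.symm
  -- elements of the class of `t₂` commute with `t₁`
  have ht₁ := hVinv _ h1
  have ht₂ := hVinv _ h2
  have hcls : ∀ g : Γ, t₁ * (g * t₂ * g⁻¹) = (g * t₂ * g⁻¹) * t₁ := by
    intro g
    set y := g * t₂ * g⁻¹ with hy
    have hyy : y * y = 1 := by
      have : y * y = g * (t₂ * t₂) * g⁻¹ := by rw [hy]; group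
      rw [this, ht₂]
      group
    obtain ⟨m, hm | hm⟩ := Nat.even_or_odd' (orderOf (t₁ * y))
    · -- even order
      have hpos : 0 < orderOf (t₁ * y) := orderOf_pos _
      have hmpos : 0 < m := by omega
      set z := (t₁ * y) ^ m with hz
      have hz2 : z * z = 1 := by
        rw [hz, ← pow_add, ← two_mul, ← hm, pow_orderOf_eq_one]
      have hz1 : z ≠ 1 := by
        intro h
        have := orderOf_le_of_pow_eq_one hmpos h
        omega
      have hzi : z⁻¹ = z := inv_eq_of_mul_eq_one_left hz2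
      have hinv : (t₁ * y)⁻¹ = y * t₁ := by
        rw [_root_.mul_inv_rev, inv_eq_of_mul_eq_one_left ht₁, inv_eq_of_mul_eq_one_left hyy]
      have c1 : t₁ * z = z * t₁ := by
        have e1 : t₁ * (t₁ * y) * t₁⁻¹ = (t₁ * y)⁻¹ := by
          rw [hinv, inv_eq_of_mul_eq_one_left ht₁, ← mul_assoc, ht₁, one_mul]
        have e2 : t₁ * z * t₁⁻¹ = z⁻¹ := by
          rw [hz, ← conj_pow, e1, inv_pow]
        rw [hzi] at e2
        exact mul_inv_eq_iff_eq_mul.1 e2
      have c2 : y * z = z * y := by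
        have e1 : y * (t₁ * y) * y⁻¹ = (t₁ * y)⁻¹ := by
          rw [hinv, inv_eq_of_mul_eq_one_left hyy]
          calc y * (t₁ * y) * y = y * t₁ * (y * y) := by group
            _ = y * t₁ := by rw [hyy, mul_one]
        have e2 : y * z * y⁻¹ = z⁻¹ := by
          rw [hz, ← conj_pow, e1, inv_pow]
        rw [hzi] at e2
        exact mul_inv_eq_iff_eq_mul.1 e2
      have m1 : t₁ ∈ Subgroup.centralizer ({z} : Set Γ) := by
        rw [Subgroup.mem_centralizer_singleton_iff]
        exact c1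
      have m2 : y ∈ Subgroup.centralizer ({z} : Set Γ) := by
        rw [Subgroup.mem_centralizer_singleton_iff]
        exact c2
      exact (hcent z hz2 hz1).2 _ m1 _ m2
    · -- odd order: contradiction
      exfalso
      have e1 : (t₁ * y) ^ (2 * m + 1) = 1 := by
        rw [← hm, pow_orderOf_eq_one]
      have e2 := invol_conj_of_odd ht₁ hyy e1
      apply hnc (g⁻¹ * (t₁ * y) ^ m)
      have e3 : (g⁻¹ * (t₁ * y) ^ m) * t₁ * (g⁻¹ * (t₁ * y) ^ m)⁻¹ = g⁻¹ * ((t₁ * y) ^ m * t₁ * ((t₁ * y) ^ m)⁻¹) * g := by group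
      rw [e3, e2, hy]
      group
  -- the class of `t₂` is small
  obtain ⟨hcn1, hca1⟩ := hcent t₁ ht₁ h11
  obtain ⟨hcn2, -⟩ := hcent t₂ ht₂ h21
  have hmain := card_carrier_mul t₂
  rw [hcn2] at hmain
  -- the elements of order dividing two in the centraliser of `t₁`
  let B : Subgroup Γ :=
    { carrier := {x | x ∈ Subgroup.centralizer ({t₁} : Set Γ) ∧ x * x = 1}
      mul_mem' := by
        rintro a b ⟨a1, a2⟩ ⟨b1, b2⟩
        refine ⟨mul_mem a1 b1, ?_⟩
        calc a * b * (a * b) = a * (b * a) * b := by group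
          _ = a * (a * b) * b := by rw [hca1 b b1 a a1]
          _ = (a * a) * (b * b) := by group
          _ = 1 := by rw [a2, b2, one_mul]
      one_mem' := ⟨one_mem _, one_mul 1⟩
      inv_mem' := by
        rintro a ⟨a1, a2⟩
        refine ⟨inv_mem a1, ?_⟩
        rw [inv_eq_of_mul_eq_one_left a2, a2] }
  have hB : Nat.card B ≤ 4 := by
    have hU : IsPGroup 2 B := by
      rintro ⟨x, hx⟩
      refine ⟨1, ?_⟩
      apply Subtype.ext
      show x ^ (2 ^ 1) = 1
      rw [pow_one, sq]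
      exact hx.2
    obtain ⟨k, hk⟩ := IsPGroup.iff_card.1 hU
    rw [hk]
    have h4 : 2 ^ k ∣ Nat.card Γ := by
      rw [← hk]
      exact Subgroup.card_subgroup_dvd_card _
    have hk2 : k ≤ 2 := by
      by_contra hlt
      push Not at hlt
      exact h8 (Dvd.dvd.trans (pow_dvd_pow 2 hlt : 2 ^ 3 ∣ 2 ^ k) h4)
    calc 2 ^ k ≤ 2 ^ 2 := Nat.pow_le_pow_right (by norm_num) hk2
      _ = 4 := by norm_num
  have hclsB : ((ConjClasses.mk t₂).carrier : Set Γ) ⊆ (B : Set Γ) \ {1} := by
    intro y hy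
    rw [ConjClasses.mem_carrier_iff_mk_eq, ConjClasses.mk_eq_mk_iff_isConj] at hy
    obtain ⟨g, hg⟩ := isConj_iff.1 hy.symm
    rw [← hg]
    refine ⟨⟨?_, ?_⟩, ?_⟩
    · rw [Subgroup.mem_centralizer_singleton_iff]
      exact (hcls g).symm
    · have : g * t₂ * g⁻¹ * (g * t₂ * g⁻¹) = g * (t₂ * t₂) * g⁻¹ := by group
      rw [this, ht₂]
      group
    · intro h
      exact h21 (conj_eq_one_iff.1 h)
  have hle : Nat.card (ConjClasses.mk t₂).carrier ≤ 3 := by
    have hc1 : Nat.card (ConjClasses.mk t₂).carrier = ((ConjClasses.mk t₂).carrier : Set Γ).ncard := Nat.card_coe_set_eq _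
    have hc2 : Nat.card B = (B : Set Γ).ncard := Nat.card_coe_set_eq _
    rw [hc1]
    have h5 := Set.ncard_le_ncard hclsB (Set.toFinite _)
    have h6 : ((B : Set Γ) \ {1}).ncard = (B : Set Γ).ncard - 1 := Set.ncard_diff_singleton_of_mem (one_mem B)
    omega
  have hpos : 0 < Nat.card (ConjClasses.mk t₂).carrier := by
    rw [Nat.card_pos_iff]
    exact ⟨⟨t₂, ConjClasses.mem_carrier_mk⟩, inferInstance⟩
  generalize Nat.card (ConjClasses.mk t₂).carrier = c at *
  interval_cases c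
  · omega
  · exfalso
    apply h8
    rw [← hmain]
    have : 2 * 4 ∣ 2 * n := Nat.mul_dvd_mul_left _ hn4
    exact this
  · exfalso
    apply h3
    rw [← hmain]
    exact dvd_mul_right _ _

/-- An element of `p`-power order is conjugate into any subgroup of index prime to `p`. -/
theorem conj_into_of_index {p : ℕ} [Fact p.Prime] (H : Subgroup Γ) (hidx : ¬ p ∣ H.index) {x : Γ} {k : ℕ} (hx : x ^ p ^ k = 1) :
    ∃ g : Γ, g * x * g⁻¹ ∈ H := by
  classical
  have hPH : ∃ Q : Sylow p Γ, (Q : Subgroup Γ) ≤ H := by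
    let P₁ : Sylow p H := default
    have hU : IsPGroup p ((P₁ : Subgroup H).map H.subtype) := P₁.isPGroup'.map _
    obtain ⟨Q, hQ⟩ := hU.exists_le_sylow
    refine ⟨Q, ?_⟩
    have hc1 : Nat.card ((P₁ : Subgroup H).map H.subtype) = p ^ (Nat.card H).factorization p := by
      rw [Subgroup.card_map_of_injective H.subtype_injective, P₁.card_eq_multiplicity]
    have hc2 : Nat.card Q = p ^ (Nat.card Γ).factorization p := Q.card_eq_multiplicity
    have hm : Nat.card Γ = Nat.card H * H.index := (Subgroup.card_mul_index H).symm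
    have hpos1 : Nat.card H ≠ 0 := Nat.card_pos.ne'
    have hpos2 : H.index ≠ 0 := by
      intro h
      apply hidx
      rw [h]
      exact dvd_zero _
    have hf : (Nat.card Γ).factorization p = (Nat.card H).factorization p := by
      rw [hm, Nat.factorization_mul hpos1 hpos2]
      simp [Nat.factorization_eq_zero_of_not_dvd hidx]
    have : ((P₁ : Subgroup H).map H.subtype) = (Q : Subgroup Γ) := by
      apply Subgroup.eq_of_le_of_card_ge hQ
      rw [hc1]
      show Nat.card (Q : Subgroup Γ) ≤ _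
      have hc3 : Nat.card (Q : Subgroup Γ) = p ^ (Nat.card Γ).factorization p := hc2
      rw [hc3, hf]
    rw [← this]
    exact Subgroup.map_subtype_le _
  obtain ⟨Q, hQ⟩ := hPH
  have hP : IsPGroup p (Subgroup.zpowers x) := by
    rintro ⟨y, hy⟩
    refine ⟨k, Subtype.ext ?_⟩
    obtain ⟨j, hj⟩ := hy
    show y ^ p ^ k = 1
    rw [← hj]
    show (x ^ j) ^ p ^ k = 1
    rw [← zpow_natCast, ← zpow_mul, mul_comm, zpow_mul, zpow_natCast, hx, one_zpow]
  obtain ⟨R, hR⟩ := hP.exists_le_sylow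
  obtain ⟨g, hg⟩ := MulAction.exists_smul_eq Γ R Q
  refine ⟨g, hQ ?_⟩
  have h1 : x ∈ R := hR (Subgroup.mem_zpowers x)
  have h2 : g * x * g⁻¹ ∈ ((g • R : Sylow p Γ) : Subgroup Γ) := by
    rw [Sylow.coe_subgroup_smul]
    exact ⟨x, h1, rfl⟩
  rw [hg] at h2
  exact h2

end CfsgLib.Ree
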