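/-
The Sylow 2-subgroups of the small Ree groups.
-/
import Cfsg.Agent.Lib.Ree.Cent

set_option autoImplicit false
set_option synthInstance.maxHeartbeats 400000
set_option synthInstance.maxSize 1024

namespace CfsgLib.Ree

open Cfsg.Lie Cfsg.Lie.ChevalleyDatum CfsgLib.BN CfsgLib.Chev CfsgLib.H9.SL2Cl Matrix

/-- The Klein four subgroup generated by two commuting involutions. -/
theorem four_group {Γ : Type*} [Group Γ] {i j : Γ} (hi : i * i = 1) (hj : j * j = 1) (hij : i * j = j * i)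
    (i1 : i ≠ 1) (j1 : j ≠ 1) (ne : i ≠ j) :
    ∃ V : Subgroup Γ, Nat.card V = 4 ∧ (∀ x ∈ V, x * x = 1) ∧ i ∈ V ∧ j ∈ V ∧ (∀ x ∈ V, x = 1 ∨ x = i ∨ x = j ∨ x = i * j) := by
  have a1 : j * i = i * j := hij.symm
  have a2 : i * (i * j) = j := by rw [← mul_assoc, hi, one_mul]
  have a3 : j * (i * j) = i := by rw [← mul_assoc, a1, mul_assoc, hj, mul_one]
  have a4 : i * j * i = j := by rw [mul_assoc, a1, a2]
  have a5 : i * j * j = i := by rw [mul_assoc, hj, mul_one]
  have a6 : i * j * (i * j) = 1 := by rw [← mul_assoc, a4, hj]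
  have a7 : (i * j)⁻¹ = i * j := inv_eq_of_mul_eq_one_left a6
  have b1 : i⁻¹ = i := inv_eq_of_mul_eq_one_left hi
  have b2 : j⁻¹ = j := inv_eq_of_mul_eq_one_left hj
  let V : Subgroup Γ :=
    { carrier := {x | x = 1 ∨ x = i ∨ x = j ∨ x = i * j}
      mul_mem' := by
        rintro x y (rfl | rfl | rfl | rfl) (rfl | rfl | rfl | rfl) <;> simp [hi, hj, a1, a2, a3, a4, a5, a6]
      one_mem' := Or.inl rfl
      inv_mem' := by
        rintro x (rfl | rfl | rfl | rfl)
        · simp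
        · rw [b1]; simp
        · rw [b2]; simp
        · rw [a7]; simp }
  have hV : (V : Set Γ) = {1, i, j, i * j} := rfl
  refine ⟨V, ?_, ?_, Or.inr (Or.inl rfl), Or.inr (Or.inr (Or.inl rfl)), fun x hx => hx⟩
  · have hc : Nat.card ↥V = (V : Set Γ).ncard := Nat.card_coe_set_eq _
    rw [hc, hV, Set.ncard_insert_of_notMem, Set.ncard_insert_of_notMem, Set.ncard_pair]
    · intro h
      apply i1
      have : j * j = i * j * j := by rw [← h]
      rw [hj, a5] at this
      exact this.symm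
    · simp only [Set.mem_insert_iff, Set.mem_singleton_iff, not_or]
      refine ⟨ne, ?_⟩
      intro h
      apply j1
      have : i * i = i * (i * j) := by rw [← h]
      rw [hi, a2] at this
      exact this.symm
    · simp only [Set.mem_insert_iff, Set.mem_singleton_iff, not_or]
      refine ⟨i1.symm, j1.symm, ?_⟩
      intro h
      apply ne
      have : i * 1 = i * (i * j) := by rw [← h]
      rw [mul_one, a2] at this
      exact this
  · rintro x (rfl | rfl | rfl | rfl)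
    · simp
    · exact hi
    · exact hj
    · exact a6

/-- The `2`-part of the order of the group. -/
lemma two_part_G {q : ℕ} (hq : q % 8 = 3) : ∃ M, Odd M ∧ q ^ 3 * (q - 1) * (1 + q ^ 3) = 8 * M := by
  obtain ⟨k, rfl⟩ : ∃ k, q = 8 * k + 3 := ⟨q / 8, by omega⟩
  refine ⟨(8 * k + 3) ^ 3 * (4 * k + 1) * (2 * k + 1) * (64 * k ^ 2 + 40 * k + 7), ?_, ?_⟩
  · have h1 : Odd (8 * k + 3) := by
      rw [Nat.odd_iff]; omega
    have h2 : Odd (4 * k + 1) := by
      rw [Nat.odd_iff]; omega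
    have h3 : Odd (2 * k + 1) := by
      rw [Nat.odd_iff]; omega
    have h4 : Odd (64 * k ^ 2 + 40 * k + 7) := by
      rw [Nat.odd_iff]
      have : 64 * k ^ 2 + 40 * k + 7 = 2 * (32 * k ^ 2 + 20 * k + 3) + 1 := by ring
      omega
    exact ((h1.pow.mul h2).mul h3).mul h4
  · have : 8 * k + 3 - 1 = 8 * k + 2 := by omega
    rw [this]
    ring

lemma card_mod_eight {m : ℕ} : 3 ^ (2 * m + 1) % 8 = 3 := by
  rw [pow_succ, pow_mul, Nat.mul_mod, Nat.pow_mod]
  norm_num

section ctx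

variable {K : Type*} [Field K] [Fintype K] {e : ℕ} (C : RCtx K e)

lemma RCtx.exists_ab (C : RCtx K e) : ∃ α β : K, α ^ 2 + β ^ 2 = -1 := by
  haveI := C.char
  have hodd : Fintype.card K % 2 = 1 := by
    have hc := FiniteField.even_card_iff_char_two (F := K)
    have h3 : ringChar K = 3 := ringChar.eq K 3
    have : ¬ (ringChar K = 2) := by rw [h3]; norm_num
    have h5 : ¬ (Fintype.card K % 2 = 0) := by
      intro h
      apply this
      exact (FiniteField.even_card_iff_char_two (F := K)).2 h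
    omega
  obtain ⟨a, b, hab⟩ := FiniteField.exists_root_sum_quadratic (R := K) (f := Polynomial.X ^ 2) (g := Polynomial.X ^ 2 + 1)
    (Polynomial.degree_X_pow 2) (by
      rw [Polynomial.degree_add_eq_left_of_degree_lt]
      · exact Polynomial.degree_X_pow 2
      · rw [Polynomial.degree_X_pow, Polynomial.degree_one]
        norm_num) hodd
  refine ⟨a, b, ?_⟩
  simp only [Polynomial.eval_pow, Polynomial.eval_X, Polynomial.eval_add, Polynomial.eval_one] at hab
  linear_combination hab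

/-- The second element of the four-group, in `SL₂`. -/
def jZ {α β : K} (hab : α ^ 2 + β ^ 2 = -1) : SL2 K := mk α β β (-α) (by linear_combination -hab)

section ab

variable {α β : K} (hab : α ^ 2 + β ^ 2 = -1)

lemma wz_sq : (SLP.wz : SL2 K) * SLP.wz = zZ K := by
  apply sl_ext <;> simp [mul_00, mul_01, mul_10, mul_11, SLP.wz, zZ]

lemma jZ_sq : jZ hab * jZ hab = zZ K := by
  apply sl_ext <;> simp [mul_00, mul_01, mul_10, mul_11, jZ, zZ]
  · linear_combination hab
  · ring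
  · ring
  · linear_combination hab

lemma wz_jZ : (SLP.wz : SL2 K) * jZ hab = zZ K * (jZ hab * SLP.wz) := by
  apply sl_ext <;> simp [mul_00, mul_01, mul_10, mul_11, SLP.wz, zZ, jZ]

end ab

/-- The four-group of `PSL₂`. -/
theorem exists_V₀ (C : RCtx K e) {α β : K} (hab : α ^ 2 + β ^ 2 = -1) :
    ∃ V : Subgroup (ProjectiveSpecialLinearGroup (Fin 2) K), Nat.card V = 4 ∧ (∀ x ∈ V, x * x = 1) ∧ prS SLP.wz ∈ V ∧ prS (jZ hab) ∈ V ∧
      (∀ x ∈ V, x = 1 ∨ x = prS SLP.wz ∨ x = prS (jZ hab) ∨ x = prS SLP.wz * prS (jZ hab)) := by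
  have z1 : prS (zZ K) = 1 := (prS_eq_one_iff _).2 (Or.inr rfl)
  have h2 := C.two_ne
  have hne1 : ∀ x : SL2 K, x.1 0 1 ≠ 0 → prS x ≠ 1 := by
    intro x hx h
    rcases (prS_eq_one_iff _).1 h with rfl | rfl
    · simp at hx
    · simp [zZ] at hx
  have hβ : ¬ (α = 0 ∧ β = 0) := by
    rintro ⟨rfl, rfl⟩
    simp at hab
  apply four_group
  · rw [← prS_mul, wz_sq, z1]
  · rw [← prS_mul, jZ_sq, z1]
  · rw [← prS_mul, ← prS_mul, wz_jZ, prS_mul, z1, one_mul]
  · apply hne1
    simp [SLP.wz]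
  · intro h
    rcases (prS_eq_one_iff _).1 h with h1 | h1
    · have e0 := congrArg (fun x : SL2 K => x.1 0 0) h1
      have e1 := congrArg (fun x : SL2 K => x.1 0 1) h1
      have e3 := congrArg (fun x : SL2 K => x.1 1 1) h1
      simp [jZ] at e0 e1 e3
      rw [e0] at e3
      exact C.neg_one_ne e3
    · have e0 := congrArg (fun x : SL2 K => x.1 0 0) h1
      have e1 := congrArg (fun x : SL2 K => x.1 0 1) h1
      have e3 := congrArg (fun x : SL2 K => x.1 1 1) h1
      simp [jZ, zZ] at e0 e1 e3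
      rw [e0] at e3
      exact C.neg_one_ne e3
  · intro h
    have h3 : prS (SLP.wz * (jZ hab)⁻¹) = 1 := by
      rw [prS_mul]
      show prS SLP.wz * (prS (jZ hab))⁻¹ = 1
      rw [h]
      simp
    have hj : (jZ hab)⁻¹ = zZ K * jZ hab := by
      apply inv_eq_of_mul_eq_one_left
      have hz : zZ K * zZ K = 1 := by
        apply sl_ext <;> simp [mul_00, mul_01, mul_10, mul_11, zZ]
      rw [mul_assoc, jZ_sq, hz]
    rw [hj] at h3
    rcases (prS_eq_one_iff _).1 h3 with h1 | h1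
    · have e0 := congrArg (fun x : SL2 K => x.1 0 0) h1
      have e1 := congrArg (fun x : SL2 K => x.1 1 1) h1
      simp [mul_01, mul_10, mul_00, mul_11, SLP.wz, zZ, jZ] at e0 e1
      rw [e0] at e1
      exact C.neg_one_ne e1
    · have e0 := congrArg (fun x : SL2 K => x.1 0 0) h1
      have e1 := congrArg (fun x : SL2 K => x.1 1 1) h1
      simp [mul_01, mul_10, mul_00, mul_11, SLP.wz, zZ, jZ] at e0 e1
      rw [e0] at e1
      exact C.neg_one_ne e1

/-- The Sylow 2-subgroup attached to the four-group. -/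
noncomputable def RCtx.P₀ (V : Subgroup (ProjectiveSpecialLinearGroup (Fin 2) K)) : Subgroup ↥(twistedG2 K e) :=
  ((⊤ : Subgroup (Multiplicative (ZMod 2))).prod V).map C.phiC

lemma RCtx.card_P₀ (V : Subgroup (ProjectiveSpecialLinearGroup (Fin 2) K)) (hV : Nat.card V = 4) : Nat.card (C.P₀ V) = 8 := by
  unfold RCtx.P₀
  rw [Subgroup.card_map_of_injective C.phiC_inj, Nat.card_congr (Subgroup.prodEquiv _ V).toEquiv, Nat.card_prod, hV, Subgroup.card_top]
  simp [Nat.card_eq_fintype_card]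

lemma RCtx.P₀_invol (V : Subgroup (ProjectiveSpecialLinearGroup (Fin 2) K)) (hV : ∀ x ∈ V, x * x = 1) : ∀ x ∈ C.P₀ V, x * x = 1 := by
  rintro x hx
  obtain ⟨⟨ε, v⟩, ⟨-, hv⟩, rfl⟩ := hx
  rw [← map_mul]
  have h1 : ((ε, v) * (ε, v) : Multiplicative (ZMod 2) × ProjectiveSpecialLinearGroup (Fin 2) K) = 1 := by
    rw [Prod.mk_mul_mk, hV v hv]
    have : ε * ε = 1 := by
      obtain ⟨a, rfl⟩ := Multiplicative.ofAdd.surjective ε
      have key : ∀ a : ZMod 2, a + a = 0 := by decide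
      rw [← ofAdd_add, key a]
      rfl
    rw [this]
    rfl
  rw [h1, map_one]

/-- The Sylow 2-subgroups of the small Ree groups. -/
theorem RCtx.sylow_two (C : RCtx K e) {m : ℕ} (hK : Fintype.card K = 3 ^ (2 * m + 1)) {P₁ : Subgroup ↥(twistedG2 K e)} (h8 : Nat.card P₁ = 8) (S : Sylow 2 ↥(twistedG2 K e)) :
    ∃ g : ↥(twistedG2 K e), ∀ y, y ∈ (S : Subgroup ↥(twistedG2 K e)) ↔ g⁻¹ * y * g ∈ P₁ := by
  classical
  haveI : Fact (Nat.Prime 2) := ⟨Nat.prime_two⟩
  have hU : IsPGroup 2 P₁ := by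
    apply IsPGroup.of_card (n := 3)
    rw [h8]
    norm_num
  obtain ⟨Q, hQ⟩ := hU.exists_le_sylow
  have hQU : (Q : Subgroup ↥(twistedG2 K e)) = P₁ := by
    symm
    apply Subgroup.eq_of_le_of_card_ge hQ
    obtain ⟨k, hk⟩ := IsPGroup.iff_card.1 Q.isPGroup'
    rw [hk, h8]
    have h1 : 2 ^ k ∣ Nat.card ↥(twistedG2 K e) := by
      rw [← hk]
      exact Subgroup.card_subgroup_dvd_card _
    rw [C.card_G, hK] at h1
    obtain ⟨M, hM, hM2⟩ := two_part_G (card_mod_eight (m := m))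
    rw [hM2] at h1
    have h2 : Nat.Coprime (2 ^ k) M := Nat.Coprime.pow_left _ (by
      rw [Nat.coprime_two_left]
      exact hM)
    have h5 := h2.dvd_of_dvd_mul_right h1
    exact Nat.le_of_dvd (by norm_num) h5
  obtain ⟨x, hx⟩ := MulAction.exists_smul_eq ↥(twistedG2 K e) Q S
  refine ⟨x, fun y => ?_⟩
  rw [← hx, Sylow.coe_subgroup_smul, Subgroup.mem_pointwise_smul_iff_inv_smul_mem, hQU]
  show (MulAut.conj x⁻¹ y) ∈ _ ↔ _
  rw [MulAut.conj_apply, inv_inv]

/-- The main theorem on Sylow 2-subgroups. -/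
theorem RCtx.sylow_two_spec (C : RCtx K e) {m : ℕ} (hK : Fintype.card K = 3 ^ (2 * m + 1)) (S : Sylow 2 ↥(twistedG2 K e)) :
    Nat.card S = 8 ∧ ∀ x ∈ S, x * x = 1 := by
  classical
  obtain ⟨α, β, hab⟩ := C.exists_ab
  obtain ⟨V, hV1, hV2, -, -, -⟩ := exists_V₀ C hab
  have h8 := C.card_P₀ V hV1
  obtain ⟨g, hg⟩ := C.sylow_two hK h8 S
  have hS : (S : Subgroup ↥(twistedG2 K e)) = (C.P₀ V).map (MulAut.conj g).toMonoidHom := by
    ext y
    rw [hg, Subgroup.mem_map]
    constructor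
    · intro h
      exact ⟨_, h, by simp [MulAut.conj_apply]; group⟩
    · rintro ⟨z, hz, rfl⟩
      simpa [MulAut.conj_apply, mul_assoc] using hz
  constructor
  · have : Nat.card (S : Subgroup ↥(twistedG2 K e)) = 8 := by
      rw [hS, Subgroup.card_map_of_injective (MulEquiv.injective _), h8]
    exact this
  · intro x hx
    have h1 := (hg x).1 hx
    have h2 := C.P₀_invol V hV2 _ h1
    have h3 : g⁻¹ * x * g * (g⁻¹ * x * g) = g⁻¹ * (x * x) * g := by group
    rw [h3] at h2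
    have := conj_eq_one_iff.1 (by simpa using h2 : g⁻¹ * (x * x) * g⁻¹⁻¹ = 1)
    exact this

/-- Involutions of the torus. -/
theorem RCtx.eq_aI {a : ↥(twistedG2 K e)} (haH : (a : GL chevG2.Idx K) ∈ chevG2.diagonalSubgroup K) (ha1 : a ≠ 1) (ha2 : a * a = 1) : a = C.aI := by
  obtain ⟨y, hy⟩ := C.mem_H_iff.1 (Subgroup.mem_inf.2 ⟨haH, a.2⟩)
  have e1 : a = C.rH y := Subtype.ext hy
  subst e1
  have h1 : y * y = 1 := by
    apply C.rH_inj
    rw [map_mul, ha2, map_one]
  have h2 : (y : K) ^ 2 = 1 := by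
    have := congrArg Units.val h1
    simpa [sq] using this
  rcases sq_cases h2 with h3 | h3
  · exfalso
    apply ha1
    have : y = 1 := Units.ext h3
    rw [this, map_one]
  · have : y = -1 := Units.ext (by simpa using h3)
    rw [this]
    rfl

end ctx

end CfsgLib.Ree
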