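/-
All involutions of the small Ree groups are conjugate.
-/
import Cfsg.Agent.Lib.Ree.Syl

set_option autoImplicit false
set_option synthInstance.maxHeartbeats 400000
set_option synthInstance.maxSize 1024

namespace CfsgLib.Ree

open Cfsg.Lie Cfsg.Lie.ChevalleyDatum CfsgLib.BN CfsgLib.Chev CfsgLib.H9.SL2Cl Matrix

section ctx

variable {K : Type*} [Field K] [Fintype K] {e : ℕ} (C : RCtx K e)

/-- The order of `PSL₂`. -/
theorem RCtx.card_PSL (C : RCtx K e) : 2 * Nat.card (ProjectiveSpecialLinearGroup (Fin 2) K) = Fintype.card K * ((Fintype.card K) ^ 2 - 1) := by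
  classical
  have h1 := Subgroup.card_eq_card_quotient_mul_card_subgroup (Subgroup.center (SL2 K))
  rw [CfsgLib.ClassGeo.card_SL2] at h1
  have h2 : Nat.card ↥(Subgroup.center (SL2 K)) = 2 := by
    have hc : Nat.card ↥(Subgroup.center (SL2 K)) = ((Subgroup.center (SL2 K) : Subgroup (SL2 K)) : Set (SL2 K)).ncard := Nat.card_coe_set_eq _
    have h3 : ((Subgroup.center (SL2 K) : Subgroup (SL2 K)) : Set (SL2 K)) = {1, zZ K} := by
      ext z
      simp only [SetLike.mem_coe, Set.mem_insert_iff, Set.mem_singleton_iff]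
      exact mem_center_SL2 z
    rw [hc, h3, Set.ncard_pair]
    intro h
    have := congrArg (fun x : SL2 K => x.1 0 0) h
    simp [zZ] at this
    exact C.neg_one_ne this.symm
  rw [h2] at h1
  rw [h1]
  show _ = Nat.card (SL2 K ⧸ Subgroup.center (SL2 K)) * 2
  ring

/-- The order of the centraliser. -/
theorem RCtx.card_cent (C : RCtx K e) : Nat.card ↥(Subgroup.centralizer {C.aI}) = Fintype.card K * ((Fintype.card K) ^ 2 - 1) := by
  rw [← Nat.card_congr C.centEquiv.toEquiv, Nat.card_prod, ← C.card_PSL]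
  simp [Nat.card_eq_fintype_card]

/-- The order of the class of `a`. -/
theorem RCtx.card_class (C : RCtx K e) : Nat.card (ConjClasses.mk C.aI).carrier = (Fintype.card K) ^ 2 * ((Fintype.card K) ^ 2 - Fintype.card K + 1) := by
  have hq : 1 < Fintype.card K := Fintype.one_lt_card
  have h := card_carrier_mul C.aI
  rw [C.card_cent, C.card_G] at h
  obtain ⟨p, hp⟩ : ∃ p, Fintype.card K = p + 2 := ⟨Fintype.card K - 2, by omega⟩
  rw [hp] at h ⊢
  have e1 : (p + 2) ^ 2 - 1 = (p + 1) * (p + 3) := by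
    have : (p + 2) ^ 2 = (p + 1) * (p + 3) + 1 := by ring
    omega
  have e2 : (p + 2) ^ 2 - (p + 2) + 1 = p ^ 2 + 3 * p + 3 := by
    have : (p + 2) ^ 2 = p ^ 2 + 3 * p + 2 + (p + 2) := by ring
    omega
  have e3 : p + 2 - 1 = p + 1 := by omega
  rw [e1, e3] at h
  rw [e2]
  apply Nat.eq_of_mul_eq_mul_right (m := (p + 2) * ((p + 1) * (p + 3))) (by positivity)
  rw [h]
  ring

/-- Points and coordinates. -/
noncomputable def RCtx.ptEquiv : Option (K × K × K) ≃ Pts K e :=
  Equiv.ofBijective (fun o => match o with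
    | none => ptI
    | some (t, u, v) => C.ptF t u v) (by
    constructor
    · rintro (_ | ⟨t, u, v⟩) (_ | ⟨t', u', v'⟩) h
      · rfl
      · exact absurd h.symm (C.ptF_ne_ptI _ _ _)
      · exact absurd h (C.ptF_ne_ptI _ _ _)
      · obtain ⟨a1, a2, a3⟩ := C.ptF_inj h
        subst a1 a2 a3
        rfl
    · intro x
      rcases C.pt_cases x with rfl | ⟨t, u, v, rfl⟩
      · exact ⟨none, rfl⟩
      · exact ⟨some (t, u, v), rfl⟩)

/-- The number of points. -/
theorem RCtx.card_pts (C : RCtx K e) : Nat.card (Pts K e) = (Fintype.card K) ^ 3 + 1 := by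
  classical
  rw [← Nat.card_congr C.ptEquiv]
  simp [Nat.card_eq_fintype_card, Fintype.card_option, Fintype.card_prod]
  ring

instance RCtx.finPts : Finite (Pts K e) := by
  unfold Pts
  infer_instance

lemma two_mul_eq_zero (C : RCtx K e) {t : K} (h : t = -t) : t = 0 := by
  have : (2 : K) * t = 0 := by linear_combination h
  rcases mul_eq_zero.1 this with h | h
  · exact absurd h C.two_ne
  · exact h

/-- The fixed points of `a`. -/
theorem RCtx.aI_ptF_iff {t u v : K} : C.aI • C.ptF t u v = C.ptF t u v ↔ t = 0 ∧ v = 0 := by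
  have h3 : C.aI • C.ptF t u v = C.ptF (-t) u (-v) := by
    show C.rH (-1) • _ = _
    rw [C.rH_smul_ptF]
    congr 1 <;> simp [C.ρ_neg_one]
  rw [h3]
  constructor
  · intro h
    obtain ⟨a1, -, a3⟩ := C.ptF_inj h
    exact ⟨two_mul_eq_zero C a1.symm, two_mul_eq_zero C a3.symm⟩
  · rintro ⟨rfl, rfl⟩
    simp

/-- The number of fixed points of `a`. -/
theorem RCtx.card_fix_aI (C : RCtx K e) : Nat.card {x : Pts K e // C.aI • x = x} = Fintype.card K + 1 := by
  classical
  have : Nat.card (Option K) = Fintype.card K + 1 := by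
    simp [Nat.card_eq_fintype_card, Fintype.card_option]
  rw [← this]
  symm
  apply Nat.card_congr
  refine Equiv.ofBijective (fun o => match o with
    | none => ⟨ptI, C.rH_smul_ptI _⟩
    | some u => ⟨C.ptF 0 u 0, C.aI_ptF_iff.2 ⟨rfl, rfl⟩⟩) ?_
  constructor
  · rintro (_ | u) (_ | u') h
    · rfl
    · exact absurd (congrArg Subtype.val h).symm (C.ptF_ne_ptI _ _ _)
    · exact absurd (congrArg Subtype.val h) (C.ptF_ne_ptI _ _ _)
    · obtain ⟨-, a2, -⟩ := C.ptF_inj (congrArg Subtype.val h)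
      subst a2
      rfl
  · rintro ⟨x, hx⟩
    rcases C.pt_cases x with rfl | ⟨t, u, v, rfl⟩
    · exact ⟨none, rfl⟩
    · obtain ⟨rfl, rfl⟩ := C.aI_ptF_iff.1 hx
      exact ⟨some u, rfl⟩

/-- An element of the Borel subgroup is trivial only if its parts are. -/
lemma RCtx.rS_rH_one {t u v : K} {y : Kˣ} (h : C.rS t u v * C.rH y = 1) : t = 0 ∧ u = 0 ∧ v = 0 ∧ y = 1 := by
  have h1 : (C.rS t u v * C.rH y) • C.ptF 0 0 0 = C.ptF 0 0 0 := by
    rw [h, one_smul]
  rw [mul_smul, C.rH_smul_ptF, C.rS_smul_ptF] at h1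
  simp only [mul_zero, zero_add, sub_zero, add_zero, zero_mul] at h1
  obtain ⟨a1, a2, a3⟩ := C.ptF_inj h1
  have a4 : u = 0 := by simpa [a1] using a2
  have a5 : v = 0 := by simpa [a1, a4] using a3
  subst a1 a4 a5
  refine ⟨rfl, rfl, rfl, ?_⟩
  rw [C.rS_zero, one_mul] at h
  exact C.rH_inj (by rw [h, map_one])

/-- An involution with a fixed point is conjugate to `a`. -/
theorem RCtx.conj_of_fix {t : ↥(twistedG2 K e)} (ht : t * t = 1) (h1 : t ≠ 1) {x : Pts K e} (hx : t • x = x) : IsConj C.aI t := by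
  obtain ⟨g, rfl⟩ : ∃ g : ↥(twistedG2 K e), g • (ptI : Pts K e) = x := by
    induction x using QuotientGroup.induction_on with
    | H g => exact ⟨g, smul_ptI g⟩
  have h2 : (g⁻¹ * t * g) • (ptI : Pts K e) = ptI := by
    rw [mul_smul, mul_smul, hx, inv_smul_smul]
  obtain ⟨a, b, c, y, hb⟩ := C.mem_borelOf.1 (fix_ptI.1 h2)
  have hsq : (C.rS a b c * C.rH y) * (C.rS a b c * C.rH y) = 1 := by
    rw [← hb]
    have : g⁻¹ * t * g * (g⁻¹ * t * g) = g⁻¹ * (t * t) * g := by group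
    rw [this, ht]
    group
  have e1 : C.rH y * C.rS a b c = C.rS ((y : K) * a) ((y : K) * C.ρ y * b) ((y : K) ^ 2 * C.ρ y * c) * C.rH y := by
    rw [← C.rH_conj]
    group
  have hsq2 : C.rS a b c * C.rS ((y : K) * a) ((y : K) * C.ρ y * b) ((y : K) ^ 2 * C.ρ y * c) * C.rH (y * y) = 1 := by
    calc C.rS a b c * C.rS ((y : K) * a) ((y : K) * C.ρ y * b) ((y : K) ^ 2 * C.ρ y * c) * C.rH (y * y)
        = C.rS a b c * (C.rS ((y : K) * a) ((y : K) * C.ρ y * b) ((y : K) ^ 2 * C.ρ y * c) * C.rH y) * C.rH y := by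
          rw [map_mul]; group
      _ = C.rS a b c * (C.rH y * C.rS a b c) * C.rH y := by rw [e1]
      _ = (C.rS a b c * C.rH y) * (C.rS a b c * C.rH y) := by group
      _ = 1 := hsq
  rw [C.rS_mul] at hsq2
  obtain ⟨-, -, -, hy⟩ := C.rS_rH_one hsq2
  have hy2 : (y : K) ^ 2 = 1 := by
    have := congrArg Units.val hy
    simpa [sq] using this
  have hne : g⁻¹ * t * g ≠ 1 := by
    intro h
    apply h1
    exact conj_eq_one_iff.1 (by simpa using h : g⁻¹ * t * g⁻¹⁻¹ = 1)
  rcases sq_cases hy2 with h3 | h3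
  · exfalso
    have hy1 : y = 1 := Units.ext h3
    subst hy1
    rw [map_one, mul_one] at hb
    rw [hb] at hne
    have h4 := hsq
    rw [map_one, mul_one, C.rS_mul] at h4
    have h5 : C.rS (a + a) (b + b - a * C.ρ a) (c + c - a ^ 2 * C.ρ a - a * b + a * a * C.ρ a) = C.rS 0 0 0 := by
      rw [h4, C.rS_zero]
    obtain ⟨a1, a2, a3⟩ := C.rS_inj h5
    have ha : a = 0 := two_mul_eq_zero C (by linear_combination a1)
    subst ha
    have hb' : b = 0 := two_mul_eq_zero C (by simpa [eq_neg_iff_add_eq_zero] using a2)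
    subst hb'
    have hc' : c = 0 := two_mul_eq_zero C (by simpa [eq_neg_iff_add_eq_zero] using a3)
    subst hc'
    exact hne C.rS_zero
  · have hy1 : y = -1 := Units.ext (by simpa using h3)
    subst hy1
    -- the element is `s a` with `s` inverted by `a`
    have h4 := hsq
    have e2 : C.rH (-1) = C.aI := rfl
    rw [e2] at h4 hb
    have e3 : C.aI * C.rS a b c = C.rS (-a) b (-c) * C.aI := by
      rw [← C.aI_conj]
      group
    have e4 : C.rS a b c * C.aI * (C.rS a b c * C.aI) = C.rS a b c * C.rS (-a) b (-c) * (C.aI * C.aI) := by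
      rw [mul_assoc (C.rS a b c), ← mul_assoc C.aI, e3]
      group
    rw [e4, C.aI_sq, mul_one, C.rS_mul, ← C.rS_zero] at h4
    obtain ⟨-, a2, -⟩ := C.rS_inj h4
    have h3' := C.three
    have hb' : b = a * C.ρ a := by
      rw [map_neg] at a2
      linear_combination (-1 : K) * a2 + b * h3'
    subst hb'
    -- the conjugating element
    set r := C.rS (-a) 0 (-c + a ^ 2 * C.ρ a) with hr
    have e5 : r * C.aI * r⁻¹ = C.rS a (a * C.ρ a) c * C.aI := by
      have e6 : C.aI * r⁻¹ = (C.aI * r⁻¹ * C.aI⁻¹) * C.aI := by group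
      rw [mul_assoc, e6, ← mul_assoc]
      congr 1
      rw [hr, C.rS_inv, C.aI_conj, C.rS_mul]
      simp only [map_neg, map_add, map_pow, map_mul, C.ρ_ρ, neg_neg]
      congr 1
      · linear_combination (-a) * h3'
      · linear_combination (-(a * C.ρ a) ) * h3'
      · linear_combination (-c + a ^ 2 * C.ρ a) * h3'
    rw [isConj_iff]
    refine ⟨g * r, ?_⟩
    have e7 : g * r * C.aI * (g * r)⁻¹ = g * (r * C.aI * r⁻¹) * g⁻¹ := by group
    rw [e7, e5, ← hb]
    group

lemma conj_sq_aux {Γ : Type*} [Group Γ] (g s x : Γ) : (g * (s * x * s⁻¹) * g⁻¹) * (g * (s * x * s⁻¹) * g⁻¹) = g * (s * (x * x) * s⁻¹) * g⁻¹ := by group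

lemma RCtx.mv_smul (a b c : K) (y : Kˣ) : (C.rS a b c * (C.w₁ * C.rH y) * (C.rS a b c)⁻¹) • (ptI : Pts K e) = C.ptF a b c := by
  rw [mul_smul, mul_smul, mul_smul, inv_smul_eq_iff.2 (C.rS_smul_ptI _ _ _).symm, C.rH_smul_ptI, C.w₁_smul_ptI, C.rS_smul_ptF]
  congr 1 <;> simp

lemma RCtx.wh_sq (y : Kˣ) : (C.w₁ * C.rH y) * (C.w₁ * C.rH y) = 1 := by
  have := C.w₁_conj_H y
  rw [C.w₁_inv] at this
  calc (C.w₁ * C.rH y) * (C.w₁ * C.rH y) = (C.w₁ * C.rH y * C.w₁) * C.rH y := by group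
    _ = 1 := by rw [this, map_inv]; group

/-- Involutions moving the point `∞` are conjugates of elements `w h`. -/
lemma RCtx.mv_exists {t₁ : ↥(twistedG2 K e)} (a2 : t₁ * t₁ = 1) (a1 : t₁ • (ptI : Pts K e) ≠ ptI) :
    ∃ a b c y, C.rS a b c * (C.w₁ * C.rH y) * (C.rS a b c)⁻¹ = t₁ := by
  obtain ⟨a, b, c, h4⟩ := (C.pt_cases (t₁ • (ptI : Pts K e))).resolve_left a1
  set s := C.rS a b c with hs
  have a3 : s • C.w₁ • (ptI : Pts K e) = C.ptF a b c := by
    rw [C.w₁_smul_ptI, C.rS_smul_ptF]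
    congr 1 <;> simp
  set t₂ := s⁻¹ * t₁ * s with ht₂
  have a4 : t₂ • (ptI : Pts K e) = C.ptF 0 0 0 := by
    rw [ht₂, mul_smul, mul_smul, inv_smul_eq_iff, C.rS_smul_ptI, h4, ← a3, C.w₁_smul_ptI]
  have a5 : t₂ * t₂ = 1 := by
    have : t₂ * t₂ = s⁻¹ * (t₁ * t₁) * s := by rw [ht₂]; group
    rw [this, a2]
    group
  have a6 : t₂ • C.ptF 0 0 0 = (ptI : Pts K e) := by
    rw [← a4, ← mul_smul, a5, one_smul]
  have a7 : (C.w₁⁻¹ * t₂) • (ptI : Pts K e) = ptI := by
    rw [mul_smul, a4, C.w₁_inv, ← C.w₁_smul_ptI, ← mul_smul, C.w₁_sq, one_smul]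
  have a8 : (C.w₁⁻¹ * t₂) • C.ptF 0 0 0 = C.ptF 0 0 0 := by
    rw [mul_smul, a6, C.w₁_inv, C.w₁_smul_ptI]
  obtain ⟨y, hy⟩ := C.stab_two a7 a8
  refine ⟨a, b, c, y, ?_⟩
  rw [← hy, ht₂, ← hs]
  generalize s = s'
  generalize t₁ = z
  generalize C.w₁ = z'
  group

/-- The involutions moving a point. -/
theorem RCtx.card_moving (C : RCtx K e) (g : ↥(twistedG2 K e)) [Fintype ↥(twistedG2 K e)] [DecidableEq ↥(twistedG2 K e)] [DecidablePred fun t : ↥(twistedG2 K e) => t * t = 1 ∧ t ≠ 1 ∧ t • (g • (ptI : Pts K e)) ≠ g • (ptI : Pts K e)] :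
    (Finset.univ.filter (fun t : ↥(twistedG2 K e) => t * t = 1 ∧ t ≠ 1 ∧ t • (g • (ptI : Pts K e)) ≠ g • (ptI : Pts K e))).card = (Fintype.card K) ^ 3 * (Fintype.card K - 1) := by
  classical
  let f : (K × K × K) × Kˣ → ↥(twistedG2 K e) := fun p => g * (C.rS p.1.1 p.1.2.1 p.1.2.2 * (C.w₁ * C.rH p.2) * (C.rS p.1.1 p.1.2.1 p.1.2.2)⁻¹) * g⁻¹
  have hinj : Function.Injective f := by
    rintro ⟨⟨t, u, v⟩, y⟩ ⟨⟨t', u', v'⟩, y'⟩ h
    have h1 : C.rS t u v * (C.w₁ * C.rH y) * (C.rS t u v)⁻¹ = C.rS t' u' v' * (C.w₁ * C.rH y') * (C.rS t' u' v')⁻¹ := by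
      have : g * (C.rS t u v * (C.w₁ * C.rH y) * (C.rS t u v)⁻¹) * g⁻¹ = g * (C.rS t' u' v' * (C.w₁ * C.rH y') * (C.rS t' u' v')⁻¹) * g⁻¹ := h
      simpa using this
    have h2 := congrArg (fun z : ↥(twistedG2 K e) => z • (ptI : Pts K e)) h1
    simp only [C.mv_smul] at h2
    obtain ⟨rfl, rfl, rfl⟩ := C.ptF_inj h2
    have h3 : C.rH y = C.rH y' := by
      have : C.w₁ * C.rH y = C.w₁ * C.rH y' := by simpa using h1
      exact mul_left_cancel this
    rw [C.rH_inj h3]
  have himg : Finset.univ.filter (fun t : ↥(twistedG2 K e) => t * t = 1 ∧ t ≠ 1 ∧ t • (g • (ptI : Pts K e)) ≠ g • (ptI : Pts K e)) = Finset.univ.image f := by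
    ext t
    simp only [Finset.mem_filter, Finset.mem_univ, true_and, Finset.mem_image]
    constructor
    · rintro ⟨h1, h2, h3⟩
      have a1 : (g⁻¹ * t * g) • (ptI : Pts K e) ≠ ptI := by
        intro h
        apply h3
        rw [mul_smul, mul_smul, inv_smul_eq_iff] at h
        exact h
      have a2 : (g⁻¹ * t * g) * (g⁻¹ * t * g) = 1 := by
        have : (g⁻¹ * t * g) * (g⁻¹ * t * g) = g⁻¹ * (t * t) * g := by group
        rw [this, h1]
        group
      obtain ⟨a, b, c, y, hy⟩ := C.mv_exists a2 a1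
      refine ⟨((a, b, c), y), ?_⟩
      show g * (C.rS a b c * (C.w₁ * C.rH y) * (C.rS a b c)⁻¹) * g⁻¹ = t
      rw [hy]
      group
    · rintro ⟨⟨⟨a, b, c⟩, y⟩, rfl⟩
      show (g * (C.rS a b c * (C.w₁ * C.rH y) * (C.rS a b c)⁻¹) * g⁻¹) * (g * (C.rS a b c * (C.w₁ * C.rH y) * (C.rS a b c)⁻¹) * g⁻¹) = 1 ∧ (g * (C.rS a b c * (C.w₁ * C.rH y) * (C.rS a b c)⁻¹) * g⁻¹) ≠ 1 ∧ (g * (C.rS a b c * (C.w₁ * C.rH y) * (C.rS a b c)⁻¹) * g⁻¹) • (g • (ptI : Pts K e)) ≠ g • (ptI : Pts K e)
      have hmove : (g * (C.rS a b c * (C.w₁ * C.rH y) * (C.rS a b c)⁻¹) * g⁻¹) • (g • (ptI : Pts K e)) ≠ g • (ptI : Pts K e) := by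
        rw [mul_smul, mul_smul, inv_smul_smul, C.mv_smul]
        intro h
        exact C.ptF_ne_ptI _ _ _ (MulAction.injective g h)
      refine ⟨?_, ?_, hmove⟩
      · rw [conj_sq_aux, C.wh_sq, mul_one, mul_inv_cancel, mul_one, mul_inv_cancel]
      · intro h
        rw [h, one_smul] at hmove
        exact hmove rfl
  rw [himg, Finset.card_image_of_injective _ hinj, Finset.card_univ, Fintype.card_prod, Fintype.card_prod, Fintype.card_prod, Fintype.card_units]
  ring

/-- Every involution is conjugate to `a`. -/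
theorem RCtx.invol_conj (C : RCtx K e) {t : ↥(twistedG2 K e)} (ht : t * t = 1) (h1 : t ≠ 1) : IsConj C.aI t := by
  classical
  haveI : Fintype ↥(twistedG2 K e) := Fintype.ofFinite _
  haveI : Fintype (Pts K e) := Fintype.ofFinite _
  by_contra hcon
  have hq : 1 < Fintype.card K := Fintype.one_lt_card
  set q := Fintype.card K with hqd
  have hN : Fintype.card (Pts K e) = q ^ 3 + 1 := by
    rw [← Nat.card_eq_fintype_card, C.card_pts]
  set s : Finset ↥(twistedG2 K e) := Finset.univ.filter (fun t => t * t = 1 ∧ t ≠ 1) with hs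
  have hdc := Finset.sum_card_bipartiteAbove_eq_sum_card_bipartiteBelow (s := s) (t := (Finset.univ : Finset (Pts K e))) (fun t x => t • x ≠ x)
  have hr : ∀ x ∈ (Finset.univ : Finset (Pts K e)), (Finset.bipartiteBelow (fun (t : ↥(twistedG2 K e)) (x : Pts K e) => t • x ≠ x) s x).card = q ^ 3 * (q - 1) := by
    intro x _
    obtain ⟨g, rfl⟩ : ∃ g : ↥(twistedG2 K e), g • (ptI : Pts K e) = x := by
      induction x using QuotientGroup.induction_on with
      | H g => exact ⟨g, smul_ptI g⟩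
    rw [← C.card_moving g]
    congr 1
    ext t
    simp only [Finset.mem_bipartiteBelow, hs, Finset.mem_filter, Finset.mem_univ, true_and]
    tauto
  rw [Finset.sum_congr rfl hr, Finset.sum_const, Finset.card_univ, hN, smul_eq_mul] at hdc
  set A : Finset ↥(twistedG2 K e) := Finset.univ.filter (fun t => IsConj C.aI t) with hA
  have hAs : A ⊆ s := by
    intro x hx
    obtain ⟨c, rfl⟩ := isConj_iff.1 (Finset.mem_filter.1 hx).2
    simp only [hs, Finset.mem_filter, Finset.mem_univ, true_and]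
    constructor
    · have : c * C.aI * c⁻¹ * (c * C.aI * c⁻¹) = c * (C.aI * C.aI) * c⁻¹ := by group
      rw [this, C.aI_sq]
      group
    · intro h
      apply C.aI_ne
      exact conj_eq_one_iff.1 h
  have hAcard : A.card = q ^ 2 * (q ^ 2 - q + 1) := by
    rw [← C.card_class, ← Fintype.card_coe, ← Nat.card_eq_fintype_card]
    apply Nat.card_congr
    exact Equiv.subtypeEquivRight (fun x => by
      simp only [hA, Finset.mem_filter, Finset.mem_univ, true_and, ConjClasses.mem_carrier_iff_mk_eq, ConjClasses.mk_eq_mk_iff_isConj]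
      exact ⟨fun h => h.symm, fun h => h.symm⟩)
  have hAterm : ∀ x ∈ A, (Finset.bipartiteAbove (fun (t : ↥(twistedG2 K e)) (x : Pts K e) => t • x ≠ x) (Finset.univ : Finset (Pts K e)) x).card = q ^ 3 - q := by
    intro x hx
    obtain ⟨c, rfl⟩ := isConj_iff.1 (Finset.mem_filter.1 hx).2
    have e1 : (Finset.bipartiteAbove (fun (t : ↥(twistedG2 K e)) (x : Pts K e) => t • x ≠ x) (Finset.univ : Finset (Pts K e)) (c * C.aI * c⁻¹)).card + (q + 1) = q ^ 3 + 1 := by
      have e2 : q + 1 = (Finset.univ.filter (fun x : Pts K e => C.aI • x = x)).card := by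
        rw [hqd, ← C.card_fix_aI, Nat.card_eq_fintype_card, Fintype.card_subtype]
      have e3 : (Finset.bipartiteAbove (fun (t : ↥(twistedG2 K e)) (x : Pts K e) => t • x ≠ x) (Finset.univ : Finset (Pts K e)) (c * C.aI * c⁻¹)).card = (Finset.univ.filter (fun x : Pts K e => C.aI • x ≠ x)).card := by
        apply Finset.card_bij (fun x _ => c⁻¹ • x)
        · intro x hx
          simp only [Finset.mem_bipartiteAbove, Finset.mem_univ, true_and] at hx
          simp only [Finset.mem_filter, Finset.mem_univ, true_and]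
          intro h
          apply hx
          rw [mul_smul, mul_smul, h, smul_inv_smul]
        · intro x _ y _ h
          exact MulAction.injective _ h
        · intro x hx
          simp only [Finset.mem_filter, Finset.mem_univ, true_and] at hx
          refine ⟨c • x, ?_, inv_smul_smul _ _⟩
          simp only [Finset.mem_bipartiteAbove, Finset.mem_univ, true_and]
          intro h
          apply hx
          rw [mul_smul, mul_smul, inv_smul_smul] at h
          exact MulAction.injective c h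
      rw [e3, e2, ← hN, ← Finset.card_univ, add_comm]
      exact Finset.card_filter_add_card_filter_not (s := (Finset.univ : Finset (Pts K e))) _
    omega
  have hrest : ∀ x ∈ s \ A, (Finset.bipartiteAbove (fun (t : ↥(twistedG2 K e)) (x : Pts K e) => t • x ≠ x) (Finset.univ : Finset (Pts K e)) x).card = q ^ 3 + 1 := by
    intro x hx
    obtain ⟨h2, h3⟩ := Finset.mem_sdiff.1 hx
    have h4 := (Finset.mem_filter.1 h2).2
    rw [← hN, ← Finset.card_univ]
    congr 1
    ext p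
    simp only [Finset.mem_bipartiteAbove, Finset.mem_univ, true_and, iff_true]
    intro h
    exact h3 (Finset.mem_filter.2 ⟨Finset.mem_univ _, C.conj_of_fix h4.1 h4.2 h⟩)
  rw [← Finset.sum_sdiff hAs, Finset.sum_congr rfl hrest, Finset.sum_congr rfl hAterm, Finset.sum_const, Finset.sum_const, hAcard, smul_eq_mul, smul_eq_mul] at hdc
  have ht' : t ∈ s \ A := Finset.mem_sdiff.2 ⟨Finset.mem_filter.2 ⟨Finset.mem_univ _, ht, h1⟩, fun h => hcon (Finset.mem_filter.1 h).2⟩
  have hpos : 0 < (s \ A).card := Finset.card_pos.2 ⟨t, ht'⟩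
  obtain ⟨p, hp⟩ : ∃ p, q = p + 2 := ⟨q - 2, by omega⟩
  rw [hp] at hdc
  have e1 : (p + 2) ^ 2 - (p + 2) + 1 = p ^ 2 + 3 * p + 3 := by
    have : (p + 2) ^ 2 = p ^ 2 + 3 * p + 2 + (p + 2) := by ring
    omega
  have e2 : (p + 2) ^ 3 - (p + 2) = (p + 1) * (p + 2) * (p + 3) := by
    have : (p + 2) ^ 3 = (p + 1) * (p + 2) * (p + 3) + (p + 2) := by ring
    omega
  have e3 : p + 2 - 1 = p + 1 := by omega
  rw [e1, e2, e3] at hdc
  have e4 : (p + 2) ^ 2 * (p ^ 2 + 3 * p + 3) * ((p + 1) * (p + 2) * (p + 3)) = ((p + 2) ^ 3 + 1) * ((p + 2) ^ 3 * (p + 1)) := by ring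
  rw [e4] at hdc
  have h5 : 0 < (s \ A).card * ((p + 2) ^ 3 + 1) := by positivity
  omega

end ctx

end CfsgLib.Ree
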