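/-
The normaliser of a Sylow 2-subgroup of the small Ree groups.
-/
import Cfsg.Agent.Lib.Ree.Inv2

set_option autoImplicit false
set_option synthInstance.maxHeartbeats 400000
set_option synthInstance.maxSize 1024

namespace CfsgLib.Ree

open Cfsg.Lie Cfsg.Lie.ChevalleyDatum CfsgLib.BN CfsgLib.Chev CfsgLib.H9.SL2Cl Matrix

section ctx

variable {K : Type*} [Field K] [Fintype K] {e : ℕ} (C : RCtx K e)

lemma prS_eq_iff (a b : SL2 K) : prS a = prS b ↔ a = b ∨ a = zZ K * b := by
  have h1 : prS a = prS b ↔ prS (a * b⁻¹) = 1 := by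
    rw [prS_mul]
    constructor
    · intro h
      rw [h]
      exact mul_inv_cancel _
    · intro h
      have h2 : prS a * (prS b)⁻¹ = 1 := h
      exact mul_inv_eq_one.mp h2
  rw [h1, prS_eq_one_iff, mul_inv_eq_one, mul_inv_eq_iff_eq_mul]

lemma zZ_mul_00 (x : SL2 K) : (zZ K * x).1 0 0 = - x.1 0 0 := by rw [mul_00]; simp [zZ]
lemma zZ_mul_01 (x : SL2 K) : (zZ K * x).1 0 1 = - x.1 0 1 := by rw [mul_01]; simp [zZ]
lemma zZ_mul_10 (x : SL2 K) : (zZ K * x).1 1 0 = - x.1 1 0 := by rw [mul_10]; simp [zZ]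
lemma zZ_mul_11 (x : SL2 K) : (zZ K * x).1 1 1 = - x.1 1 1 := by rw [mul_11]; simp [zZ]

lemma zZ_sq : zZ K * zZ K = 1 := by
  apply sl_ext <;> simp [mul_00, mul_01, mul_10, mul_11, zZ]

lemma prS_zZ : prS (zZ K) = 1 := (prS_eq_one_iff _).2 (Or.inr rfl)

lemma prS_zZ_mul (x : SL2 K) : prS (zZ K * x) = prS x := by
  rw [prS_mul, prS_zZ, one_mul]

section ab

variable {α β : K} (hab : α ^ 2 + β ^ 2 = -1)

lemma ab_ne (C : RCtx K e) (hab : α ^ 2 + β ^ 2 = -1) : α ≠ 0 ∧ β ≠ 0 := by
  constructor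
  · rintro rfl
    apply C.hm1
    exact ⟨β, by rw [← hab]; ring⟩
  · rintro rfl
    apply C.hm1
    exact ⟨α, by rw [← hab]; ring⟩

/-- The centraliser of the four-group in `PSL₂`. -/
theorem cent_V₀ (C : RCtx K e) (hab : α ^ 2 + β ^ 2 = -1) {l : ProjectiveSpecialLinearGroup (Fin 2) K}
    (h1 : l * prS SLP.wz = prS SLP.wz * l) (h2 : l * prS (jZ hab) = prS (jZ hab) * l) :
    l = 1 ∨ l = prS SLP.wz ∨ l = prS (jZ hab) ∨ l = prS SLP.wz * prS (jZ hab) := by
  obtain ⟨y, rfl⟩ := prS_surj l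
  obtain ⟨hα, hβ⟩ := ab_ne C hab
  have h20 := C.two_ne
  have hd := det_eq y
  obtain ⟨p, hp⟩ : ∃ p, y.1 0 0 = p := ⟨_, rfl⟩
  obtain ⟨q, hq⟩ : ∃ p, y.1 0 1 = p := ⟨_, rfl⟩
  obtain ⟨r, hr⟩ : ∃ p, y.1 1 0 = p := ⟨_, rfl⟩
  obtain ⟨s, hs⟩ : ∃ p, y.1 1 1 = p := ⟨_, rfl⟩
  rw [hp, hq, hr, hs] at hd
  have h3 : y * SLP.wz = SLP.wz * y ∨ y * SLP.wz = zZ K * (SLP.wz * y) := (prS_eq_iff _ _).1 h1
  have h4 : y * jZ hab = jZ hab * y ∨ y * jZ hab = zZ K * (jZ hab * y) := (prS_eq_iff _ _).1 h2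
  have a00 : (y * SLP.wz).1 0 0 = q := by rw [mul_00]; simp [SLP.wz, hq]
  have a01 : (y * SLP.wz).1 0 1 = -p := by rw [mul_01]; simp [SLP.wz, hp]
  have b00 : (SLP.wz * y).1 0 0 = -r := by rw [SLP.wz_mul_00, hr]
  have b01 : (SLP.wz * y).1 0 1 = -s := by rw [SLP.wz_mul_01, hs]
  have c00 : (y * jZ hab).1 0 0 = p * α + q * β := by rw [mul_00]; simp [jZ, hp, hq]
  have c01 : (y * jZ hab).1 0 1 = p * β - q * α := by rw [mul_01]; simp [jZ, hp, hq]; ring
  have d00 : (jZ hab * y).1 0 0 = α * p + β * r := by rw [mul_00]; simp [jZ, hp, hr]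
  have d01 : (jZ hab * y).1 0 1 = α * q + β * s := by rw [mul_01]; simp [jZ, hq, hs]
  have h2mul : ∀ x : K, (2 : K) * x = 0 → x = 0 := by
    intro x hx
    rcases mul_eq_zero.1 hx with h | h
    · exact absurd h h20
    · exact h
  have z1 : prS (zZ K) = 1 := prS_zZ
  rcases h3 with h3 | h3
  · -- case A
    have f1 : r = -q := by
      have := congrArg (fun x : SL2 K => x.1 0 0) h3
      simp only [a00, b00] at this
      linear_combination this
    have f2 : s = p := by
      have := congrArg (fun x : SL2 K => x.1 0 1) h3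
      simp only [a01, b01] at this
      linear_combination this
    rw [f1, f2] at hd
    rcases h4 with h4 | h4
    · left
      have g1 := congrArg (fun x : SL2 K => x.1 0 0) h4
      simp only [c00, d00] at g1
      rw [f1] at g1
      have hq0 : q = 0 := by
        have : β * q = 0 := h2mul _ (by linear_combination g1)
        exact (mul_eq_zero.1 this).resolve_left hβ
      rw [hq0] at hd f1
      have hr0 : r = 0 := by simpa using f1
      have hp2 : p ^ 2 = 1 := by linear_combination hd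
      rw [prS_eq_one_iff]
      rcases sq_cases hp2 with h5 | h5
      · left
        apply sl_ext <;> simp [hp, hq, hr, hs, f2, h5, hq0, hr0]
      · right
        apply sl_ext <;> simp [hp, hq, hr, hs, f2, h5, hq0, hr0, zZ]
    · right; left
      have g1 := congrArg (fun x : SL2 K => x.1 0 0) h4
      rw [zZ_mul_00] at g1
      simp only [c00, d00] at g1
      rw [f1] at g1
      have hp0 : p = 0 := by
        have : α * p = 0 := h2mul _ (by linear_combination g1)
        exact (mul_eq_zero.1 this).resolve_left hα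
      rw [hp0] at hd f2
      have hq2 : q ^ 2 = 1 := by linear_combination hd
      rw [prS_eq_iff]
      rcases sq_cases hq2 with h5 | h5
      · right
        apply sl_ext
        · rw [zZ_mul_00]; simp [hp, hp0, SLP.wz]
        · rw [zZ_mul_01]; simp [hq, h5, SLP.wz]
        · rw [zZ_mul_10]; simp [hr, f1, h5, SLP.wz]
        · rw [zZ_mul_11]; simp [hs, f2, SLP.wz]
      · left
        apply sl_ext
        · simp [hp, hp0, SLP.wz]
        · simp [hq, h5, SLP.wz]
        · simp [hr, f1, h5, SLP.wz]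
        · simp [hs, f2, SLP.wz]
  · -- case B
    have f1 : r = q := by
      have := congrArg (fun x : SL2 K => x.1 0 0) h3
      rw [zZ_mul_00] at this
      simp only [a00, b00] at this
      linear_combination -this
    have f2 : s = -p := by
      have := congrArg (fun x : SL2 K => x.1 0 1) h3
      rw [zZ_mul_01] at this
      simp only [a01, b01] at this
      linear_combination -this
    rw [f1, f2] at hd
    have hnorm : p ^ 2 + q ^ 2 = -1 := by linear_combination -hd
    rcases h4 with h4 | h4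
    · right; right; left
      have g1 := congrArg (fun x : SL2 K => x.1 0 1) h4
      simp only [c01, d01] at g1
      rw [f2] at g1
      have h5 : p * β = q * α := by
        have : p * β - q * α = 0 := h2mul _ (by linear_combination g1)
        linear_combination this
      have h6 : (p - α) * (p + α) = 0 := by
        linear_combination (-α ^ 2) * hnorm + (p ^ 2) * hab + (-(p * β) - q * α) * h5
      rw [prS_eq_iff]
      rcases mul_eq_zero.1 h6 with h7 | h7
      · left
        have hpa : p = α := by linear_combination h7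
        have hqb : q = β := by
          rw [hpa] at h5
          have : α * (q - β) = 0 := by linear_combination -h5
          have := (mul_eq_zero.1 this).resolve_left hα
          linear_combination this
        apply sl_ext
        · simp [hp, hpa, jZ]
        · simp [hq, hqb, jZ]
        · simp [hr, f1, hqb, jZ]
        · simp [hs, f2, hpa, jZ]
      · right
        have hpa : p = -α := by linear_combination h7
        have hqb : q = -β := by
          rw [hpa] at h5
          have : α * (q + β) = 0 := by linear_combination -h5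
          have := (mul_eq_zero.1 this).resolve_left hα
          linear_combination this
        apply sl_ext
        · rw [zZ_mul_00]; simp [hp, hpa, jZ]
        · rw [zZ_mul_01]; simp [hq, hqb, jZ]
        · rw [zZ_mul_10]; simp [hr, f1, hqb, jZ]
        · rw [zZ_mul_11]; simp [hs, f2, hpa, jZ]
    · right; right; right
      have g1 := congrArg (fun x : SL2 K => x.1 0 0) h4
      rw [zZ_mul_00] at g1
      simp only [c00, d00] at g1
      rw [f1] at g1
      have h5 : p * α = - (q * β) := by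
        have : p * α + q * β = 0 := h2mul _ (by linear_combination g1)
        linear_combination this
      have h6 : (p - β) * (p + β) = 0 := by
        linear_combination (-β ^ 2) * hnorm + (p ^ 2) * hab + (-(p * α) + q * β) * h5
      rw [← prS_mul, prS_eq_iff]
      rcases mul_eq_zero.1 h6 with h7 | h7
      · right
        have hpa : p = β := by linear_combination h7
        have hqb : q = -α := by
          rw [hpa] at h5
          have : β * (q + α) = 0 := by linear_combination h5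
          have := (mul_eq_zero.1 this).resolve_left hβ
          linear_combination this
        apply sl_ext
        · rw [zZ_mul_00, SLP.wz_mul_00]; simp [hp, hpa, jZ]
        · rw [zZ_mul_01, SLP.wz_mul_01]; simp [hq, hqb, jZ]
        · rw [zZ_mul_10, SLP.wz_mul_10]; simp [hr, f1, hqb, jZ]
        · rw [zZ_mul_11, SLP.wz_mul_11]; simp [hs, f2, hpa, jZ]
      · left
        have hpa : p = -β := by linear_combination h7
        have hqb : q = α := by
          rw [hpa] at h5
          have : β * (q - α) = 0 := by linear_combination h5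
          have := (mul_eq_zero.1 this).resolve_left hβ
          linear_combination this
        apply sl_ext
        · rw [SLP.wz_mul_00]; simp [hp, hpa, jZ]
        · rw [SLP.wz_mul_01]; simp [hq, hqb, jZ]
        · rw [SLP.wz_mul_10]; simp [hr, f1, hqb, jZ]
        · rw [SLP.wz_mul_11]; simp [hs, f2, hpa, jZ]

/-- The element of order three, in `SL₂`. -/
def gZ (C : RCtx K e) (hab : α ^ 2 + β ^ 2 = -1) : SL2 K :=
  mk (1 + α - β) (-1 + β + α) (1 + β + α) (1 - α + β) (by linear_combination (-2 : K) * hab + C.three)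

lemma gZ_wz : gZ C hab * SLP.wz = jZ hab * gZ C hab := by
  apply sl_ext
  · rw [mul_00, mul_00]; simp [gZ, jZ, SLP.wz]; linear_combination -hab
  · rw [mul_01, mul_01]; simp [gZ, jZ, SLP.wz]; linear_combination -hab
  · rw [mul_10, mul_10]; simp [gZ, jZ, SLP.wz]; linear_combination hab
  · rw [mul_11, mul_11]; simp [gZ, jZ, SLP.wz]; linear_combination -hab

lemma gZ_jZ : gZ C hab * jZ hab = (SLP.wz * jZ hab) * gZ C hab := by
  apply sl_ext
  · rw [mul_00, mul_00, SLP.wz_mul_00, SLP.wz_mul_01]; simp [gZ, jZ]; ring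
  · rw [mul_01, mul_01, SLP.wz_mul_00, SLP.wz_mul_01]; simp [gZ, jZ]; ring
  · rw [mul_10, mul_10, SLP.wz_mul_10, SLP.wz_mul_11]; simp [gZ, jZ]; ring
  · rw [mul_11, mul_11, SLP.wz_mul_10, SLP.wz_mul_11]; simp [gZ, jZ]; ring

end ab


lemma psl_part {q : ℕ} (hq : q % 8 = 3) {n : ℕ} (hn : 2 * n = q * (q ^ 2 - 1)) : ∃ M, Odd M ∧ n = 4 * M := by
  obtain ⟨k, rfl⟩ : ∃ k, q = 8 * k + 3 := ⟨q / 8, by omega⟩
  refine ⟨(8 * k + 3) * (4 * k + 1) * (2 * k + 1), ?_, ?_⟩
  · have h1 : Odd (8 * k + 3) := by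
      rw [Nat.odd_iff]; omega
    have h2 : Odd (4 * k + 1) := by
      rw [Nat.odd_iff]; omega
    have h3 : Odd (2 * k + 1) := by
      rw [Nat.odd_iff]; omega
    exact (h1.mul h2).mul h3
  · have e1 : (8 * k + 3) ^ 2 - 1 = (8 * k + 2) * (8 * k + 4) := by
      have : (8 * k + 3) ^ 2 = (8 * k + 2) * (8 * k + 4) + 1 := by ring
      omega
    rw [e1] at hn
    have : 2 * n = 2 * (4 * ((8 * k + 3) * (4 * k + 1) * (2 * k + 1))) := by
      rw [hn]
      ring
    omega

section V

variable {α β : K} (hab : α ^ 2 + β ^ 2 = -1)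

/-- The action of the order three element on the four-group. -/
lemma conj_g (C : RCtx K e) (hab : α ^ 2 + β ^ 2 = -1) :
    prS (gZ C hab) * prS SLP.wz * (prS (gZ C hab))⁻¹ = prS (jZ hab) ∧
    prS (gZ C hab) * prS (jZ hab) * (prS (gZ C hab))⁻¹ = prS SLP.wz * prS (jZ hab) ∧
    prS (gZ C hab) * (prS SLP.wz * prS (jZ hab)) * (prS (gZ C hab))⁻¹ = prS SLP.wz := by
  have e1 : prS (gZ C hab) * prS SLP.wz = prS (jZ hab) * prS (gZ C hab) := by
    rw [← prS_mul, gZ_wz, prS_mul]
  have e2 : prS (gZ C hab) * prS (jZ hab) = (prS SLP.wz * prS (jZ hab)) * prS (gZ C hab) := by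
    rw [← prS_mul, gZ_jZ, prS_mul, prS_mul]
  have jsq : prS (jZ hab) * prS (jZ hab) = 1 := by
    rw [← prS_mul, jZ_sq, prS_zZ]
  have ij : prS (jZ hab) * prS SLP.wz = prS SLP.wz * prS (jZ hab) := by
    rw [← prS_mul, ← prS_mul, wz_jZ, prS_zZ_mul]
  have a1 : prS (gZ C hab) * prS SLP.wz * (prS (gZ C hab))⁻¹ = prS (jZ hab) := by rw [e1]; group
  have a2 : prS (gZ C hab) * prS (jZ hab) * (prS (gZ C hab))⁻¹ = prS SLP.wz * prS (jZ hab) := by rw [e2]; group
  refine ⟨a1, a2, ?_⟩
  calc prS (gZ C hab) * (prS SLP.wz * prS (jZ hab)) * (prS (gZ C hab))⁻¹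
      = (prS (gZ C hab) * prS SLP.wz * (prS (gZ C hab))⁻¹) * (prS (gZ C hab) * prS (jZ hab) * (prS (gZ C hab))⁻¹) := by group
    _ = prS (jZ hab) * (prS SLP.wz * prS (jZ hab)) := by rw [a1, a2]
    _ = (prS (jZ hab) * prS SLP.wz) * prS (jZ hab) := by group
    _ = (prS SLP.wz * prS (jZ hab)) * prS (jZ hab) := by rw [ij]
    _ = prS SLP.wz * (prS (jZ hab) * prS (jZ hab)) := by group
    _ = prS SLP.wz := by rw [jsq, mul_one]

variable {V : Subgroup (ProjectiveSpecialLinearGroup (Fin 2) K)}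

/-- The element of order three normalises the four-group. -/
lemma g_norm (C : RCtx K e) (hab : α ^ 2 + β ^ 2 = -1) (hi : prS SLP.wz ∈ V) (hj : prS (jZ hab) ∈ V)
    (hc : ∀ x ∈ V, x = 1 ∨ x = prS SLP.wz ∨ x = prS (jZ hab) ∨ x = prS SLP.wz * prS (jZ hab)) :
    prS (gZ C hab) ∈ Subgroup.normalizer (V : Set (ProjectiveSpecialLinearGroup (Fin 2) K)) := by
  obtain ⟨e1, e2, e3⟩ := conj_g C hab
  have hk := V.mul_mem hi hj
  rw [Subgroup.mem_normalizer_iff]
  intro h
  constructor
  · intro hh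
    rcases hc h hh with rfl | rfl | rfl | rfl
    · simp
    · show _ ∈ V
      rw [e1]; exact hj
    · show _ ∈ V
      rw [e2]; exact hk
    · show _ ∈ V
      rw [e3]; exact hi
  · intro hh
    have inj : ∀ {a b : ProjectiveSpecialLinearGroup (Fin 2) K}, prS (gZ C hab) * a * (prS (gZ C hab))⁻¹ = prS (gZ C hab) * b * (prS (gZ C hab))⁻¹ → a = b := by
      intro a b h
      simpa using h
    rcases hc _ hh with h1 | h1 | h1 | h1
    · have : h = 1 := inj (by rw [h1]; simp)
      rw [this]; exact V.one_mem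
    · rw [← e3] at h1
      rw [inj h1]; exact hk
    · rw [← e1] at h1
      rw [inj h1]; exact hi
    · rw [← e2] at h1
      rw [inj h1]; exact hj

/-- The normaliser of the four-group in `PSL₂`. -/
theorem card_norm_V₀ (C : RCtx K e) {m : ℕ} (hK : Fintype.card K = 3 ^ (2 * m + 1)) (hab : α ^ 2 + β ^ 2 = -1)
    (hV1 : Nat.card V = 4) (hV2 : ∀ x ∈ V, x * x = 1) (hi : prS SLP.wz ∈ V) (hj : prS (jZ hab) ∈ V)
    (hc : ∀ x ∈ V, x = 1 ∨ x = prS SLP.wz ∨ x = prS (jZ hab) ∨ x = prS SLP.wz * prS (jZ hab)) :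
    Nat.card (Subgroup.normalizer (V : Set (ProjectiveSpecialLinearGroup (Fin 2) K))) = 12 := by
  classical
  have hcomm : ∀ x ∈ V, ∀ y ∈ V, x * y = y * x := by
    intro x hx y hy
    have h1 := hV2 _ (V.mul_mem hx hy)
    have h2 := hV2 _ hx
    have h3 := hV2 _ hy
    calc x * y = x * (x * y * (x * y)) * y := by rw [h1]; simp
      _ = (x * x) * (y * x) * (y * y) := by group
      _ = y * x := by rw [h2, h3]; simp
  let f := (MulAut.toPerm (M := ↥V)).comp V.normalizerMonoidHom
  have hker : Nat.card f.ker = 4 := by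
    rw [← hV1]
    apply Nat.card_congr
    refine ⟨fun x => ⟨x.1.1, ?_⟩, fun v => ⟨⟨v.1, ?_⟩, ?_⟩, ?_, ?_⟩
    · -- the kernel lies in `V`
      have hx := x.2
      rw [MonoidHom.mem_ker] at hx
      have key : ∀ v (hv : v ∈ V), x.1.1 * v * (x.1.1)⁻¹ = v := by
        intro v hv
        have := congrArg (fun p : Equiv.Perm ↥V => ((p ⟨v, hv⟩ : ↥V) : ProjectiveSpecialLinearGroup (Fin 2) K)) hx
        exact this
      have k1 := key _ hi
      have k2 := key _ hj
      have := cent_V₀ C hab (mul_inv_eq_iff_eq_mul.1 k1) (mul_inv_eq_iff_eq_mul.1 k2)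
      rcases this with h | h | h | h
      · rw [h]; exact V.one_mem
      · rw [h]; exact hi
      · rw [h]; exact hj
      · rw [h]; exact V.mul_mem hi hj
    · -- `V` normalises itself
      exact Subgroup.le_normalizer v.2
    · rw [MonoidHom.mem_ker]
      ext y
      show v.1 * y.1 * (v.1)⁻¹ = y.1
      rw [hcomm _ v.2 _ y.2]
      simp
    · intro x
      rfl
    · intro v
      rfl
  have hmul : Nat.card (Subgroup.normalizer (V : Set (ProjectiveSpecialLinearGroup (Fin 2) K))) = 4 * Nat.card f.range := by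
    rw [← Subgroup.index_ker, ← hker, Subgroup.card_mul_index]
  obtain ⟨M, hM, hM2⟩ := psl_part (q := Fintype.card K) (by rw [hK]; exact card_mod_eight) C.card_PSL
  have hd : Nat.card (Subgroup.normalizer (V : Set (ProjectiveSpecialLinearGroup (Fin 2) K))) ∣ Nat.card (ProjectiveSpecialLinearGroup (Fin 2) K) :=
    Subgroup.card_subgroup_dvd_card _
  rw [hmul, hM2] at hd
  have hd2 : Nat.card f.range ∣ M := Nat.dvd_of_mul_dvd_mul_left (by norm_num) hd
  have hd3 : Nat.card f.range ∣ 24 := by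
    have h1 : Nat.card f.range ∣ Nat.card (Equiv.Perm ↥V) := Subgroup.card_subgroup_dvd_card _
    have h2 : Nat.card (Equiv.Perm ↥V) = 24 := by
      haveI : Fintype ↥V := Fintype.ofFinite _
      rw [Nat.card_eq_fintype_card, Fintype.card_perm, ← Nat.card_eq_fintype_card, hV1]
      rfl
    rwa [h2] at h1
  have hodd : Odd (Nat.card f.range) := Odd.of_dvd_nat hM hd2
  have h3 : Nat.card f.range ∣ 3 := by
    have : Nat.Coprime (Nat.card f.range) 8 := by
      have : Nat.Coprime (Nat.card f.range) (2 ^ 3) := Nat.Coprime.pow_right _ (Nat.coprime_two_right.2 hodd)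
      simpa using this
    exact this.dvd_of_dvd_mul_right (by simpa using hd3 : Nat.card f.range ∣ 8 * 3)
  have h4 : Nat.card f.range ≠ 1 := by
    intro h
    have h5 : f.range = ⊥ := Subgroup.card_eq_one.1 h 
    have hg := g_norm C hab hi hj hc
    have h6 : f ⟨prS (gZ C hab), hg⟩ = 1 := by
      have : f ⟨prS (gZ C hab), hg⟩ ∈ f.range := ⟨_, rfl⟩
      rw [h5] at this
      exact this
    have h7 := congrArg (fun p : Equiv.Perm ↥V => ((p ⟨_, hi⟩ : ↥V) : ProjectiveSpecialLinearGroup (Fin 2) K)) h6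
    have h8 : prS (gZ C hab) * prS SLP.wz * (prS (gZ C hab))⁻¹ = prS SLP.wz := h7
    rw [(conj_g C hab).1] at h8
    -- `j = i` is impossible
    have hα := (ab_ne C hab).1
    rcases (prS_eq_iff _ _).1 h8 with h9 | h9
    · have := congrArg (fun x : SL2 K => x.1 0 0) h9
      simp [jZ, SLP.wz] at this
      exact hα this
    · have := congrArg (fun x : SL2 K => x.1 0 0) h9
      rw [zZ_mul_00] at this
      simp [jZ, SLP.wz] at this
      exact hα this
  have h5 : Nat.card f.range = 3 := by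
    rcases (Nat.dvd_prime Nat.prime_three).1 h3 with h | h
    · exact absurd h h4
    · exact h
  rw [hmul, h5]

end V


section P

variable {α β : K} {V : Subgroup (ProjectiveSpecialLinearGroup (Fin 2) K)}

lemma RCtx.mem_P₀ {x : ↥(twistedG2 K e)} : x ∈ C.P₀ V ↔ ∃ ε v, v ∈ V ∧ C.phiC (ε, v) = x := by
  constructor
  · rintro ⟨⟨ε, v⟩, ⟨-, hv⟩, rfl⟩
    exact ⟨ε, v, hv, rfl⟩
  · rintro ⟨ε, v, hv, rfl⟩
    exact ⟨(ε, v), ⟨Subgroup.mem_top _, hv⟩, rfl⟩

lemma RCtx.aI_mem_P₀ : C.aI ∈ C.P₀ V := by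
  rw [C.mem_P₀]
  refine ⟨Multiplicative.ofAdd 1, 1, V.one_mem, ?_⟩
  rw [C.phiC_apply, C.epsH_one, map_one, mul_one]

lemma RCtx.psiP_mem_P₀ {v : ProjectiveSpecialLinearGroup (Fin 2) K} (hv : v ∈ V) : C.psiP v ∈ C.P₀ V := by
  rw [C.mem_P₀]
  refine ⟨1, v, hv, ?_⟩
  rw [C.phiC_apply, map_one, one_mul]

lemma comm_of_invol {Γ : Type*} [Group Γ] {P : Subgroup Γ} (h : ∀ x ∈ P, x * x = 1) : ∀ x ∈ P, ∀ y ∈ P, x * y = y * x := by
  intro x hx y hy
  have h1 := h _ (P.mul_mem hx hy)
  have h2 := h _ hx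
  have h3 := h _ hy
  calc x * y = x * (x * y * (x * y)) * y := by rw [h1]; simp
    _ = (x * x) * (y * x) * (y * y) := by group
    _ = y * x := by rw [h2, h3]; simp

lemma RCtx.phiC_comm_iff {ε δ : Multiplicative (ZMod 2)} {l v : ProjectiveSpecialLinearGroup (Fin 2) K}
    (h : C.phiC (ε, l) * C.phiC (δ, v) = C.phiC (δ, v) * C.phiC (ε, l)) : l * v = v * l := by
  rw [← map_mul, ← map_mul] at h
  have := C.phiC_inj h
  simpa using (congrArg Prod.snd this)

/-- The centraliser of the Sylow subgroup. -/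
theorem RCtx.cent_P₀ (C : RCtx K e) (hab : α ^ 2 + β ^ 2 = -1) (hV2 : ∀ x ∈ V, x * x = 1) (hi : prS SLP.wz ∈ V) (hj : prS (jZ hab) ∈ V) :
    Subgroup.centralizer ((C.P₀ V : Subgroup ↥(twistedG2 K e)) : Set ↥(twistedG2 K e)) = C.P₀ V := by
  have hcomm := comm_of_invol (C.P₀_invol V hV2)
  apply le_antisymm
  · intro x hx
    rw [Subgroup.mem_centralizer_iff] at hx
    have h1 := hx _ (C.aI_mem_P₀ (V := V))
    obtain ⟨⟨ε, l⟩, rfl⟩ := C.phiC_range_cases h1.symm
    have h2 : ∀ v ∈ V, l * v = v * l := by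
      intro v hv
      have := hx (C.psiP v) (C.psiP_mem_P₀ hv)
      have e1 : C.psiP v = C.phiC (1, v) := by
        rw [C.phiC_apply, map_one, one_mul]
      rw [e1] at this
      exact (C.phiC_comm_iff this).symm ▸ rfl
    have h3 := cent_V₀ C hab (h2 _ hi) (h2 _ hj)
    rw [C.mem_P₀]
    refine ⟨ε, l, ?_, rfl⟩
    rcases h3 with h | h | h | h
    · rw [h]; exact V.one_mem
    · rw [h]; exact hi
    · rw [h]; exact hj
    · rw [h]; exact V.mul_mem hi hj
  · intro x hx
    rw [Subgroup.mem_centralizer_iff]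
    intro h hh
    exact hcomm _ hh _ hx

/-- The normaliser of the Sylow subgroup. -/
theorem RCtx.card_norm_P₀ (C : RCtx K e) {m : ℕ} (hK : Fintype.card K = 3 ^ (2 * m + 1)) (hab : α ^ 2 + β ^ 2 = -1)
    (hV1 : Nat.card V = 4) (hV2 : ∀ x ∈ V, x * x = 1) (hi : prS SLP.wz ∈ V) (hj : prS (jZ hab) ∈ V)
    (hc : ∀ x ∈ V, x = 1 ∨ x = prS SLP.wz ∨ x = prS (jZ hab) ∨ x = prS SLP.wz * prS (jZ hab)) :
    Nat.card (Subgroup.normalizer ((C.P₀ V : Subgroup ↥(twistedG2 K e)) : Set ↥(twistedG2 K e))) = 168 := by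
  classical
  have h8 := C.card_P₀ V hV1
  have hinv := C.P₀_invol V hV2
  have hcomm := comm_of_invol hinv
  haveI : Fact (Nat.Prime 2) := ⟨Nat.prime_two⟩
  -- the Sylow subgroup
  obtain ⟨Q, hQ⟩ : ∃ Q : Sylow 2 ↥(twistedG2 K e), (Q : Subgroup ↥(twistedG2 K e)) = C.P₀ V := by
    have hU : IsPGroup 2 (C.P₀ V) := by
      apply IsPGroup.of_card (n := 3)
      rw [h8]
      norm_num
    obtain ⟨Q, hQ⟩ := hU.exists_le_sylow
    refine ⟨Q, ?_⟩
    symm
    apply Subgroup.eq_of_le_of_card_ge hQ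
    obtain ⟨h1, -⟩ := C.sylow_two_spec hK Q
    rw [h8]
    exact h1.le
  haveI : IsMulCommutative (Q : Subgroup ↥(twistedG2 K e)) := by
    constructor
    constructor
    rintro ⟨x, hx⟩ ⟨y, hy⟩
    apply Subtype.ext
    rw [hQ] at hx hy
    exact hcomm _ hx _ hy
  set N := Subgroup.normalizer ((C.P₀ V : Subgroup ↥(twistedG2 K e)) : Set ↥(twistedG2 K e)) with hN
  have hle : C.P₀ V ≤ N := Subgroup.le_normalizer
  let a' : ↥N := ⟨C.aI, hle C.aI_mem_P₀⟩
  have hmain := card_carrier_mul a'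
  -- the class of `a`
  have hcl : Nat.card (ConjClasses.mk a').carrier = 7 := by
    have h1 : Nat.card {x : ↥(C.P₀ V) // x ≠ 1} = 7 := by
      haveI : Fintype ↥(C.P₀ V) := Fintype.ofFinite _
      rw [Nat.card_eq_fintype_card, Fintype.card_subtype_compl, Fintype.card_subtype_eq, ← Nat.card_eq_fintype_card, h8]
    rw [← h1]
    apply Nat.card_congr
    have hconj : ∀ y : ↥N, y ∈ (ConjClasses.mk a').carrier → (y : ↥(twistedG2 K e)) ∈ C.P₀ V ∧ (y : ↥(twistedG2 K e)) ≠ 1 := by
      intro y hy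
      rw [ConjClasses.mem_carrier_iff_mk_eq, ConjClasses.mk_eq_mk_iff_isConj] at hy
      obtain ⟨c, hc'⟩ := isConj_iff.1 hy.symm
      have e1 : (c : ↥(twistedG2 K e)) * C.aI * (c : ↥(twistedG2 K e))⁻¹ = y := by
        have := congrArg Subtype.val hc'
        exact this
      constructor
      · rw [← e1]
        exact (Subgroup.mem_normalizer_iff.1 c.2 _).1 C.aI_mem_P₀
      · rw [← e1]
        intro h
        exact C.aI_ne (conj_eq_one_iff.1 h)
    have hconj2 : ∀ x : ↥(C.P₀ V), x ≠ 1 → (⟨x.1, hle x.2⟩ : ↥N) ∈ (ConjClasses.mk a').carrier := by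
      intro x hx
      have hx1 : (x : ↥(twistedG2 K e)) ≠ 1 := fun h => hx (Subtype.ext h)
      obtain ⟨g, hg⟩ := isConj_iff.1 (C.invol_conj (hinv _ x.2) hx1)
      have hmem : g⁻¹⁻¹ * C.aI * g⁻¹ ∈ (Q : Subgroup ↥(twistedG2 K e)) := by
        rw [hQ, inv_inv, hg]
        exact x.2
      have hmem2 : C.aI ∈ (Q : Subgroup ↥(twistedG2 K e)) := by
        rw [hQ]
        exact C.aI_mem_P₀
      obtain ⟨n, hn1, hn2⟩ := Q.conj_eq_normalizer_conj_of_mem C.aI g⁻¹ hmem2 hmem
      have hn : n ∈ N := by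
        rw [hN, ← hQ]
        exact hn1
      rw [ConjClasses.mem_carrier_iff_mk_eq, ConjClasses.mk_eq_mk_iff_isConj]
      apply IsConj.symm
      rw [isConj_iff]
      refine ⟨⟨n⁻¹, inv_mem hn⟩, Subtype.ext ?_⟩
      show n⁻¹ * C.aI * n⁻¹⁻¹ = x
      rw [inv_inv, ← hn2, inv_inv, hg]
    exact ⟨fun y => ⟨⟨y.1.1, (hconj y.1 y.2).1⟩, fun h => (hconj y.1 y.2).2 (congrArg Subtype.val h)⟩,
      fun x => ⟨⟨x.1.1, hle x.1.2⟩, hconj2 x.1 x.2⟩, fun y => rfl, fun x => rfl⟩
  -- the centraliser of `a` in the normaliser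
  have hcen : Nat.card (Subgroup.centralizer ({a'} : Set ↥N)) = 24 := by
    set Ñ := Subgroup.normalizer (V : Set (ProjectiveSpecialLinearGroup (Fin 2) K)) with hÑ
    have hÑc : Nat.card Ñ = 12 := card_norm_V₀ C hK hab hV1 hV2 hi hj hc
    have hT : Nat.card (((⊤ : Subgroup (Multiplicative (ZMod 2))).prod Ñ).map C.phiC) = 24 := by
      rw [Subgroup.card_map_of_injective C.phiC_inj, Nat.card_congr (Subgroup.prodEquiv _ Ñ).toEquiv, Nat.card_prod, hÑc, Subgroup.card_top]
      simp [Nat.card_eq_fintype_card]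
    rw [← hT]
    -- every element of the centraliser of `a` in `N` is in the image
    have hsub : ∀ ε l, C.phiC (ε, l) ∈ N → l ∈ Ñ := by
      have key : ∀ ε l, C.phiC (ε, l) ∈ N → ∀ v ∈ V, l * v * l⁻¹ ∈ V := by
        intro ε l hx v hv
        have h1 := (Subgroup.mem_normalizer_iff.1 hx (C.phiC (1, v))).1 (C.mem_P₀.2 ⟨1, v, hv, rfl⟩)
        have e1 : C.phiC (ε, l) * C.phiC (1, v) * (C.phiC (ε, l))⁻¹ = C.phiC (1, l * v * l⁻¹) := by
          rw [← map_mul, ← map_inv, ← map_mul]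
          congr 1
          ext
          · simp
          · simp
        rw [e1] at h1
        obtain ⟨δ, v', hv', h2⟩ := C.mem_P₀.1 h1
        have := congrArg Prod.snd (C.phiC_inj h2)
        simp only at this
        rw [← this]
        exact hv'
      intro ε l hx
      rw [hÑ, Subgroup.mem_normalizer_iff]
      intro h
      constructor
      · exact key ε l hx h
      · intro hh
        have hx' : C.phiC (ε⁻¹, l⁻¹) ∈ N := by
          have : C.phiC (ε⁻¹, l⁻¹) = (C.phiC (ε, l))⁻¹ := by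
            rw [← map_inv]
            rfl
          rw [this]
          exact inv_mem hx
        have := key _ _ hx' _ hh
        have e1 : l⁻¹ * (l * h * l⁻¹) * l⁻¹⁻¹ = h := by group
        rw [e1] at this
        exact this
    have hsub2 : ∀ ε l, l ∈ Ñ → C.phiC (ε, l) ∈ N := by
      intro ε l hl
      rw [hN, Subgroup.mem_normalizer_iff]
      have key : ∀ ε l, l ∈ Ñ → ∀ h ∈ C.P₀ V, C.phiC (ε, l) * h * (C.phiC (ε, l))⁻¹ ∈ C.P₀ V := by
        intro ε l hl h hh
        obtain ⟨δ, v, hv, rfl⟩ := C.mem_P₀.1 hh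
        have e1 : C.phiC (ε, l) * C.phiC (δ, v) * (C.phiC (ε, l))⁻¹ = C.phiC (δ, l * v * l⁻¹) := by
          rw [← map_mul, ← map_inv, ← map_mul]
          congr 1
          ext
          · simp
          · simp
        rw [e1]
        exact C.mem_P₀.2 ⟨δ, _, (Subgroup.mem_normalizer_iff.1 hl v).1 hv, rfl⟩
      intro h
      constructor
      · exact key ε l hl h
      · intro hh
        have := key ε⁻¹ l⁻¹ (inv_mem hl) _ hh
        have e2 : C.phiC (ε⁻¹, l⁻¹) = (C.phiC (ε, l))⁻¹ := by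
          rw [← map_inv]
          rfl
        rw [e2] at this
        have e1 : (C.phiC (ε, l))⁻¹ * (C.phiC (ε, l) * h * (C.phiC (ε, l))⁻¹) * (C.phiC (ε, l))⁻¹⁻¹ = h := by group
        rw [e1] at this
        exact this
    apply Nat.card_congr
    refine ⟨fun y => ⟨y.1.1, ?_⟩, fun x => ⟨⟨x.1, ?_⟩, ?_⟩, fun y => rfl, fun x => rfl⟩
    · have hy := y.2
      rw [Subgroup.mem_centralizer_singleton_iff] at hy
      have h1 : (y.1 : ↥(twistedG2 K e)) * C.aI = C.aI * y.1 := congrArg Subtype.val hy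
      obtain ⟨⟨ε, l⟩, h2⟩ := C.phiC_range_cases h1
      refine ⟨(ε, l), ⟨Subgroup.mem_top _, ?_⟩, h2⟩
      apply hsub ε l
      rw [h2]
      exact y.1.2
    · obtain ⟨⟨ε, l⟩, ⟨-, hl⟩, hx⟩ := x.2
      rw [← hx]
      exact hsub2 ε l hl
    · rw [Subgroup.mem_centralizer_singleton_iff]
      obtain ⟨⟨ε, l⟩, ⟨-, hl⟩, hx⟩ := x.2
      apply Subtype.ext
      show (x : ↥(twistedG2 K e)) * C.aI = C.aI * x
      rw [← hx]
      have := C.phiC_cent (ε, l)
      rw [Subgroup.mem_centralizer_singleton_iff] at this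
      exact this
  rw [hcl, hcen] at hmain
  exact hmain.symm

end P

/-- All Sylow 2-subgroups. -/
theorem RCtx.sylow_N (C : RCtx K e) {m : ℕ} (hK : Fintype.card K = 3 ^ (2 * m + 1)) (S : Sylow 2 ↥(twistedG2 K e)) :
    Subgroup.centralizer ((S : Subgroup ↥(twistedG2 K e)) : Set ↥(twistedG2 K e)) = S ∧
    Nat.card (Subgroup.normalizer ((S : Subgroup ↥(twistedG2 K e)) : Set ↥(twistedG2 K e))) = 168 := by
  classical
  obtain ⟨α, β, hab⟩ := C.exists_ab
  obtain ⟨V, hV1, hV2, hi, hj, hc⟩ := exists_V₀ C hab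
  have h8 := C.card_P₀ V hV1
  obtain ⟨g, hg⟩ := C.sylow_two hK h8 S
  have hS : (S : Subgroup ↥(twistedG2 K e)) = (C.P₀ V).map (MulAut.conj g).toMonoidHom := by
    ext y
    rw [hg, Subgroup.mem_map]
    constructor
    · intro h
      exact ⟨_, h, by simp [MulAut.conj_apply]; group⟩
    · rintro ⟨z, hz, rfl⟩
      simpa [MulAut.conj_apply, mul_assoc] using hz
  constructor
  · have h1 := C.cent_P₀ hab hV2 hi hj
    apply le_antisymm
    · intro x hx
      rw [Subgroup.mem_centralizer_iff] at hx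
      have h2 : g⁻¹ * x * g ∈ Subgroup.centralizer ((C.P₀ V : Subgroup ↥(twistedG2 K e)) : Set ↥(twistedG2 K e)) := by
        rw [Subgroup.mem_centralizer_iff]
        intro z hz
        have h3 : g * z * g⁻¹ ∈ (S : Subgroup ↥(twistedG2 K e)) := by
          rw [hS]
          exact ⟨z, hz, rfl⟩
        have h4 := hx _ h3
        calc z * (g⁻¹ * x * g) = g⁻¹ * ((g * z * g⁻¹) * x) * g := by group
          _ = g⁻¹ * (x * (g * z * g⁻¹)) * g := by rw [h4]
          _ = _ := by group
      rw [h1] at h2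
      exact (hg x).2 h2
    · intro x hx
      rw [Subgroup.mem_centralizer_iff]
      intro z hz
      have h2 := (hg x).1 hx
      have h3 := (hg z).1 hz
      have h4 := comm_of_invol (C.P₀_invol V hV2) _ h3 _ h2
      have e1 : g⁻¹ * z * g * (g⁻¹ * x * g) = g⁻¹ * (z * x) * g := by group
      have e2 : g⁻¹ * x * g * (g⁻¹ * z * g) = g⁻¹ * (x * z) * g := by group
      rw [e1, e2] at h4
      have := mul_left_cancel (mul_right_cancel h4)
      exact this
  · rw [hS, ← Subgroup.map_equiv_normalizer_eq, Subgroup.card_map_of_injective (MulEquiv.injective _)]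
    exact C.card_norm_P₀ hK hab hV1 hV2 hi hj hc

end ctx

end CfsgLib.Ree
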