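/-
The non-split torus of `SL₂` and its image in the small Ree groups.
-/
import Cfsg.Agent.Lib.Ree.N168
import Cfsg.Agent.Lib.Ree.GenL

set_option autoImplicit false
set_option synthInstance.maxHeartbeats 400000
set_option synthInstance.maxSize 1024

namespace CfsgLib.Ree

open Cfsg.Lie Cfsg.Lie.ChevalleyDatum CfsgLib.BN CfsgLib.Chev CfsgLib.H9.SL2Cl Matrix

lemma cyc_comm_aux {P : Type*} [Group P] [IsCyclic P] (x y : P) : x * y = y * x := by
  obtain ⟨c, hc⟩ := IsCyclic.exists_generator (α := P)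
  obtain ⟨i, rfl⟩ := hc x
  obtain ⟨j, rfl⟩ := hc y
  exact (zpow_mul_comm c i j)

section ctx

variable {K : Type*} [Field K] [Fintype K] {e : ℕ} (C : RCtx K e)

/-- The centraliser of the Weyl element of `SL₂`: the non-split torus. -/
def D₀ (K : Type*) [Field K] : Subgroup (SL2 K) := Subgroup.centralizer {(SLP.wz : SL2 K)}

omit [Fintype K] in
lemma mem_D₀ {y : SL2 K} : y ∈ D₀ K ↔ y.1 1 0 = - y.1 0 1 ∧ y.1 1 1 = y.1 0 0 := by
  unfold D₀
  rw [Subgroup.mem_centralizer_singleton_iff]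
  have a00 : (y * SLP.wz).1 0 0 = y.1 0 1 := by rw [mul_00]; simp [SLP.wz]
  have a01 : (y * SLP.wz).1 0 1 = -y.1 0 0 := by rw [mul_01]; simp [SLP.wz]
  have a10 : (y * SLP.wz).1 1 0 = y.1 1 1 := by rw [mul_10]; simp [SLP.wz]
  have a11 : (y * SLP.wz).1 1 1 = -y.1 1 0 := by rw [mul_11]; simp [SLP.wz]
  constructor
  · intro h
    have e1 := congrArg (fun x : SL2 K => x.1 0 0) h
    have e2 := congrArg (fun x : SL2 K => x.1 0 1) h
    simp only [a00, a01, SLP.wz_mul_00, SLP.wz_mul_01] at e1 e2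
    constructor
    · linear_combination e1
    · linear_combination e2
  · rintro ⟨h1, h2⟩
    apply sl_ext
    · rw [a00, SLP.wz_mul_00, h1]; ring
    · rw [a01, SLP.wz_mul_01, h2]
    · rw [a10, SLP.wz_mul_10, h2]
    · rw [a11, SLP.wz_mul_11, h1]; ring

omit [Fintype K] in
lemma wz_mem_D₀ : (SLP.wz : SL2 K) ∈ D₀ K := by
  unfold D₀
  rw [Subgroup.mem_centralizer_singleton_iff]

omit [Fintype K] in
lemma zZ_mem_D₀ : zZ K ∈ D₀ K := by
  rw [mem_D₀]
  simp [zZ]

omit [Fintype K] in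
/-- The norm relation on the torus. -/
lemma D₀_norm {y : SL2 K} (hy : y ∈ D₀ K) : y.1 0 0 ^ 2 + y.1 0 1 ^ 2 = 1 := by
  obtain ⟨h1, h2⟩ := mem_D₀.1 hy
  have hd := det_eq y
  rw [h1, h2] at hd
  linear_combination hd

omit [Fintype K] in
/-- Commuting with a non-central element of the torus. -/
lemma comm_D₀ {d y : SL2 K} (hd : d ∈ D₀ K) (hne : d.1 0 1 ≠ 0) (h : y * d = d * y) : y ∈ D₀ K := by
  obtain ⟨h1, h2⟩ := mem_D₀.1 hd
  have e1 := congrArg (fun x : SL2 K => x.1 0 0) h
  have e2 := congrArg (fun x : SL2 K => x.1 0 1) h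
  simp only [mul_00, mul_01] at e1 e2
  rw [h1] at e1
  rw [h2] at e2
  rw [mem_D₀]
  constructor
  · have : d.1 0 1 * (y.1 1 0 + y.1 0 1) = 0 := by linear_combination -e1
    have := (mul_eq_zero.1 this).resolve_left hne
    linear_combination this
  · have : d.1 0 1 * (y.1 1 1 - y.1 0 0) = 0 := by linear_combination -e2
    have := (mul_eq_zero.1 this).resolve_left hne
    linear_combination this

/-- A point of the conic for a parameter. -/
lemma conic_ne (C : RCtx K e) (t : K) : 1 + t ^ 2 ≠ 0 := by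
  intro h
  apply C.hm1
  exact ⟨t, by linear_combination -h⟩

/-- The torus as an explicit element. -/
noncomputable def dT (C : RCtx K e) (t : K) : SL2 K :=
  mk ((1 - t ^ 2) / (1 + t ^ 2)) (2 * t / (1 + t ^ 2)) (-(2 * t / (1 + t ^ 2))) ((1 - t ^ 2) / (1 + t ^ 2)) (by
    have := conic_ne C t
    field_simp
    ring)

/-- The order of the torus. -/
theorem card_D₀ (C : RCtx K e) : Nat.card (D₀ K) = Fintype.card K + 1 := by
  classical
  have h20 := C.two_ne
  have : Nat.card (Option K) = Fintype.card K + 1 := by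
    simp [Nat.card_eq_fintype_card, Fintype.card_option]
  rw [← this]
  symm
  apply Nat.card_congr
  refine Equiv.ofBijective (fun o => match o with
    | none => ⟨zZ K, zZ_mem_D₀⟩
    | some t => ⟨dT C t, by
        rw [mem_D₀]
        simp [dT]⟩) ?_
  constructor
  · rintro (_ | u) (_ | u') h
    · rfl
    · exfalso
      have h1 := congrArg (fun x : ↥(D₀ K) => x.1.1 0 0) h
      have h2 := conic_ne C u'
      simp [zZ, dT] at h1
      field_simp at h1
      apply h20
      linear_combination -h1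
    · exfalso
      have h1 := congrArg (fun x : ↥(D₀ K) => x.1.1 0 0) h
      have h2 := conic_ne C u
      simp [zZ, dT] at h1
      field_simp at h1
      apply h20
      linear_combination h1
    · have h1 := congrArg (fun x : ↥(D₀ K) => x.1.1 0 0) h
      have h2 := congrArg (fun x : ↥(D₀ K) => x.1.1 0 1) h
      have a1 := conic_ne C u
      have a2 := conic_ne C u'
      simp only [dT, mk_00, mk_01] at h1 h2
      have key : ∀ t : K, (2 * t / (1 + t ^ 2)) / (1 + (1 - t ^ 2) / (1 + t ^ 2)) = t := by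
        intro t
        have h3 := conic_ne C t
        have : 1 + (1 - t ^ 2) / (1 + t ^ 2) = 2 / (1 + t ^ 2) := by
          field_simp
          ring
        rw [this]
        field_simp
      have h3 : u = u' := by
        rw [← key u, ← key u', h1, h2]
      rw [h3]
  · rintro ⟨y, hy⟩
    obtain ⟨h1, h2⟩ := mem_D₀.1 hy
    have hn := D₀_norm hy
    by_cases hp : y.1 0 0 = -1
    · refine ⟨none, Subtype.ext ?_⟩
      have hq : y.1 0 1 = 0 := by
        have : y.1 0 1 ^ 2 = 0 := by rw [hp] at hn; linear_combination hn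
        exact pow_eq_zero_iff (by norm_num) |>.1 this
      apply sl_ext
      · simp [hp, zZ]
      · simp [hq, zZ]
      · simp [h1, hq, zZ]
      · simp [h2, hp, zZ]
    · have hp1 : 1 + y.1 0 0 ≠ 0 := by
        intro h
        apply hp
        linear_combination h
      refine ⟨some (y.1 0 1 / (1 + y.1 0 0)), Subtype.ext ?_⟩
      have e0 := conic_ne C (y.1 0 1 / (1 + y.1 0 0))
      have e1 : (1 - (y.1 0 1 / (1 + y.1 0 0)) ^ 2) / (1 + (y.1 0 1 / (1 + y.1 0 0)) ^ 2) = y.1 0 0 := by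
        rw [div_eq_iff e0]
        field_simp
        linear_combination (-1 - y.1 0 0) * hn
      have e2 : 2 * (y.1 0 1 / (1 + y.1 0 0)) / (1 + (y.1 0 1 / (1 + y.1 0 0)) ^ 2) = y.1 0 1 := by
        rw [div_eq_iff e0]
        field_simp
        linear_combination (-y.1 0 1) * hn
      apply sl_ext
      · simp only [dT, mk_00]
        exact e1
      · simp only [dT, mk_01]
        exact e2
      · simp only [dT, mk_10, h1]
        rw [e2]
      · simp only [dT, mk_11, h2]
        exact e1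

/-- The torus is cyclic. -/
theorem D₀_cyclic (C : RCtx K e) : IsCyclic (D₀ K) := by
  classical
  obtain ⟨ι, hι⟩ := IsAlgClosed.exists_pow_nat_eq (-1 : AlgebraicClosure K) (n := 2) (by norm_num)
  let alg := algebraMap K (AlgebraicClosure K)
  have hιK : ∀ c : K, alg c ≠ ι := by
    intro c hc
    apply C.hm1
    refine ⟨c, ?_⟩
    apply (algebraMap K (AlgebraicClosure K)).injective
    have h1 : alg c * alg c = -1 := by
      rw [hc, ← hι, sq]
    rw [map_neg, map_one, map_mul]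
    exact h1.symm
  let f : D₀ K →* AlgebraicClosure K :=
    { toFun := fun y => alg (y.1.1 0 0) + alg (y.1.1 0 1) * ι
      map_one' := by simp
      map_mul' := by
        rintro ⟨x, hx⟩ ⟨y, hy⟩
        obtain ⟨h1, h2⟩ := mem_D₀.1 hy
        have e1 : (x * y).1 0 0 = x.1 0 0 * y.1 0 0 - x.1 0 1 * y.1 0 1 := by
          rw [mul_00, h1]; ring
        have e2 : (x * y).1 0 1 = x.1 0 0 * y.1 0 1 + x.1 0 1 * y.1 0 0 := by
          rw [mul_01, h2]
        show alg ((x * y).1 0 0) + alg ((x * y).1 0 1) * ι = _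
        rw [e1, e2]
        simp only [map_sub, map_add, map_mul]
        have : ι * ι = -1 := by rw [← hι, sq]
        linear_combination (-(alg (x.1 0 1)) * alg (y.1 0 1)) * this }
  have hf : Function.Injective f := by
    rintro ⟨x, hx⟩ ⟨y, hy⟩ h
    have h0 : alg (x.1 0 0) + alg (x.1 0 1) * ι = alg (y.1 0 0) + alg (y.1 0 1) * ι := h
    have hb : x.1 0 1 = y.1 0 1 := by
      by_contra hne
      have hne' : alg (x.1 0 1 - y.1 0 1) ≠ 0 := by
        rw [Ne, map_eq_zero]
        exact sub_ne_zero.2 hne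
      apply hιK ((y.1 0 0 - x.1 0 0) / (x.1 0 1 - y.1 0 1))
      rw [map_div₀, div_eq_iff hne', map_sub, map_sub]
      linear_combination -h0
    have ha : x.1 0 0 = y.1 0 0 := by
      apply alg.injective
      rw [hb] at h0
      exact add_right_cancel h0
    obtain ⟨a1, a2⟩ := mem_D₀.1 hx
    obtain ⟨b1, b2⟩ := mem_D₀.1 hy
    apply Subtype.ext
    apply sl_ext ha hb
    · rw [a1, b1, hb]
    · rw [a2, b2, ha]
  exact isCyclic_of_subgroup_isDomain f hf

/-- The image of the torus in `PSL₂`. -/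
def Dbar (K : Type*) [Field K] : Subgroup (ProjectiveSpecialLinearGroup (Fin 2) K) :=
  (D₀ K).map (QuotientGroup.mk' (Subgroup.center (SL2 K)))

omit [Fintype K] in
lemma mem_Dbar {l : ProjectiveSpecialLinearGroup (Fin 2) K} : l ∈ Dbar K ↔ ∃ d ∈ D₀ K, prS d = l := Iff.rfl

lemma prS_wz_mem : prS (SLP.wz : SL2 K) ∈ Dbar K := mem_Dbar.2 ⟨_, wz_mem_D₀, rfl⟩

theorem Dbar_cyclic (C : RCtx K e) : IsCyclic (Dbar K) := by
  haveI := D₀_cyclic C
  let f : D₀ K →* Dbar K := (QuotientGroup.mk' (Subgroup.center (SL2 K))).subgroupMap (D₀ K)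
  exact isCyclic_of_surjective f ((QuotientGroup.mk' (Subgroup.center (SL2 K))).subgroupMap_surjective (D₀ K))

/-- The order of the image of the torus. -/
theorem card_Dbar (C : RCtx K e) : 2 * Nat.card (Dbar K) = Fintype.card K + 1 := by
  classical
  let f : D₀ K →* Dbar K := (QuotientGroup.mk' (Subgroup.center (SL2 K))).subgroupMap (D₀ K)
  have hsurj : Function.Surjective f := (QuotientGroup.mk' (Subgroup.center (SL2 K))).subgroupMap_surjective (D₀ K)
  have h1 := Subgroup.card_mul_index f.ker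
  rw [Subgroup.index_ker, MonoidHom.range_eq_top.2 hsurj, Subgroup.card_top, card_D₀ C] at h1
  have hk : Nat.card f.ker = 2 := by
    have hc : Nat.card ↥f.ker = ((f.ker : Subgroup (D₀ K)) : Set (D₀ K)).ncard := Nat.card_coe_set_eq _
    have h3 : ((f.ker : Subgroup (D₀ K)) : Set (D₀ K)) = {1, ⟨zZ K, zZ_mem_D₀⟩} := by
      ext ⟨z, hz⟩
      simp only [SetLike.mem_coe, Set.mem_insert_iff, Set.mem_singleton_iff, MonoidHom.mem_ker]
      have e1 : f ⟨z, hz⟩ = 1 ↔ prS z = 1 := by
        constructor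
        · intro h
          exact congrArg Subtype.val h
        · intro h
          exact Subtype.ext h
      rw [e1, prS_eq_one_iff, Subtype.ext_iff, Subtype.ext_iff]
      rfl
    rw [hc, h3, Set.ncard_pair]
    intro h
    have := congrArg (fun x : D₀ K => x.1.1 0 0) h
    simp [zZ] at this
    exact C.neg_one_ne this.symm
  rw [hk] at h1
  exact h1

/-- The image of the torus in the Ree group. -/
noncomputable def RCtx.T₀ : Subgroup ↥(twistedG2 K e) := (Dbar K).map C.psiP

/-- The abelian group `Z₂ × D̄`. -/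
noncomputable def RCtx.E₀ : Subgroup ↥(twistedG2 K e) := ((⊤ : Subgroup (Multiplicative (ZMod 2))).prod (Dbar K)).map C.phiC

lemma RCtx.mem_E₀ {x : ↥(twistedG2 K e)} : x ∈ C.E₀ ↔ ∃ ε, ∃ l ∈ Dbar K, C.phiC (ε, l) = x := by
  constructor
  · rintro ⟨⟨ε, v⟩, ⟨-, hv⟩, rfl⟩
    exact ⟨ε, v, hv, rfl⟩
  · rintro ⟨ε, v, hv, rfl⟩
    exact ⟨(ε, v), ⟨Subgroup.mem_top _, hv⟩, rfl⟩

lemma RCtx.card_E₀ (C : RCtx K e) : Nat.card C.E₀ = Fintype.card K + 1 := by
  unfold RCtx.E₀
  rw [Subgroup.card_map_of_injective C.phiC_inj, Nat.card_congr (Subgroup.prodEquiv _ (Dbar K)).toEquiv, Nat.card_prod, Subgroup.card_top, ← card_Dbar C]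
  simp [Nat.card_eq_fintype_card]

lemma RCtx.E₀_comm (C : RCtx K e) : ∀ x ∈ C.E₀, ∀ y ∈ C.E₀, x * y = y * x := by
  intro x hx y hy
  obtain ⟨ε, l, hl, rfl⟩ := C.mem_E₀.1 hx
  obtain ⟨δ, l', hl', rfl⟩ := C.mem_E₀.1 hy
  rw [← map_mul, ← map_mul]
  congr 1
  haveI := Dbar_cyclic C
  have h1 : l * l' = l' * l := by
    have := CfsgLib.Ree.cyc_comm_aux (⟨l, hl⟩ : Dbar K) ⟨l', hl'⟩
    exact congrArg Subtype.val this
  exact Prod.ext (mul_comm _ _) h1

lemma RCtx.aI_mem_E₀ : C.aI ∈ C.E₀ := by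
  rw [C.mem_E₀]
  refine ⟨Multiplicative.ofAdd 1, 1, (Dbar K).one_mem, ?_⟩
  rw [C.phiC_apply, C.epsH_one, map_one, mul_one]

lemma RCtx.T₀_le_E₀ : C.T₀ ≤ C.E₀ := by
  rintro x ⟨l, hl, rfl⟩
  rw [C.mem_E₀]
  exact ⟨1, l, hl, by rw [C.phiC_apply, map_one, one_mul]⟩

/-- The Weyl involution lies in the torus. -/
lemma RCtx.w₁_mem_T₀ : C.w₁ ∈ C.T₀ := by
  refine ⟨prS SLP.wz, prS_wz_mem, ?_⟩
  show C.psi SLP.wz = _
  rw [C.psi_wz]

/-- Odd lifts. -/
lemma odd_lift {p : ℕ} (hp : Odd p) {l : ProjectiveSpecialLinearGroup (Fin 2) K} (hl : l ∈ Dbar K) (h : l ^ p = 1) :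
    ∃ d ∈ D₀ K, prS d = l ∧ d ^ p = 1 := by
  obtain ⟨d, hd, rfl⟩ := mem_Dbar.1 hl
  have h1 : prS (d ^ p) = 1 := h
  rcases (prS_eq_one_iff _).1 h1 with h2 | h2
  · exact ⟨d, hd, rfl, h2⟩
  · refine ⟨zZ K * d, mul_mem zZ_mem_D₀ hd, prS_zZ_mul d, ?_⟩
    have hc : Commute (zZ K) d := by
      have := (mem_center_SL2 (zZ K)).2 (Or.inr rfl)
      exact (Subgroup.mem_center_iff.1 this d).symm
    rw [hc.mul_pow, h2]
    obtain ⟨k, rfl⟩ := hp
    rw [pow_succ, pow_mul, sq, zZ_sq, one_pow, one_mul, zZ_sq]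

/-- The centraliser in `PSL₂` of an element of odd order of the torus. -/
theorem cent_Dbar (C : RCtx K e) {p : ℕ} (hp : Odd p) {l y : ProjectiveSpecialLinearGroup (Fin 2) K} (hl : l ∈ Dbar K) (h : l ^ p = 1) (hl1 : l ≠ 1)
    (hc : y * l = l * y) : y ∈ Dbar K := by
  obtain ⟨d, hd, rfl, hdp⟩ := odd_lift hp hl h
  obtain ⟨y', rfl⟩ := prS_surj y
  refine mem_Dbar.2 ⟨y', ?_, rfl⟩
  have hz : zZ K ^ p = zZ K := by
    obtain ⟨k, rfl⟩ := hp
    rw [pow_succ, pow_mul, sq, zZ_sq, one_pow, one_mul]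
  have hzne : zZ K ≠ 1 := by
    intro h
    have := congrArg (fun x : SL2 K => x.1 0 0) h
    simp [zZ] at this
    exact C.neg_one_ne this
  have hne : d.1 0 1 ≠ 0 := by
    intro h0
    have hn := D₀_norm hd
    rw [h0] at hn
    obtain ⟨a1, a2⟩ := mem_D₀.1 hd
    have h2 : d.1 0 0 ^ 2 = 1 := by linear_combination hn
    rcases sq_cases h2 with h3 | h3
    · apply hl1
      have : d = 1 := by
        apply sl_ext
        · simp [h3]
        · simp [h0]
        · simp [a1, h0]
        · simp [a2, h3]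
      rw [this]
      rfl
    · apply hl1
      apply (prS_eq_one_iff d).2
      right
      apply sl_ext
      · simp [h3, zZ]
      · simp [h0, zZ]
      · simp [a1, h0, zZ]
      · simp [a2, h3, zZ]
  rcases (prS_eq_iff _ _).1 hc with h1 | h1
  · exact comm_D₀ hd hne h1
  · exfalso
    have hcz : Commute (zZ K) d := by
      have := (mem_center_SL2 (zZ K)).2 (Or.inr rfl)
      exact (Subgroup.mem_center_iff.1 this d).symm
    have h2 : y' * d * y'⁻¹ = zZ K * d := by
      have h1' : y' * d = zZ K * (d * y') := h1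
      rw [h1']
      have hcz2 : Commute (zZ K) (d * y') := by
        have := (mem_center_SL2 (zZ K)).2 (Or.inr rfl)
        exact (Subgroup.mem_center_iff.1 this _).symm
      have e3 : zZ K * (d * y') = d * y' * zZ K := hcz2
      rw [e3]
      calc d * y' * zZ K * y'⁻¹ = d * (y' * zZ K * y'⁻¹) := by group
        _ = d * (zZ K) := by
          have e4 : Commute (zZ K) y' := by
            have := (mem_center_SL2 (zZ K)).2 (Or.inr rfl)
            exact (Subgroup.mem_center_iff.1 this _).symm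
          have e5 : y' * zZ K = zZ K * y' := e4.symm
          rw [e5]
          group
        _ = zZ K * d := hcz.symm
    have h3 : (y' * d * y'⁻¹) ^ p = 1 := by
      rw [conj_pow, hdp]
      group
    rw [h2, hcz.mul_pow, hz, hdp, mul_one] at h3
    exact hzne h3

/-- The centraliser in the Ree group of `a` and an element of odd order of the torus. -/
theorem RCtx.cent_a_T₀ (C : RCtx K e) {p : ℕ} (hp : Odd p) {x y : ↥(twistedG2 K e)} (hx : x ∈ C.T₀) (h : x ^ p = 1) (hx1 : x ≠ 1) :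
    (y * x = x * y ∧ y * C.aI = C.aI * y) ↔ y ∈ C.E₀ := by
  obtain ⟨l, hl, rfl⟩ := hx
  have hlp : l ^ p = 1 := by
    apply C.psiP_inj
    rw [map_pow, h, map_one]
  have hl1 : l ≠ 1 := by
    rintro rfl
    exact hx1 (map_one _)
  constructor
  · rintro ⟨h1, h2⟩
    obtain ⟨⟨ε, y'⟩, rfl⟩ := C.phiC_range_cases h2
    have h3 : y' * l = l * y' := by
      have e1 : C.psiP l = C.phiC (1, l) := by
        rw [C.phiC_apply, map_one, one_mul]
      rw [e1] at h1
      exact C.phiC_comm_iff h1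
    rw [C.mem_E₀]
    exact ⟨ε, y', cent_Dbar C hp hl hlp hl1 h3, rfl⟩
  · intro hy
    constructor
    · exact C.E₀_comm _ hy _ (C.T₀_le_E₀ ⟨l, hl, rfl⟩)
    · exact C.E₀_comm _ hy _ C.aI_mem_E₀

end ctx

end CfsgLib.Ree
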