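/-
Centralisers of elements of odd prime order dividing `q ± 1` in the small Ree groups.
-/
import Cfsg.Agent.Lib.Ree.Torus

set_option autoImplicit false
set_option synthInstance.maxHeartbeats 400000
set_option synthInstance.maxSize 1024

namespace CfsgLib.Ree

open Cfsg.Lie Cfsg.Lie.ChevalleyDatum CfsgLib.BN CfsgLib.Chev CfsgLib.H9.SL2Cl Matrix

lemma q_cube {q : ℕ} (hq : 1 ≤ q) : 1 + q ^ 3 = (q + 1) * (q ^ 2 - q + 1) := by
  obtain ⟨a, rfl⟩ : ∃ a, q = a + 1 := ⟨q - 1, by omega⟩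
  have h : (a + 1) ^ 2 - (a + 1) + 1 = a ^ 2 + a + 1 := by
    have : (a + 1) ^ 2 = (a + 1) + (a ^ 2 + a) := by ring
    rw [this, Nat.add_sub_cancel_left]
  rw [h]
  ring

lemma arith_plus {q p : ℕ} (hp : p.Prime) (hp2 : p ≠ 2) (h3 : p ≠ 3) (hd : p ∣ q + 1) (hq3 : 3 ≤ q) :
    ¬ p ∣ q - 1 ∧ ¬ p ∣ q ^ 2 - q + 1 := by
  obtain ⟨a, rfl⟩ : ∃ a, q = a + 3 := ⟨q - 3, by omega⟩
  constructor
  · intro h
    have e1 : a + 3 - 1 = a + 2 := by omega
    rw [e1] at h
    have e2 : a + 3 + 1 = (a + 2) + 2 := by ring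
    rw [e2] at hd
    have := (Nat.dvd_add_right h).1 hd
    exact hp2 ((Nat.prime_dvd_prime_iff_eq hp Nat.prime_two).1 this)
  · intro h
    have e1 : (a + 3) ^ 2 - (a + 3) + 1 = (a + 3 + 1) * (a + 1) + 3 := by
      have : (a + 3) ^ 2 = (a + 3) + ((a + 3 + 1) * (a + 1) + 2) := by ring
      rw [this, Nat.add_sub_cancel_left]
    rw [e1] at h
    have := (Nat.dvd_add_right (Dvd.dvd.mul_right hd _)).1 h
    exact h3 ((Nat.prime_dvd_prime_iff_eq hp Nat.prime_three).1 this)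

lemma arith_three {n p : ℕ} (hp : p.Prime) (h3 : p ≠ 3) : ¬ p ∣ 3 ^ n :=
  fun h => h3 ((Nat.prime_dvd_prime_iff_eq hp Nat.prime_three).1 (hp.dvd_of_dvd_pow h))

lemma arith_not_three {n p : ℕ} (hd : p ∣ 3 ^ (n + 1) + 1) : p ≠ 3 := by
  rintro rfl
  have h1 : 3 ∣ 3 ^ (n + 1) := dvd_pow_self _ (by omega)
  have := (Nat.dvd_add_right h1).1 hd
  omega

lemma arith_not_three' {n p : ℕ} (hd : p ∣ 3 ^ (n + 1) - 1) : p ≠ 3 := by
  rintro rfl
  have h1 : 3 ∣ 3 ^ (n + 1) := dvd_pow_self _ (by omega)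
  have h2 : 1 ≤ 3 ^ (n + 1) := Nat.one_le_pow _ _ (by norm_num)
  have h4 : 3 ^ (n + 1) = 3 ^ (n + 1) - 1 + 1 := by omega
  rw [h4] at h1
  have := (Nat.dvd_add_right hd).1 h1
  omega

lemma arith_minus {q p : ℕ} (hp : p.Prime) (hp2 : p ≠ 2) (hd : p ∣ q - 1) (hq3 : 3 ≤ q) :
    ¬ p ∣ q + 1 ∧ ¬ p ∣ q ^ 2 - q + 1 := by
  obtain ⟨a, rfl⟩ : ∃ a, q = a + 3 := ⟨q - 3, by omega⟩
  have e1 : a + 3 - 1 = a + 2 := by omega
  rw [e1] at hd
  constructor
  · intro h
    have e2 : a + 3 + 1 = (a + 2) + 2 := by ring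
    rw [e2] at h
    have := (Nat.dvd_add_right hd).1 h
    exact hp2 ((Nat.prime_dvd_prime_iff_eq hp Nat.prime_two).1 this)
  · intro h
    have e1 : (a + 3) ^ 2 - (a + 3) + 1 = (a + 2) * (a + 3) + 1 := by
      have : (a + 3) ^ 2 = (a + 3) + ((a + 2) * (a + 3)) := by ring
      rw [this, Nat.add_sub_cancel_left]
    rw [e1] at h
    have := (Nat.dvd_add_right (Dvd.dvd.mul_right hd _)).1 h
    exact hp.one_lt.ne' (Nat.dvd_one.1 this)

section general

variable {Γ : Type*} [Group Γ]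

lemma conj_comm {k y x : Γ} (h : y * x = x * y) : (k * y * k⁻¹) * (k * x * k⁻¹) = (k * x * k⁻¹) * (k * y * k⁻¹) := by
  have e1 : (k * y * k⁻¹) * (k * x * k⁻¹) = k * (y * x) * k⁻¹ := by group
  have e2 : (k * x * k⁻¹) * (k * y * k⁻¹) = k * (x * y) * k⁻¹ := by group
  rw [e1, e2, h]

lemma conj_comm' {k y x : Γ} (h : (k * y * k⁻¹) * (k * x * k⁻¹) = (k * x * k⁻¹) * (k * y * k⁻¹)) : y * x = x * y := by
  have e1 : (k * y * k⁻¹) * (k * x * k⁻¹) = k * (y * x) * k⁻¹ := by group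
  have e2 : (k * x * k⁻¹) * (k * y * k⁻¹) = k * (x * y) * k⁻¹ := by group
  rw [e1, e2] at h
  exact mul_left_cancel (mul_right_cancel h)

lemma eq_one_of_sq_odd {x : Γ} {p : ℕ} (hp : Odd p) (h2 : x * x = 1) (hx : x ^ p = 1) : x = 1 := by
  obtain ⟨k, rfl⟩ := hp
  rw [pow_succ, pow_mul, sq, h2, one_pow, one_mul] at hx
  exact hx

/-- Conjugation carries centralisers to centralisers. -/
noncomputable def centConj (g x : Γ) : Subgroup.centralizer ({x} : Set Γ) ≃* Subgroup.centralizer ({g * x * g⁻¹} : Set Γ) where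
  toFun y := ⟨g * y.1 * g⁻¹, by
    rw [Subgroup.mem_centralizer_singleton_iff]
    exact conj_comm (Subgroup.mem_centralizer_singleton_iff.1 y.2)⟩
  invFun y := ⟨g⁻¹ * y.1 * g, by
    rw [Subgroup.mem_centralizer_singleton_iff]
    apply conj_comm' (k := g)
    have e1 : g * (g⁻¹ * y.1 * g) * g⁻¹ = y.1 := by group
    rw [e1]
    exact Subgroup.mem_centralizer_singleton_iff.1 y.2⟩
  left_inv y := by
    apply Subtype.ext
    show g⁻¹ * (g * y.1 * g⁻¹) * g = y.1
    group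
  right_inv y := by
    apply Subtype.ext
    show g * (g⁻¹ * y.1 * g) * g⁻¹ = y.1
    group
  map_mul' a b := by
    apply Subtype.ext
    show g * (a.1 * b.1) * g⁻¹ = (g * a.1 * g⁻¹) * (g * b.1 * g⁻¹)
    group

lemma mem_cent_conj {g x y : Γ} : g * y * g⁻¹ ∈ Subgroup.centralizer ({g * x * g⁻¹} : Set Γ) ↔ y ∈ Subgroup.centralizer ({x} : Set Γ) := by
  rw [Subgroup.mem_centralizer_singleton_iff, Subgroup.mem_centralizer_singleton_iff]
  exact ⟨conj_comm', conj_comm⟩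

lemma zpowers_isP {x : Γ} {p k : ℕ} (hx : x ^ p ^ k = 1) : IsPGroup p (Subgroup.zpowers x) := by
  rintro ⟨y, j, rfl⟩
  refine ⟨k, Subtype.ext ?_⟩
  show ((x ^ j) ^ p ^ k : Γ) = 1
  rw [← zpow_natCast, ← _root_.zpow_mul, mul_comm, _root_.zpow_mul, zpow_natCast, hx, _root_.one_zpow]

/-- The fixed points of a `p`-element. -/
lemma card_fix_modEq {Ω : Type*} [MulAction Γ Ω] [Finite Ω] {p k : ℕ} [Fact p.Prime] {x : Γ} (hx : x ^ p ^ k = 1) :
    Nat.card {w : Ω // x • w = w} ≡ Nat.card Ω [MOD p] := by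
  have h := (zpowers_isP hx).card_modEq_card_fixedPoints Ω
  have e1 : Nat.card {w : Ω // x • w = w} = Nat.card (MulAction.fixedPoints (Subgroup.zpowers x) Ω) := by
    refine Nat.card_congr (Equiv.subtypeEquivRight ?_)
    intro w
    rw [MulAction.mem_fixedPoints]
    constructor
    · rintro h ⟨g, hg⟩
      have : Subgroup.zpowers x ≤ MulAction.stabilizer Γ w := Subgroup.zpowers_le.2 h
      exact this hg
    · intro h
      exact h ⟨x, Subgroup.mem_zpowers x⟩
  rw [e1]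
  exact h.symm

end general

section ctx

variable {K : Type*} [Field K] [Fintype K] {e : ℕ} (C : RCtx K e)

/-- The order of the Borel subgroup. -/
theorem RCtx.card_borel (C : RCtx K e) : Nat.card (borelOf K e) = (Fintype.card K) ^ 3 * (Fintype.card K - 1) := by
  have h1 := Subgroup.card_mul_index (borelOf K e)
  have h2 : (borelOf K e).index = (Fintype.card K) ^ 3 + 1 := C.card_pts
  rw [h2, C.card_G] at h1
  have h3 : (Fintype.card K) ^ 3 + 1 > 0 := by positivity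
  apply Nat.eq_of_mul_eq_mul_right h3
  rw [h1]
  ring

lemma conj_borel_of_fix {x : ↥(twistedG2 K e)} {w : Pts K e} (h : x • w = w) : ∃ g : ↥(twistedG2 K e), g * x * g⁻¹ ∈ borelOf K e := by
  obtain ⟨g, rfl⟩ := QuotientGroup.mk_surjective w
  refine ⟨g⁻¹, ?_⟩
  rw [← fix_ptI]
  rw [← smul_ptI] at h
  rw [inv_inv, mul_smul, mul_smul, h, inv_smul_smul]

/-- An element of prime order not dividing the order of the Borel subgroup has no fixed point. -/
theorem RCtx.no_fix (C : RCtx K e) {p : ℕ} (hp : p.Prime) (hd : ¬ p ∣ (Fintype.card K) ^ 3 * (Fintype.card K - 1))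
    {x : ↥(twistedG2 K e)} (hx : x ^ p = 1) (h1 : x ≠ 1) (w : Pts K e) : x • w ≠ w := by
  intro h
  obtain ⟨g, hg⟩ := conj_borel_of_fix h
  haveI := Fact.mk hp
  have ho : orderOf (⟨g * x * g⁻¹, hg⟩ : borelOf K e) = p := by
    apply orderOf_eq_prime
    · apply Subtype.ext
      show (g * x * g⁻¹) ^ p = 1
      rw [conj_pow, hx]
      group
    · intro h2
      have h3 : g * x * g⁻¹ = 1 := congrArg Subtype.val h2
      exact h1 (conj_eq_one_iff.1 h3)
  have := orderOf_dvd_natCard (⟨_, hg⟩ : borelOf K e)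
  rw [ho, C.card_borel] at this
  exact hd this

/-- A `3`-element has a fixed point. -/
theorem RCtx.exists_fix_three (C : RCtx K e) {n : ℕ} (hK : Fintype.card K = 3 ^ (n + 1)) {x : ↥(twistedG2 K e)} {k : ℕ} (hx : x ^ 3 ^ k = 1) :
    ∃ w : Pts K e, x • w = w := by
  classical
  haveI : Fact (Nat.Prime 3) := ⟨Nat.prime_three⟩
  have h := card_fix_modEq (Ω := Pts K e) hx
  rw [C.card_pts, hK] at h
  by_contra hno
  have h0 : IsEmpty {w : Pts K e // x • w = w} := ⟨fun w => hno ⟨w.1, w.2⟩⟩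
  rw [Nat.card_of_isEmpty] at h
  have h2 : 3 ∣ (3 ^ (n + 1)) ^ 3 + 1 := (Nat.modEq_zero_iff_dvd).1 h.symm
  have h3 : 3 ∣ (3 ^ (n + 1)) ^ 3 := dvd_pow (dvd_pow_self _ (by omega)) (by norm_num)
  have := (Nat.dvd_add_right h3).1 h2
  omega

/-- An element fixing three points is an involution or trivial. -/
theorem RCtx.invol_of_three (C : RCtx K e) {x : ↥(twistedG2 K e)} {a b c : Pts K e} (hab : a ≠ b) (hac : a ≠ c) (hbc : b ≠ c)
    (ha : x • a = a) (hb : x • b = b) (hc : x • c = c) : x * x = 1 := by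
  obtain ⟨g, h1, h2⟩ := C.exists_move hab
  have f1 : (g * x * g⁻¹) • (ptI : Pts K e) = ptI := by
    rw [← h1, mul_smul, mul_smul, inv_smul_smul, ha]
  have f2 : (g * x * g⁻¹) • C.ptF 0 0 0 = C.ptF 0 0 0 := by
    rw [← h2, mul_smul, mul_smul, inv_smul_smul, hb]
  rcases C.pt_cases (g • c) with h3 | ⟨t, u, v, h3⟩
  · exfalso
    apply hac
    apply smul_left_cancel g
    rw [h1, h3]
  · have f3 : (g * x * g⁻¹) • C.ptF t u v = C.ptF t u v := by
      rw [← h3, mul_smul, mul_smul, inv_smul_smul, hc]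
    have hne : ¬ (t = 0 ∧ u = 0 ∧ v = 0) := by
      rintro ⟨rfl, rfl, rfl⟩
      apply hbc
      apply smul_left_cancel g
      rw [h2, h3]
    rcases C.fix_three hne f1 f2 f3 with h | h
    · rw [conj_eq_one_iff.1 h, one_mul]
    · have h4 : (g * x * g⁻¹) * (g * x * g⁻¹) = 1 := by
        rw [h]
        exact C.aI_sq
      have h5 : g * (x * x) * g⁻¹ = 1 := by
        rw [← h4]
        group
      exact conj_eq_one_iff.1 h5

/-- An element of odd prime order dividing `q - 1` fixes two points. -/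
theorem RCtx.two_fix (C : RCtx K e) {n : ℕ} (hK : Fintype.card K = 3 ^ (n + 1)) {p : ℕ} (hp : p.Prime) (hp2 : p ≠ 2) (hd : p ∣ Fintype.card K - 1)
    {x : ↥(twistedG2 K e)} (hx : x ^ p = 1) : ∃ a b : Pts K e, a ≠ b ∧ x • a = a ∧ x • b = b := by
  classical
  haveI := Fact.mk hp
  have h := card_fix_modEq (Ω := Pts K e) (p := p) (k := 1) (x := x) (by rwa [pow_one])
  rw [C.card_pts] at h
  by_contra hno
  push Not at hno
  have hss : Subsingleton {w : Pts K e // x • w = w} := ⟨fun a b => Subtype.ext (by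
    by_contra hne
    exact hno a.1 b.1 hne a.2 b.2)⟩
  have hle : Nat.card {w : Pts K e // x • w = w} ≤ 1 := Finite.card_le_one_iff_subsingleton.2 hss
  have hq1 : 1 ≤ Fintype.card K := by
    rw [hK]
    exact Nat.one_le_pow _ _ (by norm_num)
  have hq : (Fintype.card K : ZMod p) = 1 := by
    have h3 : ((Fintype.card K - 1 : ℕ) : ZMod p) = 0 := (ZMod.natCast_eq_zero_iff _ _).2 hd
    rw [Nat.cast_sub hq1, Nat.cast_one] at h3
    exact sub_eq_zero.1 h3
  have h4 : ((Nat.card {w : Pts K e // x • w = w} : ℕ) : ZMod p) = 2 := by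
    rw [(ZMod.natCast_eq_natCast_iff _ _ _).2 h]
    push_cast
    rw [hq]
    norm_num
  have h5 : ¬ p ∣ 2 := fun h => hp2 ((Nat.prime_dvd_prime_iff_eq hp Nat.prime_two).1 h)
  have h6 : (2 : ZMod p) ≠ 0 := by
    intro h
    apply h5
    apply (ZMod.natCast_eq_zero_iff _ _).1
    push_cast
    exact h
  have h7 : Nat.card {w : Pts K e // x • w = w} = 0 ∨ Nat.card {w : Pts K e // x • w = w} = 1 := by omega
  rcases h7 with h7 | h7
  · rw [h7] at h4
    apply h6
    rw [← h4]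
    simp
  · rw [h7] at h4
    apply h6
    have : (1 : ZMod p) = 2 := by simpa using h4
    have h8 : (2 : ZMod p) = 1 + 1 := by norm_num
    have hz : (1 : ZMod p) = 0 := by
      have : (1 : ZMod p) + 1 = 1 + 0 := by rw [← h8, ← this, add_zero]
      exact add_left_cancel this
    rw [h8, hz]
    simp

/-- The centraliser of a non-involutory element of the diagonal subgroup. -/
theorem RCtx.cent_rH (C : RCtx K e) {y : Kˣ} (hy : y * y ≠ 1) : Subgroup.centralizer ({C.rH y} : Set ↥(twistedG2 K e)) = C.rH.range := by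
  have hne : (ptI : Pts K e) ≠ C.ptF 0 0 0 := (C.ptF_ne_ptI 0 0 0).symm
  have hsq : C.rH y * C.rH y ≠ 1 := by
    intro h
    rw [← map_mul] at h
    exact hy (C.rH_inj (by rw [h, map_one]))
  have hw1 : C.w₁ • C.ptF 0 0 0 = (ptI : Pts K e) := by
    rw [← C.w₁_smul_ptI, ← mul_smul, C.w₁_sq, one_smul]
  apply le_antisymm
  · intro z hz
    rw [Subgroup.mem_centralizer_singleton_iff] at hz
    have fix : ∀ w : Pts K e, C.rH y • w = w → C.rH y • (z • w) = z • w := by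
      intro w hw
      rw [← mul_smul, ← hz, mul_smul, hw]
    have hI : C.rH y • (ptI : Pts K e) = ptI := C.rH_smul_ptI y
    have hF : C.rH y • C.ptF 0 0 0 = C.ptF 0 0 0 := by
      rw [C.rH_smul_ptF]
      simp
    have only : ∀ w : Pts K e, C.rH y • w = w → w = ptI ∨ w = C.ptF 0 0 0 := by
      intro w hw
      by_contra hno
      push Not at hno
      exact hsq (C.invol_of_three hne hno.1.symm hno.2.symm hI hF hw)
    have h1 := only _ (fix _ hI)
    have h2 := only _ (fix _ hF)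
    have hinj : z • (ptI : Pts K e) ≠ z • C.ptF 0 0 0 := fun h => hne (smul_left_cancel z h)
    rcases h1 with h1 | h1
    · have h3 : z • C.ptF 0 0 0 = C.ptF 0 0 0 := by
        rcases h2 with h2 | h2
        · exact absurd (h1.trans h2.symm) hinj
        · exact h2
      obtain ⟨y', rfl⟩ := C.stab_two h1 h3
      exact ⟨y', rfl⟩
    · exfalso
      have h3 : z • C.ptF 0 0 0 = ptI := by
        rcases h2 with h2 | h2
        · exact h2
        · exact absurd (h1.trans h2.symm) hinj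
      have f1 : (C.w₁ * z) • (ptI : Pts K e) = ptI := by
        rw [mul_smul, h1, hw1]
      have f2 : (C.w₁ * z) • C.ptF 0 0 0 = C.ptF 0 0 0 := by
        rw [mul_smul, h3, C.w₁_smul_ptI]
      obtain ⟨y', hy'⟩ := C.stab_two f1 f2
      have hz' : z = C.w₁ * C.rH y' := by
        rw [← hy', ← mul_assoc, C.w₁_sq, one_mul]
      rw [hz'] at hz
      have hcomm : C.rH y' * C.rH y = C.rH y * C.rH y' := by
        rw [← map_mul, ← map_mul, mul_comm]
      have h4 : C.w₁ * C.rH y = C.rH y * C.w₁ := by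
        have h5 : C.w₁ * C.rH y' * C.rH y = C.w₁ * C.rH y * C.rH y' := by
          rw [mul_assoc, hcomm, mul_assoc]
        rw [h5] at hz
        have h6 : C.rH y * (C.w₁ * C.rH y') = C.rH y * C.w₁ * C.rH y' := by rw [mul_assoc]
        rw [h6] at hz
        exact mul_right_cancel hz
      have h5 := C.w₁_conj_H y
      rw [h4, C.w₁_inv, mul_assoc, C.w₁_sq, mul_one] at h5
      have h6 : y = y⁻¹ := C.rH_inj h5
      apply hy
      nth_rewrite 1 [h6]
      simp
  · rintro _ ⟨y', rfl⟩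
    rw [Subgroup.mem_centralizer_singleton_iff, ← map_mul, ← map_mul, mul_comm]

/-- The centraliser of an element of odd prime order dividing `q - 1`. -/
theorem RCtx.prop_H (C : RCtx K e) {n : ℕ} (hK : Fintype.card K = 3 ^ (n + 1)) {p : ℕ} (hp : p.Prime) (hp2 : p ≠ 2) (hd : p ∣ Fintype.card K - 1)
    {x : ↥(twistedG2 K e)} (hx : x ^ p = 1) (h1 : x ≠ 1) :
    ∃ (g : ↥(twistedG2 K e)) (y : Kˣ), y * y ≠ 1 ∧ g * x * g⁻¹ = C.rH y := by
  obtain ⟨a, b, hab, ha, hb⟩ := C.two_fix hK hp hp2 hd hx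
  obtain ⟨g, h2, h3⟩ := C.exists_move hab
  have f1 : (g * x * g⁻¹) • (ptI : Pts K e) = ptI := by
    rw [← h2, mul_smul, mul_smul, inv_smul_smul, ha]
  have f2 : (g * x * g⁻¹) • C.ptF 0 0 0 = C.ptF 0 0 0 := by
    rw [← h3, mul_smul, mul_smul, inv_smul_smul, hb]
  obtain ⟨y, hy⟩ := C.stab_two f1 f2
  refine ⟨g, y, ?_, hy⟩
  intro h4
  have h5 : (g * x * g⁻¹) * (g * x * g⁻¹) = 1 := by
    rw [hy, ← map_mul, h4, map_one]
  have h6 : g * (x * x) * g⁻¹ = 1 := by
    rw [← h5]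
    group
  have h7 := conj_eq_one_iff.1 h6
  exact h1 (eq_one_of_sq_odd (hp.odd_of_ne_two hp2) h7 hx)

/-- The structure of the centraliser for primes dividing `q - 1`. -/
theorem RCtx.cent_minus (C : RCtx K e) {n : ℕ} (hK : Fintype.card K = 3 ^ (n + 1)) {p : ℕ} (hp : p.Prime) (hp2 : p ≠ 2) (hd : p ∣ Fintype.card K - 1)
    {x : ↥(twistedG2 K e)} (hx : x ^ p = 1) (h1 : x ≠ 1) :
    IsCyclic (Subgroup.centralizer ({x} : Set ↥(twistedG2 K e))) ∧ Nat.card (Subgroup.centralizer ({x} : Set ↥(twistedG2 K e))) = Fintype.card K - 1 := by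
  obtain ⟨g, y, hy, hg⟩ := C.prop_H hK hp hp2 hd hx h1
  have e1 := (centConj g x)
  rw [hg, C.cent_rH hy] at e1
  have hcard : Nat.card C.rH.range = Fintype.card K - 1 := by
    rw [← C.card_units]
    exact Nat.card_congr (MonoidHom.ofInjective C.rH_inj).symm.toEquiv
  haveI hcyc : IsCyclic C.rH.range := isCyclic_of_surjective C.rH.rangeRestrict C.rH.rangeRestrict_surjective
  refine ⟨isCyclic_of_surjective e1.symm.toMonoidHom e1.symm.surjective, ?_⟩
  rw [Nat.card_congr e1.toEquiv, hcard]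

/-- The order of the torus in the Ree group. -/
lemma RCtx.card_T₀ (C : RCtx K e) : 2 * Nat.card C.T₀ = Fintype.card K + 1 := by
  unfold RCtx.T₀
  rw [Subgroup.card_map_of_injective C.psiP_inj, card_Dbar C]

lemma RCtx.index_T₀ (C : RCtx K e) {n : ℕ} (hK : Fintype.card K = 3 ^ (n + 1)) :
    C.T₀.index = 2 * (Fintype.card K ^ 3 * (Fintype.card K - 1) * (Fintype.card K ^ 2 - Fintype.card K + 1)) := by
  have h1 := Subgroup.card_mul_index C.T₀
  have h2 := C.card_T₀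
  have hq1 : 1 ≤ Fintype.card K := by
    rw [hK]
    exact Nat.one_le_pow _ _ (by norm_num)
  rw [C.card_G, q_cube hq1] at h1
  have h3 : 0 < Fintype.card K + 1 := by omega
  apply Nat.eq_of_mul_eq_mul_left h3
  rw [← h2]
  calc 2 * Nat.card C.T₀ * C.T₀.index = 2 * (Nat.card C.T₀ * C.T₀.index) := by ring
    _ = _ := by
      rw [h1, ← h2]
      ring

lemma index_Dbar (C : RCtx K e) {n : ℕ} (hK : Fintype.card K = 3 ^ (n + 1)) :
    (Dbar K).index = Fintype.card K * (Fintype.card K - 1) := by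
  have h1 := Subgroup.card_mul_index (Dbar K)
  have h2 := card_Dbar C
  have h4 := C.card_PSL
  have hq1 : 1 ≤ Fintype.card K := by
    rw [hK]
    exact Nat.one_le_pow _ _ (by norm_num)
  have h3 : 0 < Fintype.card K + 1 := by omega
  apply Nat.eq_of_mul_eq_mul_left h3
  rw [← h2]
  have e1 : Fintype.card K ^ 2 - 1 = (Fintype.card K + 1) * (Fintype.card K - 1) := by
    have := Nat.sq_sub_sq (Fintype.card K) 1
    simpa using this
  calc 2 * Nat.card (Dbar K) * (Dbar K).index = 2 * (Nat.card (Dbar K) * (Dbar K).index) := by ring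
    _ = _ := by
      rw [h1, h4, e1, ← h2]
      ring

/-- Elements of odd prime order dividing `q + 1` lie in conjugates of the torus. -/
theorem RCtx.conj_T₀ (C : RCtx K e) {n : ℕ} (hK : Fintype.card K = 3 ^ (n + 1)) {p : ℕ} (hp : p.Prime) (hp2 : p ≠ 2) (hd : p ∣ Fintype.card K + 1)
    {x : ↥(twistedG2 K e)} (hx : x ^ p = 1) : ∃ g : ↥(twistedG2 K e), g * x * g⁻¹ ∈ C.T₀ := by
  haveI := Fact.mk hp
  have h3 : p ≠ 3 := by
    rw [hK] at hd
    exact arith_not_three hd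
  have hq3 : 3 ≤ Fintype.card K := by
    rw [hK, pow_succ]
    have := Nat.one_le_pow n 3 (by norm_num)
    omega
  obtain ⟨a1, a2⟩ := arith_plus hp hp2 h3 hd hq3
  have a3 : ¬ p ∣ Fintype.card K := by
    rw [hK]
    exact arith_three hp h3
  have hidx : ¬ p ∣ C.T₀.index := by
    rw [C.index_T₀ hK]
    intro h
    rcases (Nat.Prime.dvd_mul hp).1 h with h | h
    · exact hp2 ((Nat.prime_dvd_prime_iff_eq hp Nat.prime_two).1 h)
    rcases (Nat.Prime.dvd_mul hp).1 h with h | h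
    · rcases (Nat.Prime.dvd_mul hp).1 h with h | h
      · exact a3 (hp.dvd_of_dvd_pow h)
      · exact a1 h
    · exact a2 h
  exact conj_into_of_index (p := p) C.T₀ hidx (k := 1) (by rwa [pow_one])

/-- A commuting involution: the simultaneous conjugation. -/
theorem RCtx.L3 (C : RCtx K e) {n : ℕ} (hK : Fintype.card K = 3 ^ (n + 1)) {p : ℕ} (hp : p.Prime) (hp2 : p ≠ 2) (hd : p ∣ Fintype.card K + 1)
    {x t : ↥(twistedG2 K e)} (hx : x ^ p = 1) (ht : t * t = 1) (ht1 : t ≠ 1) (hc : t * x = x * t) :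
    ∃ k : ↥(twistedG2 K e), k * t * k⁻¹ = C.aI ∧ k * x * k⁻¹ ∈ C.T₀ := by
  haveI := Fact.mk hp
  obtain ⟨k₁, hk₁⟩ := isConj_iff.1 (C.invol_conj ht ht1)
  have h3 : p ≠ 3 := by
    rw [hK] at hd
    exact arith_not_three hd
  have hq3 : 3 ≤ Fintype.card K := by
    rw [hK, pow_succ]
    have := Nat.one_le_pow n 3 (by norm_num)
    omega
  obtain ⟨a1, a2⟩ := arith_plus hp hp2 h3 hd hq3
  have a3 : ¬ p ∣ Fintype.card K := by
    rw [hK]
    exact arith_three hp h3
  have e0 : k₁⁻¹ * t * k₁⁻¹⁻¹ = C.aI := by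
    rw [← hk₁]
    group
  have hcomm : (k₁⁻¹ * x * k₁⁻¹⁻¹) * C.aI = C.aI * (k₁⁻¹ * x * k₁⁻¹⁻¹) := by
    rw [← e0]
    exact conj_comm hc.symm
  obtain ⟨⟨ε, l⟩, hl⟩ := C.phiC_range_cases hcomm
  have h2 : C.phiC ((ε, l) ^ p) = 1 := by
    rw [map_pow, hl, conj_pow, hx]
    group
  have h4 : (ε, l) ^ p = 1 := C.phiC_inj (by rw [h2, map_one])
  have hε : ε ^ p = 1 := congrArg Prod.fst h4
  have hl' : l ^ p = 1 := congrArg Prod.snd h4
  have hε1 : ε = 1 := by
    have hsq : ∀ a : Multiplicative (ZMod 2), a * a = 1 := by decide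
    exact eq_one_of_sq_odd (hp.odd_of_ne_two hp2) (hsq ε) hε
  subst hε1
  have hidx : ¬ p ∣ (Dbar K).index := by
    rw [index_Dbar C hK]
    intro h
    rcases (Nat.Prime.dvd_mul hp).1 h with h | h
    · exact a3 h
    · exact a1 h
  obtain ⟨h, hh⟩ := conj_into_of_index (p := p) (Dbar K) hidx (k := 1) (x := l) (by rwa [pow_one])
  have hl2 : C.psiP l = k₁⁻¹ * x * k₁⁻¹⁻¹ := by
    rw [← hl, C.phiC_apply, map_one, one_mul]
  refine ⟨C.psiP h * k₁⁻¹, ?_, ⟨h * l * h⁻¹, hh, ?_⟩⟩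
  · have e2 : C.psiP h * k₁⁻¹ * t * (C.psiP h * k₁⁻¹)⁻¹ = C.psiP h * (k₁⁻¹ * t * k₁⁻¹⁻¹) * (C.psiP h)⁻¹ := by group
    rw [e2, e0, ← C.aI_comm_psiP, mul_assoc, mul_inv_cancel, mul_one]
  · rw [map_mul, map_mul, map_inv, hl2]
    group

/-- The centraliser of a nontrivial element of odd prime order of the torus. -/
theorem RCtx.cent_T₀ (C : RCtx K e) {m : ℕ} (hK : Fintype.card K = 3 ^ (2 * m + 1)) {p : ℕ} (hp : p.Prime) (hp2 : p ≠ 2) (hd : p ∣ Fintype.card K + 1)
    {x : ↥(twistedG2 K e)} (hT : x ∈ C.T₀) (hx : x ^ p = 1) (h1 : x ≠ 1) :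
    Subgroup.centralizer ({x} : Set ↥(twistedG2 K e)) = C.E₀ := by
  classical
  haveI := Fact.mk hp
  have hodd := hp.odd_of_ne_two hp2
  have h3 : p ≠ 3 := by
    rw [hK] at hd
    exact arith_not_three hd
  have hq3 : 3 ≤ Fintype.card K := by
    rw [hK, pow_succ]
    have := Nat.one_le_pow (2 * m) 3 (by norm_num)
    omega
  obtain ⟨a1, a2⟩ := arith_plus hp hp2 h3 hd hq3
  have a3 : ¬ p ∣ Fintype.card K := by
    rw [hK]
    exact arith_three hp h3
  have hnofix := C.no_fix hp (by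
    intro h
    rcases (Nat.Prime.dvd_mul hp).1 h with h | h
    · exact a3 (hp.dvd_of_dvd_pow h)
    · exact a1 h) hx h1
  have hE : x ∈ C.E₀ := C.T₀_le_E₀ hT
  have hle : C.E₀ ≤ Subgroup.centralizer ({x} : Set ↥(twistedG2 K e)) := by
    intro y hy
    rw [Subgroup.mem_centralizer_singleton_iff]
    exact C.E₀_comm _ hy _ hE
  let Γ := ↥(Subgroup.centralizer ({x} : Set ↥(twistedG2 K e)))
  -- the four-group
  have hw₁E : C.w₁ ∈ C.E₀ := C.T₀_le_E₀ C.w₁_mem_T₀
  have haE : C.aI ∈ C.E₀ := C.aI_mem_E₀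
  let i : Γ := ⟨C.aI, hle haE⟩
  let j : Γ := ⟨C.w₁, hle hw₁E⟩
  have hi : i * i = 1 := Subtype.ext C.aI_sq
  have hj : j * j = 1 := Subtype.ext C.w₁_sq
  have hij : i * j = j * i := Subtype.ext (C.E₀_comm _ haE _ hw₁E)
  have hi1 : i ≠ 1 := fun h => C.aI_ne (congrArg Subtype.val h)
  have hw₁1 : C.w₁ ≠ 1 := by
    intro h
    have := C.w₁_smul_ptI
    rw [h, one_smul] at this
    exact C.ptF_ne_ptI 0 0 0 this.symm
  have hj1 : j ≠ 1 := fun h => hw₁1 (congrArg Subtype.val h)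
  have hwa : C.aI ≠ C.w₁ := by
    have := C.psiP_ne_aI (prS SLP.wz)
    rw [show C.psiP (prS SLP.wz) = C.w₁ by
      show C.psi SLP.wz = _
      rw [C.psi_wz]] at this
    exact this.symm
  have hne : i ≠ j := fun h => hwa (congrArg Subtype.val h)
  obtain ⟨V, hV1, hV2, hVi, hVj, -⟩ := four_group hi hj hij hi1 hj1 hne
  have hn4 : 4 ∣ Fintype.card K + 1 := by
    have := card_mod_eight (m := m)
    rw [hK]
    omega
  -- no element of order three
  have h3' : ¬ 3 ∣ Nat.card Γ := by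
    intro h
    haveI : Fact (Nat.Prime 3) := ⟨Nat.prime_three⟩
    obtain ⟨y, hy⟩ := exists_prime_orderOf_dvd_card' (G := Γ) 3 h
    have hy1 : y.1 ^ 3 ^ 1 = 1 := by
      have := pow_orderOf_eq_one y
      rw [hy] at this
      rw [pow_one]
      exact congrArg Subtype.val this
    have hy0 : y.1 ≠ 1 := by
      intro h
      have : y = 1 := Subtype.ext h
      rw [this, orderOf_one] at hy
      omega
    obtain ⟨w, hw⟩ := C.exists_fix_three (n := 2 * m) hK hy1
    have hcomm : y.1 * x = x * y.1 := Subgroup.mem_centralizer_singleton_iff.1 y.2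
    have hw2 : y.1 • (x • w) = x • w := by
      rw [← mul_smul, hcomm, mul_smul, hw]
    by_cases hwx : w = x • w
    · exact hnofix w hwx.symm
    · exact hy0 (C.eq_one_of_fix_two (n := 2 * m + 1) hK hy1 hwx hw hw2)
  -- no subgroup of order eight
  have h8 : ¬ 8 ∣ Nat.card Γ := by
    intro h
    haveI : Fact (Nat.Prime 2) := ⟨Nat.prime_two⟩
    obtain ⟨Q, hQ⟩ := Sylow.exists_subgroup_card_pow_prime (G := Γ) 2 (n := 3) (by simpa using h)
    let Q' : Subgroup ↥(twistedG2 K e) := Q.map (Subgroup.subtype _)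
    have hQ' : Nat.card Q' = 8 := by
      rw [Subgroup.card_map_of_injective (Subgroup.subtype_injective _), hQ]
      norm_num
    have hP : IsPGroup 2 Q' := IsPGroup.of_card (n := 3) (by rw [hQ']; norm_num)
    obtain ⟨S, hS⟩ := hP.exists_le_sylow
    obtain ⟨hS8, hS2⟩ := C.sylow_two_spec hK S
    have hSQ : Q' = S := Subgroup.eq_of_le_of_card_ge hS (by rw [hQ', hS8])
    have hx1 : x ∈ Subgroup.centralizer ((S : Subgroup ↥(twistedG2 K e)) : Set ↥(twistedG2 K e)) := by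
      rw [Subgroup.mem_centralizer_iff]
      intro y hy
      have hy' : y ∈ Q' := by rw [hSQ]; exact hy
      obtain ⟨y', -, rfl⟩ := hy'
      exact Subgroup.mem_centralizer_singleton_iff.1 y'.2
    rw [(C.sylow_N hK S).1] at hx1
    exact h1 (eq_one_of_sq_odd hodd (hS2 x hx1) hx)
  -- centralisers of involutions
  have hcent : ∀ t : Γ, t * t = 1 → t ≠ 1 → Nat.card (Subgroup.centralizer ({t} : Set Γ)) = Fintype.card K + 1 ∧
      ∀ a ∈ Subgroup.centralizer ({t} : Set Γ), ∀ b ∈ Subgroup.centralizer ({t} : Set Γ), a * b = b * a := by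
    intro t ht ht1
    have ht' : t.1 * t.1 = 1 := congrArg Subtype.val ht
    have ht1' : t.1 ≠ 1 := fun h => ht1 (Subtype.ext h)
    have htx : t.1 * x = x * t.1 := Subgroup.mem_centralizer_singleton_iff.1 t.2
    obtain ⟨k, hk1, hk2⟩ := C.L3 (n := 2 * m) hK hp hp2 hd hx ht' ht1' htx
    have hx'p : (k * x * k⁻¹) ^ p = 1 := by
      rw [conj_pow, hx]
      group
    have hx'1 : k * x * k⁻¹ ≠ 1 := fun h => h1 (conj_eq_one_iff.1 h)
    have key : ∀ y : ↥(twistedG2 K e), (y * x = x * y ∧ y * t.1 = t.1 * y) ↔ k * y * k⁻¹ ∈ C.E₀ := by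
      intro y
      rw [← C.cent_a_T₀ hodd hk2 hx'p hx'1]
      constructor
      · rintro ⟨e1, e2⟩
        refine ⟨conj_comm e1, ?_⟩
        rw [← hk1]
        exact conj_comm e2
      · rintro ⟨e1, e2⟩
        refine ⟨conj_comm' e1, ?_⟩
        rw [← hk1] at e2
        exact conj_comm' e2
    have memt : ∀ a : Γ, a ∈ Subgroup.centralizer ({t} : Set Γ) → a.1 * t.1 = t.1 * a.1 := by
      intro a ha
      exact congrArg Subtype.val (Subgroup.mem_centralizer_singleton_iff.1 ha)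
    constructor
    · rw [← C.card_E₀]
      apply Nat.card_congr
      refine Equiv.ofBijective (fun a => (⟨k * a.1.1 * k⁻¹, (key a.1.1).1 ⟨Subgroup.mem_centralizer_singleton_iff.1 a.1.2, memt _ a.2⟩⟩ : C.E₀)) ⟨?_, ?_⟩
      · intro a b hab
        have e1 : k * a.1.1 * k⁻¹ = k * b.1.1 * k⁻¹ := congrArg Subtype.val hab
        exact Subtype.ext (Subtype.ext (mul_left_cancel (mul_right_cancel e1)))
      · rintro ⟨z, hz⟩
        have e1 : k * (k⁻¹ * z * k) * k⁻¹ = z := by group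
        have hz' : k * (k⁻¹ * z * k) * k⁻¹ ∈ C.E₀ := by rw [e1]; exact hz
        obtain ⟨b1, b2⟩ := (key _).2 hz'
        refine ⟨⟨⟨k⁻¹ * z * k, Subgroup.mem_centralizer_singleton_iff.2 b1⟩, Subgroup.mem_centralizer_singleton_iff.2 (Subtype.ext b2)⟩, Subtype.ext ?_⟩
        exact e1
    · intro a ha b hb
      have e1 := (key a.1).1 ⟨Subgroup.mem_centralizer_singleton_iff.1 a.2, memt _ ha⟩
      have e2 := (key b.1).1 ⟨Subgroup.mem_centralizer_singleton_iff.1 b.2, memt _ hb⟩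
      exact Subtype.ext (conj_comm' (C.E₀_comm _ e1 _ e2))
  have hcard := card_of_cent_invol (Γ := Γ) h3' h8 hn4 V hV1 hV2 hcent hVi hVj hi1 hj1 hne
  symm
  apply Subgroup.eq_of_le_of_card_ge hle
  rw [C.card_E₀]
  exact hcard.le

/-- The abelian group has no elements of order four. -/
theorem RCtx.E₀_no_four (C : RCtx K e) {m : ℕ} (hK : Fintype.card K = 3 ^ (2 * m + 1)) {y : ↥(twistedG2 K e)} (hy : y ∈ C.E₀) : orderOf y ≠ 4 := by
  intro h4
  obtain ⟨ε, l, hl, rfl⟩ := C.mem_E₀.1 hy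
  have e1 : C.phiC (ε, l) ^ 2 = C.psiP (l ^ 2) := by
    have hsq : ∀ a : Multiplicative (ZMod 2), a * a = 1 := by decide
    rw [← map_pow]
    have : (ε, l) ^ 2 = ((1 : Multiplicative (ZMod 2)), l ^ 2) := by
      apply Prod.ext
      · show ε ^ 2 = 1
        rw [sq, hsq]
      · rfl
    rw [this, C.phiC_apply, map_one, one_mul]
  have hn2 : C.phiC (ε, l) ^ 2 ≠ 1 := by
    intro h
    have := orderOf_dvd_of_pow_eq_one h
    rw [h4] at this
    omega
  have hn4 : C.phiC (ε, l) ^ 4 = 1 := by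
    rw [← h4]
    exact pow_orderOf_eq_one _
  rw [e1] at hn2
  have e2 : C.phiC (ε, l) ^ 4 = C.psiP (l ^ 4) := by
    have : (4 : ℕ) = 2 * 2 := rfl
    rw [this, pow_mul, e1, ← map_pow, ← pow_mul]
  rw [e2] at hn4
  have hl2 : l ^ 2 ^ 1 ≠ 1 := by
    intro h
    apply hn2
    rw [pow_one] at h
    rw [h, map_one]
  have hl4 : l ^ 2 ^ (1 + 1) = 1 := by
    apply C.psiP_inj
    rw [map_one]
    exact hn4
  have ho := orderOf_eq_prime_pow (hp := ⟨Nat.prime_two⟩) hl2 hl4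
  have ho' : orderOf (⟨l, hl⟩ : Dbar K) = 2 ^ (1 + 1) := by
    rw [← ho]
    simp
  have hdv := orderOf_dvd_natCard (⟨l, hl⟩ : Dbar K)
  rw [ho'] at hdv
  have hc := card_Dbar C
  have := card_mod_eight (m := m)
  rw [hK] at hc
  have hdv' : 4 ∣ Nat.card (Dbar K) := by simpa using hdv
  omega

/-- The structure of the centraliser for primes dividing `q + 1`. -/
theorem RCtx.cent_plus (C : RCtx K e) {m : ℕ} (hK : Fintype.card K = 3 ^ (2 * m + 1)) {p : ℕ} (hp : p.Prime) (hp2 : p ≠ 2) (hd : p ∣ Fintype.card K + 1)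
    {x : ↥(twistedG2 K e)} (hx : x ^ p = 1) (h1 : x ≠ 1) :
    ∃ k : ↥(twistedG2 K e), k * x * k⁻¹ ∈ C.T₀ ∧ Subgroup.centralizer ({k * x * k⁻¹} : Set ↥(twistedG2 K e)) = C.E₀ := by
  obtain ⟨k, hk⟩ := C.conj_T₀ (n := 2 * m) hK hp hp2 hd hx
  refine ⟨k, hk, C.cent_T₀ hK hp hp2 hd hk ?_ ?_⟩
  · rw [conj_pow, hx]
    group
  · exact fun h => h1 (conj_eq_one_iff.1 h)

end ctx

end CfsgLib.Ree
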