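/-
The centralisers of cyclic subgroups of order `(q - 1)/2` and `(q + 1)/4` in the small Ree groups.
-/
import Cfsg.Agent.Lib.Ree.Cent2

set_option autoImplicit false
set_option synthInstance.maxHeartbeats 400000
set_option synthInstance.maxSize 1024

namespace CfsgLib.Ree

open Cfsg.Lie Cfsg.Lie.ChevalleyDatum CfsgLib.BN CfsgLib.Chev CfsgLib.H9.SL2Cl Matrix

/-- A common centraliser. -/
lemma cent_common {Γ : Type*} [Group Γ] [Finite Γ] {H : Subgroup Γ} (hH : IsCyclic H)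
    (hab : ∀ x ∈ H, ∀ p : ℕ, p.Prime → x ^ p = 1 → x ≠ 1 → ∀ y ∈ Subgroup.centralizer ({x} : Set Γ), ∀ z ∈ Subgroup.centralizer ({x} : Set Γ), y * z = z * y)
    {A : Subgroup Γ} (hA : A ≤ H) (hA1 : A ≠ ⊥) :
    ∃ x ∈ A, ∃ p : ℕ, p.Prime ∧ x ^ p = 1 ∧ x ≠ 1 ∧ Subgroup.centralizer (A : Set Γ) = Subgroup.centralizer ({x} : Set Γ) ∧
      Subgroup.centralizer (H : Set Γ) = Subgroup.centralizer ({x} : Set Γ) := by
  have hcard : Nat.card A ≠ 1 := fun h => hA1 (Subgroup.card_eq_one.1 h)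
  let p := (Nat.card A).minFac
  have hp : p.Prime := Nat.minFac_prime hcard
  haveI := Fact.mk hp
  obtain ⟨x, hx⟩ := exists_prime_orderOf_dvd_card' (G := A) p (Nat.minFac_dvd _)
  have hx1 : (x : Γ) ^ p = 1 := by
    have := pow_orderOf_eq_one x
    rw [hx] at this
    exact congrArg Subtype.val this
  have hx0 : (x : Γ) ≠ 1 := by
    intro h
    have : x = 1 := Subtype.ext h
    rw [this, orderOf_one] at hx
    exact hp.one_lt.ne hx
  have hxH : (x : Γ) ∈ H := hA x.2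
  have hcomm : ∀ a ∈ H, ∀ b ∈ H, a * b = b * a := by
    intro a ha b hb
    have := CfsgLib.Ree.cyc_comm_aux (⟨a, ha⟩ : H) ⟨b, hb⟩
    exact congrArg Subtype.val this
  have key : ∀ B : Subgroup Γ, B ≤ H → (x : Γ) ∈ B → Subgroup.centralizer (B : Set Γ) = Subgroup.centralizer ({(x : Γ)} : Set Γ) := by
    intro B hB hxB
    apply le_antisymm
    · exact Subgroup.centralizer_le (by simpa using hxB)
    · intro y hy
      rw [Subgroup.mem_centralizer_iff]
      intro b hb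
      have hb1 : b ∈ H := hB hb
      have hb2 : b ∈ Subgroup.centralizer ({(x : Γ)} : Set Γ) := by
        rw [Subgroup.mem_centralizer_singleton_iff]
        exact hcomm _ hb1 _ hxH
      exact hab _ hxH p hp hx1 hx0 b hb2 y hy
  exact ⟨x, x.2, p, hp, hx1, hx0, key A hA x.2, key H le_rfl hxH⟩

section ctx

variable {K : Type*} [Field K] [Fintype K] {e : ℕ} (C : RCtx K e)

/-- The centraliser of an element of odd prime order dividing `q + 1`. -/
theorem RCtx.cent_plus' (C : RCtx K e) {m : ℕ} (hK : Fintype.card K = 3 ^ (2 * m + 1)) {p : ℕ} (hp : p.Prime) (hp2 : p ≠ 2) (hd : p ∣ Fintype.card K + 1)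
    {x : ↥(twistedG2 K e)} (hx : x ^ p = 1) (h1 : x ≠ 1) :
    (∀ y ∈ Subgroup.centralizer ({x} : Set ↥(twistedG2 K e)), ∀ z ∈ Subgroup.centralizer ({x} : Set ↥(twistedG2 K e)), y * z = z * y) ∧
    Nat.card (Subgroup.centralizer ({x} : Set ↥(twistedG2 K e))) = Fintype.card K + 1 ∧
    ∀ y ∈ Subgroup.centralizer ({x} : Set ↥(twistedG2 K e)), orderOf y ≠ 4 := by
  obtain ⟨k, hk, hcent⟩ := C.cent_plus hK hp hp2 hd hx h1
  have hm : ∀ y ∈ Subgroup.centralizer ({x} : Set ↥(twistedG2 K e)), k * y * k⁻¹ ∈ C.E₀ := by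
    intro y hy
    rw [← hcent]
    exact mem_cent_conj.2 hy
  refine ⟨?_, ?_, ?_⟩
  · intro y hy z hz
    exact conj_comm' (C.E₀_comm _ (hm y hy) _ (hm z hz))
  · rw [Nat.card_congr (centConj k x).toEquiv, hcent, C.card_E₀]
  · intro y hy
    have := C.E₀_no_four hK (hm y hy)
    have e1 : k * y * k⁻¹ = MulAut.conj k y := rfl
    rw [e1, MulEquiv.orderOf_eq] at this
    exact this

/-- The centraliser for the split torus. -/
theorem RCtx.S2359_minus (C : RCtx K e) {m : ℕ} (hm : 1 ≤ m) (hK : Fintype.card K = 3 ^ (2 * m + 1)) (H : Subgroup ↥(twistedG2 K e)) (hH : IsCyclic H)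
    (hn : Nat.card H = (Fintype.card K - 1) / 2) :
    IsCyclic ↥(Subgroup.centralizer (H : Set ↥(twistedG2 K e))) ∧
      Nat.card ↥(Subgroup.centralizer (H : Set ↥(twistedG2 K e))) = Fintype.card K - 1 ∧
        ∀ A : Subgroup ↥(twistedG2 K e), A ≤ H → A ≠ ⊥ →
          Subgroup.centralizer (A : Set ↥(twistedG2 K e)) = Subgroup.centralizer (H : Set ↥(twistedG2 K e)) := by
  have h27 : 27 ≤ Fintype.card K := by
    rw [hK]
    calc 27 = 3 ^ 3 := by norm_num
      _ ≤ 3 ^ (2 * m + 1) := Nat.pow_le_pow_right (by norm_num) (by omega)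
  have h8 : Fintype.card K % 8 = 3 := by
    rw [hK]
    exact card_mod_eight
  have hpr : ∀ x ∈ H, ∀ p : ℕ, p.Prime → x ^ p = 1 → x ≠ 1 → p ∣ Fintype.card K - 1 ∧ p ≠ 2 := by
    intro x hx p hp hxp hx1
    haveI := Fact.mk hp
    have ho : orderOf (⟨x, hx⟩ : H) = p := by
      apply orderOf_eq_prime
      · exact Subtype.ext hxp
      · intro h
        exact hx1 (congrArg Subtype.val h)
    have hdv := orderOf_dvd_natCard (⟨x, hx⟩ : H)
    rw [ho, hn] at hdv
    have hodd : (Fintype.card K - 1) / 2 % 2 = 1 := by omega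
    constructor
    · exact hdv.trans (Nat.div_dvd_of_dvd (by omega))
    · rintro rfl
      omega
  have hab : ∀ x ∈ H, ∀ p : ℕ, p.Prime → x ^ p = 1 → x ≠ 1 → ∀ y ∈ Subgroup.centralizer ({x} : Set ↥(twistedG2 K e)), ∀ z ∈ Subgroup.centralizer ({x} : Set ↥(twistedG2 K e)), y * z = z * y := by
    intro x hx p hp hxp hx1 y hy z hz
    obtain ⟨h1, h2⟩ := hpr x hx p hp hxp hx1
    haveI := (C.cent_minus (n := 2 * m) hK hp h2 h1 hxp hx1).1
    have := CfsgLib.Ree.cyc_comm_aux (⟨y, hy⟩ : Subgroup.centralizer ({x} : Set ↥(twistedG2 K e))) ⟨z, hz⟩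
    exact congrArg Subtype.val this
  have hH1 : H ≠ ⊥ := by
    intro h
    rw [h, Subgroup.card_bot] at hn
    omega
  obtain ⟨x, hx, p, hp, hxp, hx1, -, hc⟩ := cent_common hH hab le_rfl hH1
  obtain ⟨h1, h2⟩ := hpr x hx p hp hxp hx1
  obtain ⟨a1, a2⟩ := C.cent_minus (n := 2 * m) hK hp h2 h1 hxp hx1
  refine ⟨?_, ?_, ?_⟩
  · rw [hc]
    exact a1
  · rw [hc]
    exact a2
  · intro A hA hA1
    obtain ⟨x', -, p', -, -, -, b1, b2⟩ := cent_common hH hab hA hA1
    rw [b1, b2]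

/-- The centraliser for the non-split torus. -/
theorem RCtx.S2359_plus (C : RCtx K e) {m : ℕ} (hm : 1 ≤ m) (hK : Fintype.card K = 3 ^ (2 * m + 1)) (H : Subgroup ↥(twistedG2 K e)) (hH : IsCyclic H)
    (hn : Nat.card H = (Fintype.card K + 1) / 4) :
    IsMulCommutative ↥(Subgroup.centralizer (H : Set ↥(twistedG2 K e))) ∧
      Nat.card ↥(Subgroup.centralizer (H : Set ↥(twistedG2 K e))) = Fintype.card K + 1 ∧
        (∀ x ∈ Subgroup.centralizer (H : Set ↥(twistedG2 K e)), orderOf x ≠ 4) ∧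
        ∀ A : Subgroup ↥(twistedG2 K e), A ≤ H → A ≠ ⊥ →
          Subgroup.centralizer (A : Set ↥(twistedG2 K e)) = Subgroup.centralizer (H : Set ↥(twistedG2 K e)) := by
  have h27 : 27 ≤ Fintype.card K := by
    rw [hK]
    calc 27 = 3 ^ 3 := by norm_num
      _ ≤ 3 ^ (2 * m + 1) := Nat.pow_le_pow_right (by norm_num) (by omega)
  have h8 : Fintype.card K % 8 = 3 := by
    rw [hK]
    exact card_mod_eight
  have hpr : ∀ x ∈ H, ∀ p : ℕ, p.Prime → x ^ p = 1 → x ≠ 1 → p ∣ Fintype.card K + 1 ∧ p ≠ 2 := by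
    intro x hx p hp hxp hx1
    haveI := Fact.mk hp
    have ho : orderOf (⟨x, hx⟩ : H) = p := by
      apply orderOf_eq_prime
      · exact Subtype.ext hxp
      · intro h
        exact hx1 (congrArg Subtype.val h)
    have hdv := orderOf_dvd_natCard (⟨x, hx⟩ : H)
    rw [ho, hn] at hdv
    have hodd : (Fintype.card K + 1) / 4 % 2 = 1 := by omega
    constructor
    · exact hdv.trans (Nat.div_dvd_of_dvd (by omega))
    · rintro rfl
      omega
  have hab : ∀ x ∈ H, ∀ p : ℕ, p.Prime → x ^ p = 1 → x ≠ 1 → ∀ y ∈ Subgroup.centralizer ({x} : Set ↥(twistedG2 K e)), ∀ z ∈ Subgroup.centralizer ({x} : Set ↥(twistedG2 K e)), y * z = z * y := by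
    intro x hx p hp hxp hx1 y hy z hz
    obtain ⟨h1, h2⟩ := hpr x hx p hp hxp hx1
    exact (C.cent_plus' hK hp h2 h1 hxp hx1).1 y hy z hz
  have hH1 : H ≠ ⊥ := by
    intro h
    rw [h, Subgroup.card_bot] at hn
    omega
  obtain ⟨x, hx, p, hp, hxp, hx1, -, hc⟩ := cent_common hH hab le_rfl hH1
  obtain ⟨h1, h2⟩ := hpr x hx p hp hxp hx1
  obtain ⟨a1, a2, a3⟩ := C.cent_plus' hK hp h2 h1 hxp hx1
  refine ⟨?_, ?_, ?_, ?_⟩
  · rw [hc]
    refine ⟨⟨fun a b => Subtype.ext (a1 _ a.2 _ b.2)⟩⟩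
  · rw [hc]
    exact a2
  · rw [hc]
    exact a3
  · intro A hA hA1
    obtain ⟨x', -, p', -, -, -, b1, b2⟩ := cent_common hH hab hA hA1
    rw [b1, b2]

end ctx

end CfsgLib.Ree
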