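/-
A general count of the conjugates of a subset with a stabiliser.
-/
import Mathlib

set_option autoImplicit false

namespace CfsgLib.Ree

/-- The elements conjugate into a set. -/
def conjOf {G : Type*} [Group G] (S : Set G) : Set G := {y | ∃ x : G, x⁻¹ * y * x ∈ S}

/-- Counting the elements conjugate into a subset all of whose elements determine a subgroup. -/
theorem conj_count {G : Type*} [Group G] [Finite G] (S : Set G) (N : Subgroup G)
    (h1 : ∀ a ∈ S, ∀ n ∈ N, n⁻¹ * a * n ∈ S)
    (h2 : ∀ a ∈ S, ∀ n : G, n⁻¹ * a * n ∈ S → n ∈ N) :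
    Nat.card (conjOf S) * Nat.card N = Nat.card G * Nat.card S := by
  classical
  haveI := Fintype.ofFinite G
  let R : G → G → Prop := fun x y => x⁻¹ * y * x ∈ S
  have hsum := Finset.sum_card_bipartiteAbove_eq_sum_card_bipartiteBelow (s := (Finset.univ : Finset G)) (t := (Finset.univ : Finset G)) R
  have hA : (Finset.univ.filter (fun a : G => a ∈ S)).card = Nat.card S := by
    rw [Nat.card_eq_fintype_card, Fintype.card_subtype]
  have hleft : ∀ x : G, ((Finset.univ : Finset G).bipartiteAbove R x).card = Nat.card S := by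
    intro x
    rw [← hA]
    apply Finset.card_bij (fun y _ => x⁻¹ * y * x)
    · intro y hy
      simp only [Finset.bipartiteAbove, Finset.mem_filter, Finset.mem_univ, true_and, R] at hy
      simp only [Finset.mem_filter, Finset.mem_univ, true_and]
      exact hy
    · intro y _ y' _ h
      have : x⁻¹ * y = x⁻¹ * y' := mul_right_cancel h
      exact mul_left_cancel this
    · intro a ha
      simp only [Finset.mem_filter, Finset.mem_univ, true_and] at ha
      refine ⟨x * a * x⁻¹, ?_, by group⟩
      simp only [Finset.bipartiteAbove, Finset.mem_filter, Finset.mem_univ, true_and, R]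
      have : x⁻¹ * (x * a * x⁻¹) * x = a := by group
      rw [this]
      exact ha
  have hcN : Nat.card N = (Finset.univ.filter (fun n : G => n ∈ N)).card := by
    rw [Nat.card_eq_fintype_card, Fintype.card_subtype]
  have hright : ∀ y : G, ((Finset.univ : Finset G).bipartiteBelow R y).card = if y ∈ conjOf S then Nat.card N else 0 := by
    intro y
    by_cases hy : y ∈ conjOf S
    · rw [if_pos hy]
      obtain ⟨x₀, hx₀⟩ := hy
      rw [hcN]
      apply Finset.card_bij (fun x _ => x₀⁻¹ * x)
      · intro x hx
        simp only [Finset.bipartiteBelow, Finset.mem_filter, Finset.mem_univ, true_and, R] at hx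
        simp only [Finset.mem_filter, Finset.mem_univ, true_and]
        apply h2 _ hx₀
        have : (x₀⁻¹ * x)⁻¹ * (x₀⁻¹ * y * x₀) * (x₀⁻¹ * x) = x⁻¹ * y * x := by group
        rw [this]
        exact hx
      · intro x _ x' _ h
        exact mul_left_cancel h
      · intro n hn
        simp only [Finset.mem_filter, Finset.mem_univ, true_and] at hn
        refine ⟨x₀ * n, ?_, by group⟩
        simp only [Finset.bipartiteBelow, Finset.mem_filter, Finset.mem_univ, true_and, R]
        have h3 := h1 _ hx₀ n hn
        have : (x₀ * n)⁻¹ * y * (x₀ * n) = n⁻¹ * (x₀⁻¹ * y * x₀) * n := by group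
        rw [this]
        exact h3
    · rw [if_neg hy, Finset.card_eq_zero, Finset.eq_empty_iff_forall_notMem]
      intro x hx
      simp only [Finset.bipartiteBelow, Finset.mem_filter, Finset.mem_univ, true_and, R] at hx
      exact hy ⟨x, hx⟩
  rw [Finset.sum_congr rfl (fun x _ => hleft x), Finset.sum_congr rfl (fun y _ => hright y)] at hsum
  rw [Finset.sum_const, smul_eq_mul, Finset.card_univ, Finset.sum_ite] at hsum
  simp only [Finset.sum_const, smul_eq_mul, mul_zero, add_zero] at hsum
  rw [Nat.card_eq_fintype_card (α := G), hsum]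
  congr 1
  rw [Nat.card_eq_fintype_card, Fintype.card_subtype]

/-- The order of a group acting freely divides the number of points. -/
lemma card_dvd_of_free {A Ω : Type*} [Group A] [Finite A] [MulAction A Ω] [Finite Ω] (hfree : ∀ (a : A) (x : Ω), a • x = x → a = 1) : Nat.card A ∣ Nat.card Ω := by
  classical
  haveI := Fintype.ofFinite Ω
  haveI := Fintype.ofFinite A
  have e := Nat.card_congr (MulAction.selfEquivSigmaOrbits A Ω)
  rw [Nat.card_sigma] at e
  rw [e]
  apply Finset.dvd_sum
  intro ω _
  have hst : MulAction.stabilizer A ((Quotient.out ω : Ω)) = ⊥ := by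
    rw [eq_bot_iff]
    intro a ha
    exact hfree a _ ha
  have h1 := MulAction.card_orbit_mul_card_stabilizer_eq_card_group A (Quotient.out ω : Ω)
  have h2 : Nat.card (MulAction.orbit A (Quotient.out ω : Ω)) = Nat.card A := by
    have e2 := Nat.card_congr (MulAction.orbitEquivQuotientStabilizer A (Quotient.out ω : Ω))
    rw [e2, hst]
    exact Nat.card_congr (QuotientGroup.quotientBot.toEquiv)
  exact dvd_of_eq h2.symm

/-- Conjugacy of subgroups: `B = x A x⁻¹`. -/
def ConjS {G : Type*} [Group G] (A B : Subgroup G) : Prop := ∃ x : G, ∀ y, y ∈ B ↔ x⁻¹ * y * x ∈ A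

lemma ConjS.refl {G : Type*} [Group G] (A : Subgroup G) : ConjS A A := ⟨1, fun y => by simp⟩

lemma ConjS.symm {G : Type*} [Group G] {A B : Subgroup G} (h : ConjS A B) : ConjS B A := by
  obtain ⟨x, hx⟩ := h
  refine ⟨x⁻¹, fun y => ?_⟩
  rw [hx]
  have : x⁻¹ * (x⁻¹⁻¹ * y * x⁻¹) * x = y := by group
  rw [this]

lemma ConjS.trans {G : Type*} [Group G] {A B C : Subgroup G} (h₁ : ConjS A B) (h₂ : ConjS B C) : ConjS A C := by
  obtain ⟨x, hx⟩ := h₁
  obtain ⟨x', hx'⟩ := h₂
  refine ⟨x' * x, fun y => ?_⟩
  rw [hx', hx]
  have : x⁻¹ * (x'⁻¹ * y * x') * x = (x' * x)⁻¹ * y * (x' * x) := by group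
  rw [this]

lemma ConjS.card_eq {G : Type*} [Group G] {A B : Subgroup G} (h : ConjS A B) : Nat.card A = Nat.card B := by
  obtain ⟨x, hx⟩ := h
  symm
  apply Nat.card_congr
  exact
    { toFun := fun y => ⟨x⁻¹ * y * x, (hx y).1 y.2⟩
      invFun := fun a => ⟨x * a * x⁻¹, (hx _).2 (by
        have : x⁻¹ * (x * (a : G) * x⁻¹) * x = a := by group
        rw [this]
        exact a.2)⟩
      left_inv := fun y => by
        apply Subtype.ext
        show x * (x⁻¹ * y * x) * x⁻¹ = y
        group
      right_inv := fun a => by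
        apply Subtype.ext
        show x⁻¹ * (x * a * x⁻¹) * x = a
        group }

end CfsgLib.Ree
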