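/-
The seven-dimensional representation of the small Ree groups in characteristic three: the span of the short root vectors
and one Cartan vector is invariant.
-/
import Cfsg.Agent.Lib.Ree.Cent3
import Cfsg.Agent.S1073

set_option autoImplicit false
set_option synthInstance.maxHeartbeats 400000
set_option synthInstance.maxSize 1024

namespace CfsgLib.Ree

open Cfsg.Lie Cfsg.Lie.ChevalleyDatum CfsgLib.BN CfsgLib.Chev Matrix

/-- Short roots. -/
def shortR (s : ℕ) : Bool := s == 2 || s == 3 || s == 4 || s == 7 || s == 8 || s == 9

/-- The seven coordinates. -/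
def J7 (i : chevG2.Idx) : Prop :=
  match i with
  | Sum.inl j => j.val = 0
  | Sum.inr s => shortR s.val = true

instance : DecidablePred J7 := fun i => by
  rcases i with j | s
  · exact inferInstanceAs (Decidable (j.val = 0))
  · exact inferInstanceAs (Decidable (shortR s.val = true))

lemma tab_cartan : ∀ r : Fin 12, shortR r.val = false → (3 : ℤ) ∣ (chevG2.cartanSR.getD 0 #[]).getD r.val 0 := by
  decide +kernel

lemma tab_coroot : ∀ r : Fin 12, shortR r.val = true → (3 : ℤ) ∣ (chevG2.coroot.getD r.val #[]).getD 1 0 := by
  decide +kernel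

lemma tab_chain : ∀ r s u : Fin 12, shortR s.val = true → shortR u.val = false → ∀ km ∈ chevG2.chainCoeff r.val s.val u.val, (3 : ℤ) ∣ km.2 := by
  decide +kernel

lemma tab_neg : ∀ r s : Fin 12, s.val = chevG2.negIdx.getD r.val 0 → shortR s.val = true → shortR r.val = true := by
  decide +kernel

section mats

variable {K : Type*} [Field K] [CharP K 3]

lemma int_cast_zero {c : ℤ} (h : (3 : ℤ) ∣ c) : (c : K) = 0 := by
  obtain ⟨d, rfl⟩ := h
  have h3 : (3 : K) = 0 := by
    have := CharP.cast_eq_zero K 3
    exact_mod_cast this
  push_cast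
  rw [h3, zero_mul]

/-- The invariance of the seven-dimensional subspace under root elements. -/
lemma xMat_J7 (r : Fin chevG2.nroots) (t : K) (row col : chevG2.Idx) (hc : J7 col) (hr : ¬ J7 row) : chevG2.xMat K r t row col = 0 := by
  rcases col with i | s
  · have hi : i.val = 0 := hc
    rcases row with i' | u
    · have hi' : ¬ i'.val = 0 := hr
      have hne : i' ≠ i := fun h => hi' (by rw [h, hi])
      simp [xMat, hne]
    · have hu : ¬ shortR u.val = true := hr
      have hu' : shortR u.val = false := by simpa using hu
      simp only [xMat, Matrix.of_apply]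
      by_cases h : u = r
      · subst h
        have : ((chevG2.cartanSR.getD i.val #[]).getD u.val 0 : ℤ) = (chevG2.cartanSR.getD 0 #[]).getD u.val 0 := by rw [hi]
        rw [if_pos rfl, this, int_cast_zero (tab_cartan u hu')]
        simp
      · rw [if_neg h]
  · have hs : shortR s.val = true := hc
    by_cases h1 : s = r
    · subst h1
      rcases row with i' | u
      · simp [xMat]
      · have hu : ¬ shortR u.val = true := hr
        have hne : u ≠ s := by
          rintro rfl
          exact hu hs
        simp [xMat, hne]
    · by_cases h2 : s.val = chevG2.negIdx.getD r.val 0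
      · have hrs : shortR r.val = true := tab_neg r s h2 hs
        rcases row with i' | u
        · have hi' : ¬ i'.val = 0 := hr
          have hi1 : i'.val = 1 := by
            have := i'.2
            have h3 : chevG2.rank = 2 := rfl
            omega
          simp only [xMat, Matrix.of_apply]
          rw [if_neg h1, if_pos h2, hi1, int_cast_zero (tab_coroot r hrs), zero_mul]
        · have hu : ¬ shortR u.val = true := hr
          have hne : u ≠ s := by
            rintro rfl
            exact hu hs
          have hne2 : u ≠ r := by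
            rintro rfl
            exact hu hrs
          simp only [xMat, Matrix.of_apply]
          rw [if_neg h1, if_pos h2, if_neg hne, if_neg hne2]
      · rcases row with i' | u
        · simp only [xMat, Matrix.of_apply]
          rw [if_neg h1, if_neg h2]
        · have hu : ¬ shortR u.val = true := hr
          have hu' : shortR u.val = false := by simpa using hu
          have hne : u ≠ s := by
            rintro rfl
            exact hu hs
          simp only [xMat, Matrix.of_apply]
          rw [if_neg h1, if_neg h2, if_neg hne, zero_add]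
          apply List.sum_eq_zero
          intro x hx
          obtain ⟨km, hkm, rfl⟩ := List.mem_map.1 hx
          rw [int_cast_zero (tab_chain r s u hs hu' km hkm), zero_mul]

/-- Preservation of the seven-dimensional subspace. -/
def JP (g : Matrix chevG2.Idx chevG2.Idx K) : Prop := ∀ row col, J7 col → ¬ J7 row → g row col = 0

lemma JP_one : JP (1 : Matrix chevG2.Idx chevG2.Idx K) := by
  intro row col hc hr
  apply Matrix.one_apply_ne
  rintro rfl
  exact hr hc

lemma JP_mul {g h : Matrix chevG2.Idx chevG2.Idx K} (hg : JP g) (hh : JP h) : JP (g * h) := by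
  intro row col hc hr
  rw [Matrix.mul_apply]
  apply Finset.sum_eq_zero
  intro k _
  by_cases hk : J7 k
  · rw [hg row k hk hr, zero_mul]
  · rw [hh k col hc hk, mul_zero]

lemma JP_x (r : ℕ) (t : K) : JP (chevG2.x K r t) := by
  unfold ChevalleyDatum.x
  split_ifs with h
  · exact fun row col hc hr => xMat_J7 _ t row col hc hr
  · exact JP_one

lemma JP_word (w : List (ℕ × K)) : JP (chevG2.wordMat K w) := by
  induction w with
  | nil => exact JP_one
  | cons a w ih =>
    have : chevG2.wordMat K (a :: w) = chevG2.x K a.1 a.2 * chevG2.wordMat K w := by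
      simp [ChevalleyDatum.wordMat]
    rw [this]
    exact JP_mul (JP_x _ _) ih

/-- The subgroup preserving the seven-dimensional subspace. -/
def JPsub (K : Type*) [Field K] [CharP K 3] [Finite K] : Subgroup (GL chevG2.Idx K) where
  carrier := {g | JP (g : Matrix chevG2.Idx chevG2.Idx K)}
  mul_mem' := fun {a b} ha hb => by
    show JP ((a * b : GL chevG2.Idx K) : Matrix chevG2.Idx chevG2.Idx K)
    rw [Units.val_mul]
    exact JP_mul ha hb
  one_mem' := JP_one
  inv_mem' := fun {a} ha => by
    classical
    show JP ((a⁻¹ : GL chevG2.Idx K) : Matrix chevG2.Idx chevG2.Idx K)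
    have hn : 0 < orderOf a := orderOf_pos a
    have e : a⁻¹ = a ^ (orderOf a - 1) := by
      apply inv_eq_of_mul_eq_one_right
      rw [← pow_succ', Nat.sub_add_cancel hn, pow_orderOf_eq_one]
    rw [e]
    have key : ∀ n : ℕ, JP ((a ^ n : GL chevG2.Idx K) : Matrix chevG2.Idx chevG2.Idx K) := by
      intro n
      induction n with
      | zero => simpa using JP_one
      | succ n ih =>
        rw [pow_succ, Units.val_mul]
        exact JP_mul ih ha
    exact key _

lemma twisted_le_JP [Finite K] (e : ℕ) : twistedG2 K e ≤ JPsub K := by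
  unfold twistedG2 genSubgroup
  rw [Subgroup.closure_le]
  rintro g ⟨w, -, hw⟩
  show JP (g : Matrix chevG2.Idx chevG2.Idx K)
  rw [hw]
  exact JP_word w

/-- The index type of the seven coordinates. -/
abbrev Idx7 := {i : chevG2.Idx // J7 i}

/-- Restriction. -/
def resM (g : Matrix chevG2.Idx chevG2.Idx K) : Matrix Idx7 Idx7 K := g.submatrix Subtype.val Subtype.val

lemma resM_one : resM (1 : Matrix chevG2.Idx chevG2.Idx K) = 1 := by
  unfold resM
  exact Matrix.submatrix_one _ Subtype.val_injective

lemma resM_mul {g h : Matrix chevG2.Idx chevG2.Idx K} (hh : JP h) : resM (g * h) = resM g * resM h := by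
  ext i j
  simp only [resM, Matrix.submatrix_apply, Matrix.mul_apply]
  have e1 : ∑ k : Idx7, g i.1 k.1 * h k.1 j.1 = ∑ k ∈ Finset.univ.filter J7, g i.1 k * h k j.1 := by
    symm
    apply Finset.sum_subtype
    simp
  rw [e1]
  symm
  apply Finset.sum_filter_of_ne
  intro k _ hk
  by_contra hk2
  exact hk (by rw [hh k j.1 j.2 hk2, mul_zero])

/-- The restriction homomorphism. -/
noncomputable def resHom [Finite K] : JPsub K →* GL Idx7 K where
  toFun g := ⟨resM (g.1 : Matrix chevG2.Idx chevG2.Idx K), resM ((g⁻¹).1 : Matrix chevG2.Idx chevG2.Idx K), by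
      rw [← resM_mul (g⁻¹).2]
      simp [resM_one], by
      rw [← resM_mul g.2]
      simp [resM_one]⟩
  map_one' := by
    apply Units.ext
    simp [resM_one]
  map_mul' := fun a b => by
    apply Units.ext
    simp only [Units.val_mul, Subgroup.coe_mul]
    exact resM_mul b.2

end mats

section ctx

variable {K : Type*} [Field K] [Fintype K] {e : ℕ} (C : RCtx K e)

/-- Seven-dimensional representation into `GL₇`. -/
noncomputable def RCtx.rho7 (C : RCtx K e) : ↥(twistedG2 K e) →* GL (Fin 7) K :=
  haveI := C.char
  let ε : Idx7 ≃ Fin 7 := Fintype.equivFinOfCardEq (by decide +kernel)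
  (Units.mapEquiv (Matrix.reindexAlgEquiv K K ε).toMulEquiv).toMonoidHom.comp
    (resHom.comp (Subgroup.inclusion (twisted_le_JP e)))

/-- The representation is not trivial. -/
lemma RCtx.rho7_ne_one (C : RCtx K e) : C.rho7 (C.rH (-1)) ≠ 1 := by
  haveI := C.char
  intro h
  have h1 : (resHom.comp (Subgroup.inclusion (twisted_le_JP e))) (C.rH (-1)) = (1 : GL Idx7 K) := by
    unfold RCtx.rho7 at h
    exact (map_eq_one_iff _ (Units.mapEquiv _).injective).1 h
  have h2 := congrArg (fun x : GL Idx7 K => (x : Matrix Idx7 Idx7 K) ⟨Sum.inr g2A', by decide +kernel⟩ ⟨Sum.inr g2A', by decide +kernel⟩) h1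
  obtain ⟨d, hd, -, hA⟩ := C.rH_spec (-1)
  have h3 := hd.col_eq g2A'
  rw [hA] at h3
  have h4 : ((C.rH (-1) : ↥(twistedG2 K e)) : GL chevG2.Idx K).1 (Sum.inr g2A') (Sum.inr g2A') = C.φ ((-1 : Kˣ) : K) := h3
  have h5 : ((C.rH (-1) : ↥(twistedG2 K e)) : GL chevG2.Idx K).1 (Sum.inr g2A') (Sum.inr g2A') = 1 := by
    simpa [resHom, resM] using h2
  rw [h5] at h4
  simp only [Units.val_neg, Units.val_one, map_neg, map_one] at h4
  exact C.neg_one_ne h4.symm

/-- The representation is faithful. -/
theorem RCtx.rho7_inj (C : RCtx K e) (hS : IsSimpleGroup ↥(twistedG2 K e)) : Function.Injective C.rho7 := by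
  rcases hS.eq_bot_or_eq_top_of_normal C.rho7.ker C.rho7.normal_ker with h | h
  · exact (MonoidHom.ker_eq_bot_iff _).1 h
  · exfalso
    have : C.rH (-1) ∈ C.rho7.ker := by
      rw [h]
      trivial
    exact C.rho7_ne_one this

end ctx

end CfsgLib.Ree
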