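/-
Singer cycles in `GL₆ × GL₁ ≤ GL₇` over a finite field: Sylow `p`-subgroups for `p ∣ q² - q + 1`.
-/
import Mathlib

set_option autoImplicit false

namespace CfsgLib.Ree.Sing7

open Matrix
open scoped Pointwise MatrixGroups

/-- A prime dividing `q² - q + 1`, other than `2`, `3`, does not divide the other factors of `|GL₇(q)|`. -/
lemma not_dvd_rest {p q : ℕ} (hp : p.Prime) (hp2 : p ≠ 2) (hp3 : p ≠ 3) (hq : 1 ≤ q) (hd : p ∣ q ^ 2 - q + 1) :
    ¬ p ∣ (q * q ^ 6) * ((q ^ 7 - 1) * (q ^ 7 - q ^ 2) * (q ^ 7 - q ^ 3) * (q ^ 7 - q ^ 4) * (q ^ 7 - q ^ 5)) := by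
  haveI := Fact.mk hp
  set x : ZMod p := (q : ZMod p) with hx
  have hq2 : q ≤ q ^ 2 := Nat.le_self_pow (by norm_num) q
  have h1 : x ^ 2 - x + 1 = 0 := by
    have : ((q ^ 2 - q + 1 : ℕ) : ZMod p) = 0 := (ZMod.natCast_eq_zero_iff _ _).2 hd
    rw [Nat.cast_add, Nat.cast_sub hq2] at this
    push_cast at this
    exact this
  have h2 : (2 : ZMod p) ≠ 0 := by
    intro h
    have h3 : ((2 : ℕ) : ZMod p) = 0 := by exact_mod_cast h
    have h4 := (ZMod.natCast_eq_zero_iff _ _).1 h3
    exact hp2 ((Nat.prime_dvd_prime_iff_eq hp Nat.prime_two).1 h4)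
  have h3 : (3 : ZMod p) ≠ 0 := by
    intro h
    have h3 : ((3 : ℕ) : ZMod p) = 0 := by exact_mod_cast h
    have h4 := (ZMod.natCast_eq_zero_iff _ _).1 h3
    exact hp3 ((Nat.prime_dvd_prime_iff_eq hp Nat.prime_three).1 h4)
  have hx0 : x ≠ 0 := by
    intro h
    rw [h] at h1
    simp at h1
  have hx1 : x - 1 ≠ 0 := by
    intro h
    have e : x = 1 := sub_eq_zero.1 h
    rw [e] at h1
    simp at h1
  have hxm : x + 1 ≠ 0 := by
    intro h
    have e : x = -1 := eq_neg_of_add_eq_zero_left h
    rw [e] at h1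
    apply h3
    linear_combination h1
  have c3 : x ^ 3 = -1 := by linear_combination (x + 1) * h1
  have c7 : x ^ 7 = x := by linear_combination (x ^ 4 - x) * c3
  have c4 : x ^ 4 = -x := by linear_combination x * c3
  have c5 : x ^ 5 = -x ^ 2 := by linear_combination x ^ 2 * c3
  have hle : ∀ k : ℕ, k ≤ 7 → q ^ k ≤ q ^ 7 := fun k hk => Nat.pow_le_pow_right hq hk
  have cast : ∀ k : ℕ, k ≤ 7 → p ∣ q ^ 7 - q ^ k → x ^ 7 - x ^ k = 0 := by
    intro k hk h
    have := (ZMod.natCast_eq_zero_iff _ _).2 h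
    rw [Nat.cast_sub (hle k hk)] at this
    push_cast at this
    exact this
  intro hdvd
  rcases (Nat.Prime.dvd_mul hp).1 hdvd with hdvd | hdvd
  · have hq0 : ¬ p ∣ q := by
      intro h
      exact hx0 ((ZMod.natCast_eq_zero_iff _ _).2 h)
    rcases (Nat.Prime.dvd_mul hp).1 hdvd with hdvd | hdvd
    · exact hq0 hdvd
    · exact hq0 (hp.dvd_of_dvd_pow hdvd)
  rcases (Nat.Prime.dvd_mul hp).1 hdvd with hdvd | hdvd
  · rcases (Nat.Prime.dvd_mul hp).1 hdvd with hdvd | hdvd
    · rcases (Nat.Prime.dvd_mul hp).1 hdvd with hdvd | hdvd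
      · rcases (Nat.Prime.dvd_mul hp).1 hdvd with hdvd | hdvd
        · have := cast 0 (by norm_num) (by simpa using hdvd)
          rw [c7] at this
          apply hx1
          simpa using this
        · have := cast 2 (by norm_num) hdvd
          rw [c7] at this
          apply hx1
          apply (mul_eq_zero.1 (show x * (x - 1) = 0 by linear_combination -this)).resolve_left hx0
      · have := cast 3 (by norm_num) hdvd
        rw [c7, c3] at this
        apply hxm
        linear_combination this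
    · have := cast 4 (by norm_num) hdvd
      rw [c7, c4] at this
      apply (mul_ne_zero h2 hx0)
      linear_combination this
  · have := cast 5 (by norm_num) hdvd
    rw [c7, c5] at this
    have e : x * (x + 1) = 0 := by linear_combination this
    exact (mul_ne_zero hx0 hxm) e

noncomputable section

variable {F E : Type*} [Field F] [Fintype F] [Field E] [Algebra F E] [Finite E] (b : Module.Basis (Fin 7) F (E × F))

/-- The Singer torus of `GL₇`. -/
def sing : (E × F)ˣ →* GL (Fin 7) F := Units.map (Algebra.leftMulMatrix b).toRingHom.toMonoidHom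

lemma sing_coe (u : (E × F)ˣ) : ((sing b u : GL (Fin 7) F) : Matrix (Fin 7) (Fin 7) F) = Algebra.leftMulMatrix b (u : E × F) := rfl

lemma sing_inj : Function.Injective (sing b) := by
  intro u v h
  apply Units.ext
  apply Algebra.leftMulMatrix_injective b
  rw [← sing_coe, ← sing_coe, h]

lemma card_E (hfin : Module.finrank F E = 6) : Nat.card E = (Fintype.card F) ^ 6 := by
  haveI : Module.Finite F E := Module.Finite.of_finite
  rw [Module.natCard_eq_pow_finrank (K := F), hfin, Nat.card_eq_fintype_card]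

lemma card_units_A (hfin : Module.finrank F E = 6) : Nat.card (E × F)ˣ = ((Fintype.card F) ^ 6 - 1) * (Fintype.card F - 1) := by
  rw [Nat.card_congr (MulEquiv.prodUnits (M := E) (N := F)).toEquiv, Nat.card_prod, Nat.card_units, Nat.card_units, card_E hfin, Nat.card_eq_fintype_card]

/-- The order of `GL₇`. -/
lemma card_GL7 : Nat.card (GL (Fin 7) F) = (((Fintype.card F) ^ 6 - 1) * (Fintype.card F - 1)) *
    ((Fintype.card F * Fintype.card F ^ 6) * ((Fintype.card F ^ 7 - 1) * (Fintype.card F ^ 7 - Fintype.card F ^ 2) * (Fintype.card F ^ 7 - Fintype.card F ^ 3) * (Fintype.card F ^ 7 - Fintype.card F ^ 4) * (Fintype.card F ^ 7 - Fintype.card F ^ 5))) := by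
  rw [Matrix.card_GL_field, Fin.prod_univ_seven]
  set q := Fintype.card F with hq
  have e1 : q ^ 7 - q = q * (q ^ 6 - 1) := by
    rw [Nat.mul_sub, mul_one]
    ring_nf
  have e2 : q ^ 7 - q ^ 6 = q ^ 6 * (q - 1) := by
    rw [Nat.mul_sub, mul_one]
    ring_nf
  simp only [Fin.val_zero, Fin.val_one, Fin.val_two, pow_zero, pow_one]
  show (q ^ 7 - 1) * (q ^ 7 - q) * (q ^ 7 - q ^ 2) * (q ^ 7 - q ^ 3) * (q ^ 7 - q ^ 4) * (q ^ 7 - q ^ 5) * (q ^ 7 - q ^ 6) = _
  rw [e1, e2]
  ring

instance finite_GL7 : Finite (GL (Fin 7) F) := by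
  classical
  infer_instance

/-- A `p`-subgroup of `GL₇(q)`, for `p ≠ 2, 3` dividing `q² - q + 1`, is conjugate into the Singer torus. -/
theorem exists_conj_mem_sing (hfin : Module.finrank F E = 6) {p : ℕ} [hp : Fact p.Prime] (hp2 : p ≠ 2) (hp3 : p ≠ 3) (hd : p ∣ Fintype.card F ^ 2 - Fintype.card F + 1) (P : Subgroup (GL (Fin 7) F)) (hP : IsPGroup p P) :
    ∃ g : GL (Fin 7) F, ∀ x ∈ P, g * x * g⁻¹ ∈ (sing b).range := by
  classical
  set q := Fintype.card F with hq
  have hq1 : 1 < q := Fintype.one_lt_card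
  have hne : ((q ^ 6 - 1) * (q - 1) : ℕ) ≠ 0 := by
    have h1 : 1 < q ^ 6 := Nat.one_lt_pow (by norm_num) hq1
    apply mul_ne_zero <;> omega
  have hrest := not_dvd_rest hp.out hp2 hp3 hq1.le hd
  have hne2 : (q * q ^ 6) * ((q ^ 7 - 1) * (q ^ 7 - q ^ 2) * (q ^ 7 - q ^ 3) * (q ^ 7 - q ^ 4) * (q ^ 7 - q ^ 5)) ≠ 0 := by
    intro h
    rw [h] at hrest
    exact hrest (dvd_zero _)
  let Q₀ : Sylow p (E × F)ˣ := default
  let Q : Subgroup (GL (Fin 7) F) := (Q₀ : Subgroup (E × F)ˣ).map (sing b)
  have hcQ : Nat.card Q = p ^ (Nat.card (GL (Fin 7) F)).factorization p := by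
    rw [Subgroup.card_map_of_injective (sing_inj b), Q₀.card_eq_multiplicity, card_units_A hfin, card_GL7,
      Nat.factorization_mul hne hne2]
    simp [Nat.factorization_eq_zero_of_not_dvd hrest]
    rfl
  let QS : Sylow p (GL (Fin 7) F) := Sylow.ofCard Q hcQ
  obtain ⟨R, hR⟩ := hP.exists_le_sylow
  obtain ⟨g, hg⟩ := MulAction.exists_smul_eq (GL (Fin 7) F) R QS
  refine ⟨g, fun x hx => ?_⟩
  have h1 : x ∈ R := hR hx
  have h2 : g * x * g⁻¹ ∈ ((g • R : Sylow p (GL (Fin 7) F)) : Subgroup (GL (Fin 7) F)) := by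
    rw [Sylow.coe_subgroup_smul]
    exact ⟨x, h1, rfl⟩
  rw [hg] at h2
  obtain ⟨u, -, hu⟩ := h2
  exact ⟨u, hu⟩

/-- The generation of the field by an element not in a proper subfield. -/
lemma adjoin_E (hfin : Module.finrank F E = 6) (u : E) (hu2 : u ^ (Fintype.card F ^ 2) ≠ u) (hu3 : u ^ (Fintype.card F ^ 3) ≠ u) :
    Algebra.adjoin F {u} = ⊤ := by
  haveI : Module.Finite F E := Module.Finite.of_finite
  have hint : IsIntegral F u := IsIntegral.of_finite F u
  set K : IntermediateField F E := IntermediateField.adjoin F {u} with hK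
  have pow_aux : ∀ d c : ℕ, u ^ (Fintype.card F ^ d) = u → u ^ (Fintype.card F ^ (d * c)) = u := by
    intro d c h
    induction c with
    | zero => simp
    | succ c ih =>
      rw [Nat.mul_succ, pow_add, pow_mul, ih, h]
  have hKtop : K = ⊤ := by
    have h1 := Module.finrank_mul_finrank F K E
    rw [hfin] at h1
    have hd : Module.finrank F K ∣ 6 := ⟨_, h1.symm⟩
    haveI : Finite K := Finite.of_injective (fun x : K => (x : E)) Subtype.val_injective
    haveI : Fintype K := Fintype.ofFinite K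
    have huK : u ∈ K := IntermediateField.mem_adjoin_simple_self F u
    have hcard : Fintype.card K = Fintype.card F ^ Module.finrank F K := by
      rw [← Nat.card_eq_fintype_card, Module.natCard_eq_pow_finrank (K := F), Nat.card_eq_fintype_card]
    have h5 := FiniteField.pow_card (⟨u, huK⟩ : K)
    rw [hcard] at h5
    have h6 : u ^ (Fintype.card F ^ Module.finrank F K) = u := congrArg Subtype.val h5
    have hle : Module.finrank F K ∣ 2 ∨ Module.finrank F K ∣ 3 ∨ Module.finrank F K = 6 := by
      have h7 : Module.finrank F K ≤ 6 := Nat.le_of_dvd (by norm_num) hd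
      generalize Module.finrank F K = d at hd h7
      interval_cases d <;> simp_all <;> omega
    rcases hle with hle | hle | h4
    · obtain ⟨c, hc⟩ := hle
      exact absurd (by rw [hc]; exact pow_aux _ c h6) hu2
    · obtain ⟨c, hc⟩ := hle
      exact absurd (by rw [hc]; exact pow_aux _ c h6) hu3
    · have : K.toSubalgebra.toSubmodule = ⊤ := by
        apply Submodule.eq_top_of_finrank_eq
        rw [hfin]
        exact h4
      rw [← IntermediateField.toSubalgebra_inj]
      apply Subalgebra.toSubmodule_injective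
      rw [this]
      rfl
  have h1 := IntermediateField.adjoin_simple_toSubalgebra_of_isAlgebraic (F := F) (α := u) hint.isAlgebraic
  rw [← h1, ← hK, hKtop]
  rfl

lemma aeval_fst (f : Polynomial F) (a : E × F) : (Polynomial.aeval a f).1 = Polynomial.aeval a.1 f :=
  (Polynomial.aeval_algHom_apply (AlgHom.fst F E F) a f).symm

lemma aeval_snd (f : Polynomial F) (a : E × F) : (Polynomial.aeval a f).2 = Polynomial.aeval a.2 f :=
  (Polynomial.aeval_algHom_apply (AlgHom.snd F E F) a f).symm

/-- The generation of the algebra. -/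
lemma adjoin_A (hfin : Module.finrank F E = 6) (u : E) (hu1 : u ≠ 1) (hu2 : u ^ (Fintype.card F ^ 2) ≠ u) (hu3 : u ^ (Fintype.card F ^ 3) ≠ u) :
    Algebra.adjoin F {((u, 1) : E × F)} = ⊤ := by
  have hE := adjoin_E hfin u hu2 hu3
  have hrep : ∀ x : E, ∃ f : Polynomial F, Polynomial.aeval u f = x := by
    intro x
    have hx : x ∈ Algebra.adjoin F {u} := by
      rw [hE]
      exact Algebra.mem_top
    rw [Algebra.adjoin_singleton_eq_range_aeval] at hx
    exact hx
  set B := Algebra.adjoin F {((u, 1) : E × F)} with hB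
  have ha : ((u, 1) : E × F) ∈ B := Algebra.subset_adjoin (Set.mem_singleton _)
  have hpol : ∀ f : Polynomial F, Polynomial.aeval ((u, 1) : E × F) f ∈ B := by
    intro f
    rw [hB, Algebra.adjoin_singleton_eq_range_aeval]
    exact ⟨f, rfl⟩
  have hne : u - 1 ≠ 0 := sub_ne_zero.2 hu1
  obtain ⟨f, hf⟩ := hrep (u - 1)⁻¹
  -- the idempotent
  have he1 : ((1, 0) : E × F) ∈ B := by
    have h1 := B.mul_mem (B.sub_mem ha (B.one_mem)) (hpol f)
    convert h1 using 1
    apply Prod.ext
    · show (1 : E) = (u - 1) * (Polynomial.aeval ((u, 1) : E × F) f).1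
      rw [aeval_fst]
      show (1 : E) = (u - 1) * Polynomial.aeval u f
      rw [hf, mul_inv_cancel₀ hne]
    · show (0 : F) = (1 - 1) * (Polynomial.aeval ((u, 1) : E × F) f).2
      simp
  have he2 : ((0, 1) : E × F) ∈ B := by
    have h1 := B.sub_mem B.one_mem he1
    convert h1 using 1
    apply Prod.ext
    · show (0 : E) = 1 - 1
      simp
    · show (1 : F) = 1 - 0
      simp
  rw [eq_top_iff]
  rintro ⟨x, c⟩ -
  obtain ⟨g, hg⟩ := hrep x
  have h1 := B.mul_mem (hpol g) he1
  have h2 := B.smul_mem he2 c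
  have h3 := B.add_mem h1 h2
  convert h3 using 1
  apply Prod.ext
  · show x = (Polynomial.aeval ((u, 1) : E × F) g).1 * 1 + c • (0 : E)
    rw [aeval_fst]
    show x = Polynomial.aeval u g * 1 + c • (0 : E)
    rw [hg]
    simp
  · show c = (Polynomial.aeval ((u, 1) : E × F) g).2 * 0 + c • (1 : F)
    simp

/-- Elements generating the algebra: the commutant of the multiplication by them is the algebra. -/
theorem comm_of_generator (hfin : Module.finrank F E = 6) (u : E) (hu1 : u ≠ 1) (hu2 : u ^ (Fintype.card F ^ 2) ≠ u) (hu3 : u ^ (Fintype.card F ^ 3) ≠ u) (W : Matrix (Fin 7) (Fin 7) F)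
    (hW : W * Algebra.leftMulMatrix b ((u, 1) : E × F) = Algebra.leftMulMatrix b ((u, 1) : E × F) * W) : ∃ w : E × F, W = Algebra.leftMulMatrix b w := by
  have hadj := adjoin_A hfin u hu1 hu2 hu3
  set T : (E × F) →ₗ[F] (E × F) := Matrix.toLin b b W with hT
  have hTW : LinearMap.toMatrix b b T = W := LinearMap.toMatrix_toLin b b W
  have hcomm : T ∘ₗ (LinearMap.mulLeft F ((u, 1) : E × F)) = (LinearMap.mulLeft F ((u, 1) : E × F)) ∘ₗ T := by
    apply (LinearMap.toMatrix b b).injective
    rw [LinearMap.toMatrix_comp b b b, LinearMap.toMatrix_comp b b b, hTW, Algebra.toMatrix_lmul_eq, hW]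
  have hu1' : ∀ x, T (((u, 1) : E × F) * x) = ((u, 1) : E × F) * T x := fun x => LinearMap.congr_fun hcomm x
  have hall : ∀ y : E × F, ∀ x : E × F, T (y * x) = y * T x := by
    intro y
    have hy : y ∈ Algebra.adjoin F {((u, 1) : E × F)} := by
      rw [hadj]
      exact Algebra.mem_top
    induction hy using Algebra.adjoin_induction with
    | mem a ha =>
      rw [Set.mem_singleton_iff] at ha
      subst ha
      exact hu1'
    | algebraMap r =>
      intro x
      rw [← Algebra.smul_def, ← Algebra.smul_def, map_smul]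
    | add a c _ _ ha hc =>
      intro x
      rw [add_mul, add_mul, map_add, ha, hc]
    | mul a c _ _ ha hc =>
      intro x
      rw [mul_assoc, ha, hc, mul_assoc]
  refine ⟨T 1, ?_⟩
  have hTeq : T = LinearMap.mulLeft F (T 1) := by
    ext x
    · have := hall (x, 0) 1
      rw [mul_one] at this
      simp only [LinearMap.coe_comp, LinearMap.coe_inl, Function.comp_apply, LinearMap.mulLeft_apply]
      rw [this, mul_comm]
    · have := hall (x, 0) 1
      rw [mul_one] at this
      simp only [LinearMap.coe_comp, LinearMap.coe_inl, Function.comp_apply, LinearMap.mulLeft_apply]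
      rw [this, mul_comm]
    · simp only [LinearMap.coe_comp, LinearMap.coe_inr, Function.comp_apply, LinearMap.mulLeft_apply, mul_one]
      have := hall (0, 1) 1
      rw [mul_one] at this
      rw [this, mul_comm]
    · simp only [LinearMap.coe_comp, LinearMap.coe_inr, Function.comp_apply, LinearMap.mulLeft_apply, mul_one]
      have := hall (0, 1) 1
      rw [mul_one] at this
      rw [this, mul_comm]
  rw [← hTW, ← Algebra.toMatrix_lmul_eq]
  conv_lhs => rw [hTeq]

/-- The first factor of the Singer torus. -/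
def pairU : Eˣ →* (E × F)ˣ := (MulEquiv.prodUnits (M := E) (N := F)).symm.toMonoidHom.comp (MonoidHom.inl Eˣ Fˣ)

lemma pairU_val (u : Eˣ) : ((pairU u : (E × F)ˣ) : E × F) = ((u : E), (1 : F)) := rfl

lemma pairU_inj : Function.Injective (pairU : Eˣ →* (E × F)ˣ) := by
  intro a b h
  have := congrArg (fun x : (E × F)ˣ => (x : E × F).1) h
  exact Units.ext this

/-- Polynomials and conjugation. -/
lemma aeval_conj (W : GL (Fin 7) F) (M : Matrix (Fin 7) (Fin 7) F) (g : Polynomial F) :
    Polynomial.aeval ((W : Matrix (Fin 7) (Fin 7) F) * M * ((W⁻¹ : GL (Fin 7) F) : Matrix (Fin 7) (Fin 7) F)) g =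
      (W : Matrix (Fin 7) (Fin 7) F) * Polynomial.aeval M g * ((W⁻¹ : GL (Fin 7) F) : Matrix (Fin 7) (Fin 7) F) := by
  induction g using Polynomial.induction_on' with
  | add p q hp hq =>
    simp only [map_add, hp, hq, mul_add, add_mul]
  | monomial n a =>
    rw [Polynomial.aeval_monomial, Polynomial.aeval_monomial, Units.conj_pow]
    simp only [Algebra.algebraMap_eq_smul_one, smul_mul_assoc, mul_smul_comm, one_mul]

/-- Conjugacy in `GL₇` of elements of the Singer cycle: they are Galois conjugate. -/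
theorem conj_root (hfin : Module.finrank F E = 6) (u v : Eˣ) (W : GL (Fin 7) F) (h : sing b (pairU v) = W * sing b (pairU u) * W⁻¹) (hv1 : v ≠ 1) :
    ∃ i : ℕ, i < 6 ∧ (v : E) = (u : E) ^ (Fintype.card F ^ i) := by
  classical
  haveI : Module.Finite F E := Module.Finite.of_finite
  have hint : IsIntegral F (u : E) := IsIntegral.of_finite F _
  set f := minpoly F (u : E) with hf
  set g : Polynomial F := f * (Polynomial.X - 1) with hg
  have h0 : Polynomial.aeval (((u : E), (1 : F)) : E × F) g = 0 := by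
    apply Prod.ext
    · rw [aeval_fst]
      show Polynomial.aeval (u : E) g = 0
      rw [hg, map_mul, hf, minpoly.aeval, zero_mul]
    · rw [aeval_snd]
      show Polynomial.aeval (1 : F) g = 0
      rw [hg, map_mul]
      simp
  have h1 : Polynomial.aeval (Algebra.leftMulMatrix b (((u : E), (1 : F)) : E × F)) g = 0 := by
    rw [Polynomial.aeval_algHom_apply, h0, map_zero]
  have h2 : Algebra.leftMulMatrix b (((v : E), (1 : F)) : E × F) = (W : Matrix (Fin 7) (Fin 7) F) * Algebra.leftMulMatrix b (((u : E), (1 : F)) : E × F) * ((W⁻¹ : GL (Fin 7) F) : Matrix (Fin 7) (Fin 7) F) := by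
    rw [← pairU_val, ← pairU_val, ← sing_coe, ← sing_coe, h, Units.val_mul, Units.val_mul]
  have h3 : Polynomial.aeval (Algebra.leftMulMatrix b (((v : E), (1 : F)) : E × F)) g = 0 := by
    rw [h2, aeval_conj, h1, mul_zero, zero_mul]
  have h4 : Polynomial.aeval (((v : E), (1 : F)) : E × F) g = 0 := by
    apply Algebra.leftMulMatrix_injective b
    rw [map_zero, ← h3, Polynomial.aeval_algHom_apply]
  have h5 : Polynomial.aeval (v : E) g = 0 := by
    have := congrArg Prod.fst h4
    rw [aeval_fst] at this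
    exact this
  rw [hg, map_mul] at h5
  have hv : (v : E) - 1 ≠ 0 := by
    intro h
    apply hv1
    apply Units.ext
    exact sub_eq_zero.1 h
  have h6 : Polynomial.aeval (v : E) f = 0 := by
    rcases mul_eq_zero.1 h5 with h7 | h7
    · exact h7
    · exfalso
      apply hv
      simpa using h7
  have hconj : IsConjRoot F (u : E) (v : E) := isConjRoot_of_aeval_eq_zero hint h6
  obtain ⟨σ, hσ⟩ := hconj.symm.exists_algEquiv
  obtain ⟨⟨i, hi⟩, hi2⟩ := (FiniteField.bijective_frobeniusAlgEquivOfAlgebraic_pow F E).2 σ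
  refine ⟨i, by rwa [hfin] at hi, ?_⟩
  rw [← hσ, ← hi2]
  simp only
  clear hi hi2
  induction i with
  | zero => simp
  | succ i ih =>
    rw [pow_succ', AlgEquiv.mul_apply, ih, FiniteField.coe_frobeniusAlgEquivOfAlgebraic]
    simp only
    rw [← pow_mul, pow_succ]

end

end CfsgLib.Ree.Sing7
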