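/-
The tori of order dividing `q² - q + 1` in the small Ree groups.
-/
import Cfsg.Agent.Lib.Ree.Rep7
import Cfsg.Agent.Lib.Ree.Singer7
import Cfsg.Agent.Lib.Ree.CountG

set_option autoImplicit false
set_option synthInstance.maxHeartbeats 400000
set_option synthInstance.maxSize 1024

namespace CfsgLib.Ree

open Cfsg.Lie Cfsg.Lie.ChevalleyDatum CfsgLib.BN CfsgLib.Chev Matrix CfsgLib.Ree.Sing7

/-- Arithmetic of primes dividing `q² - q + 1`. -/
lemma arith_O {n p : ℕ} (hp : p.Prime) (hd : p ∣ (3 ^ (n + 1)) ^ 2 - 3 ^ (n + 1) + 1) :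
    p ≠ 2 ∧ p ≠ 3 ∧ ¬ p ∣ 3 ^ (n + 1) ∧ ¬ p ∣ 3 ^ (n + 1) - 1 ∧ ¬ p ∣ 3 ^ (n + 1) + 1 := by
  have h1 : 1 ≤ 3 ^ n := Nat.one_le_pow _ _ (by norm_num)
  have e0 : 3 ^ (n + 1) = 3 * 3 ^ n := by rw [pow_succ]; ring
  obtain ⟨a, ha⟩ : ∃ a, 3 ^ n = a + 1 := ⟨3 ^ n - 1, by omega⟩
  have hq : 3 ^ (n + 1) = 3 * a + 3 := by rw [e0, ha]; ring
  have hodd : (3 ^ (n + 1)) % 2 = 1 := by
    have : (3 ^ (n + 1)) % 2 = 1 := by
      rw [Nat.pow_mod]
      simp
    exact this
  rw [hq] at hd hodd ⊢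
  have e1 : (3 * a + 3) ^ 2 - (3 * a + 3) + 1 = (3 * a + 2) * (3 * a + 3) + 1 := by
    have : (3 * a + 3) ^ 2 = (3 * a + 3) + ((3 * a + 2) * (3 * a + 3)) := by ring
    rw [this, Nat.add_sub_cancel_left]
  rw [e1] at hd
  have hp2 : p ≠ 2 := by
    rintro rfl
    have h2 : 2 ∣ (3 * a + 2) * (3 * a + 3) := by
      rcases Nat.even_or_odd a with h | h <;> obtain ⟨k, rfl⟩ := h
      · exact Dvd.dvd.mul_right (by omega) _
      · exact Dvd.dvd.mul_left (by omega) _
    have := (Nat.dvd_add_right h2).1 hd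
    omega
  have hp3 : p ≠ 3 := by
    rintro rfl
    have h2 : 3 ∣ (3 * a + 2) * (3 * a + 3) := Dvd.dvd.mul_left (by omega) _
    have := (Nat.dvd_add_right h2).1 hd
    omega
  refine ⟨hp2, hp3, ?_, ?_, ?_⟩
  · rw [← hq]
    exact arith_three hp hp3
  · intro h
    have e2 : 3 * a + 3 - 1 = 3 * a + 2 := by omega
    rw [e2] at h
    have := (Nat.dvd_add_right (Dvd.dvd.mul_right h _)).1 hd
    exact hp.one_lt.ne' (Nat.dvd_one.1 this)
  · intro h
    have h4 := (arith_plus (q := 3 * a + 3) hp hp2 hp3 h (by omega)).2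
    apply h4
    rw [e1]
    exact hd

lemma unit_pow_self {E : Type*} [Field E] {u : Eˣ} {p n : ℕ} (hp : p.Prime) (hu : u ^ p = 1) (hu1 : u ≠ 1) (hn : 1 ≤ n) (h : (u : E) ^ n = u) : p ∣ n - 1 := by
  haveI := Fact.mk hp
  have ho : orderOf u = p := orderOf_eq_prime hu hu1
  rw [← ho]
  apply orderOf_dvd_of_pow_eq_one
  have h1 : u ^ n = u := Units.ext (by simpa using h)
  have h3 : u ^ (n - 1) * u = u := by
    rw [← pow_succ, Nat.sub_add_cancel hn, h1]
  exact mul_eq_right.1 h3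

section ctx

variable {K : Type*} [Field K] [Fintype K] {e : ℕ} (C : RCtx K e)

/-- A field extension of degree six. -/
theorem RCtx.exists_ext (C : RCtx K e) : ∃ (E : Type) (_ : Field E) (_ : Algebra K E) (_ : Finite E), Module.finrank K E = 6 ∧ Nonempty (Module.Basis (Fin 7) K (E × K)) := by
  haveI := C.char
  haveI : Fact (Nat.Prime 3) := ⟨Nat.prime_three⟩
  refine ⟨FiniteField.Extension K 3 6, inferInstance, inferInstance, inferInstance, FiniteField.finrank_extension K 3 6, ⟨?_⟩⟩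
  refine Module.finBasisOfFinrankEq K _ ?_
  rw [Module.finrank_prod, FiniteField.finrank_extension]
  simp

/-- The second component of an element of order prime to `q - 1`. -/
lemma unit_split {E : Type*} [Field E] {a : (E × K)ˣ} {n : ℕ} (hn : Nat.Coprime n (Fintype.card K - 1)) (ha : a ^ n = 1) :
    ∃ u : Eˣ, a = pairU u ∧ u ^ n = 1 := by
  classical
  let a' := MulEquiv.prodUnits (M := E) (N := K) a
  have h1 : a' ^ n = 1 := by
    show (MulEquiv.prodUnits (M := E) (N := K) a) ^ n = 1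
    rw [← map_pow, ha, map_one]
  have h2 : a'.2 ^ n = 1 := congrArg Prod.snd h1
  have h3 : a'.2 ^ (Fintype.card K - 1) = 1 := by
    have := pow_card_eq_one' (x := a'.2)
    rw [Nat.card_units, Nat.card_eq_fintype_card] at this
    exact this
  have h4 : a'.2 = 1 := by
    have := pow_gcd_eq_one.2 ⟨h2, h3⟩
    rwa [hn, pow_one] at this
  refine ⟨a'.1, ?_, congrArg Prod.fst h1⟩
  apply (MulEquiv.prodUnits (M := E) (N := K)).injective
  show a' = (MulEquiv.prodUnits (M := E) (N := K)) ((MulEquiv.prodUnits (M := E) (N := K)).symm (a'.1, 1))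
  rw [MulEquiv.apply_symm_apply, ← h4]

/-- The conjugation into the Singer torus. -/
theorem RCtx.O_conj (C : RCtx K e) {E : Type} [Field E] [Algebra K E] [Finite E] (hfin : Module.finrank K E = 6) (b : Module.Basis (Fin 7) K (E × K))
    {n : ℕ} (hK : Fintype.card K = 3 ^ (n + 1)) {p : ℕ} (hp : p.Prime) (hd : p ∣ (Fintype.card K) ^ 2 - Fintype.card K + 1)
    (P : Subgroup ↥(twistedG2 K e)) (hP : IsPGroup p P) :
    ∃ h : GL (Fin 7) K, ∀ x ∈ P, h * C.rho7 x * h⁻¹ ∈ (sing b).range := by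
  haveI := Fact.mk hp
  have hd' := hd
  rw [hK] at hd'
  obtain ⟨h2, h3, -, -, -⟩ := arith_O hp hd'
  have hP' : IsPGroup p (P.map C.rho7) := hP.map _
  obtain ⟨h, hh⟩ := exists_conj_mem_sing b hfin h2 h3 hd _ hP'
  exact ⟨h, fun x hx => hh _ ⟨x, hx, rfl⟩⟩

/-- The structure of the centraliser of an element of order `p ∣ q² - q + 1`. -/
theorem RCtx.O_cent (C : RCtx K e) {E : Type} [Field E] [Algebra K E] [Finite E] (hfin : Module.finrank K E = 6) (b : Module.Basis (Fin 7) K (E × K))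
    {n : ℕ} (hK : Fintype.card K = 3 ^ (n + 1)) (hS : IsSimpleGroup ↥(twistedG2 K e)) {p : ℕ} (hp : p.Prime) (hd : p ∣ (Fintype.card K) ^ 2 - Fintype.card K + 1)
    {z : ↥(twistedG2 K e)} (hz : z ^ p = 1) (hz1 : z ≠ 1) :
    ∃ h : GL (Fin 7) K, ∀ y : ↥(twistedG2 K e), y * z = z * y → h * C.rho7 y * h⁻¹ ∈ (sing b).range := by
  classical
  haveI := Fact.mk hp
  have hd' := hd
  rw [hK] at hd'
  obtain ⟨h2, h3, a1, a2, a3⟩ := arith_O hp hd'
  rw [← hK] at a1 a2 a3
  have hP : IsPGroup p (Subgroup.zpowers z) := zpowers_isP (k := 1) (by rwa [pow_one])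
  obtain ⟨h, hh⟩ := C.O_conj hfin b hK hp hd _ hP
  refine ⟨h, ?_⟩
  obtain ⟨a, ha⟩ := hh z (Subgroup.mem_zpowers z)
  have hap : a ^ p = 1 := by
    apply sing_inj b
    rw [map_pow, ha, map_one, conj_pow, ← map_pow, hz, map_one]
    group
  have hcop : Nat.Coprime p (Fintype.card K - 1) := (Nat.Prime.coprime_iff_not_dvd hp).2 a2
  obtain ⟨u, rfl, hup⟩ := unit_split hcop hap
  have hu1 : u ≠ 1 := by
    rintro rfl
    rw [map_one, map_one] at ha
    have h1 : C.rho7 z = 1 := by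
      have h4 : h * C.rho7 z * h⁻¹ = 1 := ha.symm
      exact conj_eq_one_iff.1 h4
    exact hz1 (C.rho7_inj hS (by rw [h1, map_one]))
  have hq1 : 1 ≤ Fintype.card K := Fintype.card_pos
  have hu2 : (u : E) ^ (Fintype.card K ^ 2) ≠ u := by
    intro h4
    have h5 := unit_pow_self hp hup hu1 (Nat.one_le_pow _ _ hq1) h4
    have e1 : Fintype.card K ^ 2 - 1 = (Fintype.card K + 1) * (Fintype.card K - 1) := by
      have := Nat.sq_sub_sq (Fintype.card K) 1
      simpa using this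
    rw [e1] at h5
    rcases (Nat.Prime.dvd_mul hp).1 h5 with h6 | h6
    · exact a3 h6
    · exact a2 h6
  have hu3 : (u : E) ^ (Fintype.card K ^ 3) ≠ u := by
    intro h4
    have h5 := unit_pow_self hp hup hu1 (Nat.one_le_pow _ _ hq1) h4
    have h6 : p ∣ 1 + Fintype.card K ^ 3 := by
      rw [q_cube hq1]
      exact Dvd.dvd.mul_left hd _
    have h7 : 1 ≤ Fintype.card K ^ 3 := Nat.one_le_pow _ _ hq1
    have h8 : p ∣ 2 := by
      have e2 : 1 + Fintype.card K ^ 3 = (Fintype.card K ^ 3 - 1) + 2 := by omega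
      rw [e2] at h6
      exact (Nat.dvd_add_right h5).1 h6
    exact h2 ((Nat.prime_dvd_prime_iff_eq hp Nat.prime_two).1 h8)
  have hu1' : (u : E) ≠ 1 := fun h4 => hu1 (Units.ext h4)
  intro y hy
  set W : GL (Fin 7) K := h * C.rho7 y * h⁻¹ with hW
  have hcomm : W * sing b (pairU u) = sing b (pairU u) * W := by
    have hW' : W = h * C.rho7 y * h⁻¹ := rfl
    rw [ha, hW']
    calc h * C.rho7 y * h⁻¹ * (h * C.rho7 z * h⁻¹) = h * C.rho7 (y * z) * h⁻¹ := by rw [map_mul]; group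
      _ = h * C.rho7 (z * y) * h⁻¹ := by rw [hy]
      _ = _ := by rw [map_mul]; group
  have hcomm2 : W⁻¹ * sing b (pairU u) = sing b (pairU u) * W⁻¹ := by
    exact Commute.inv_left hcomm
  have hM : ∀ X : GL (Fin 7) K, X * sing b (pairU u) = sing b (pairU u) * X → (X : Matrix (Fin 7) (Fin 7) K) * Algebra.leftMulMatrix b (((u : E), (1 : K)) : E × K) = Algebra.leftMulMatrix b (((u : E), (1 : K)) : E × K) * (X : Matrix (Fin 7) (Fin 7) K) := by
    intro X hX
    have := congrArg (fun x : GL (Fin 7) K => (x : Matrix (Fin 7) (Fin 7) K)) hX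
    simpa [Units.val_mul, sing_coe, pairU_val] using this
  obtain ⟨w, hw⟩ := comm_of_generator b hfin (u : E) hu1' hu2 hu3 _ (hM W hcomm)
  obtain ⟨w', hw'⟩ := comm_of_generator b hfin (u : E) hu1' hu2 hu3 _ (hM W⁻¹ hcomm2)
  have e1 : w * w' = 1 := by
    apply Algebra.leftMulMatrix_injective b
    rw [map_mul, map_one, ← hw, ← hw', ← Units.val_mul, mul_inv_cancel, Units.val_one]
  refine ⟨⟨w, w', e1, by rw [mul_comm]; exact e1⟩, ?_⟩
  apply Units.ext
  rw [sing_coe]
  exact hw.symm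

/-- Elements of order `p ∣ q² - q + 1` have abelian centralisers. -/
theorem RCtx.O_comm (C : RCtx K e) {n : ℕ} (hK : Fintype.card K = 3 ^ (n + 1)) (hS : IsSimpleGroup ↥(twistedG2 K e)) {p : ℕ} (hp : p.Prime) (hd : p ∣ (Fintype.card K) ^ 2 - Fintype.card K + 1)
    {z y y' : ↥(twistedG2 K e)} (hz : z ^ p = 1) (hz1 : z ≠ 1) (hy : y * z = z * y) (hy' : y' * z = z * y') : y * y' = y' * y := by
  obtain ⟨E, _, _, _, hfin, ⟨b⟩⟩ := C.exists_ext
  obtain ⟨h, hh⟩ := C.O_cent hfin b hK hS hp hd hz hz1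
  obtain ⟨a, ha⟩ := hh y hy
  obtain ⟨a', ha'⟩ := hh y' hy'
  apply C.rho7_inj hS
  rw [map_mul, map_mul]
  have e1 : C.rho7 y = h⁻¹ * sing b a * h := by rw [ha]; group
  have e2 : C.rho7 y' = h⁻¹ * sing b a' * h := by rw [ha']; group
  rw [e1, e2]
  have e3 : sing b a * sing b a' = sing b a' * sing b a := by
    rw [← map_mul, ← map_mul, mul_comm]
  calc h⁻¹ * sing b a * h * (h⁻¹ * sing b a' * h) = h⁻¹ * (sing b a * sing b a') * h := by group
    _ = h⁻¹ * (sing b a' * sing b a) * h := by rw [e3]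
    _ = _ := by group

/-- A `p`-subgroup for `p ∣ q² - q + 1` is cyclic. -/
theorem RCtx.O_pgroup_cyclic (C : RCtx K e) {n : ℕ} (hK : Fintype.card K = 3 ^ (n + 1)) (hS : IsSimpleGroup ↥(twistedG2 K e)) {p : ℕ} (hp : p.Prime) (hd : p ∣ (Fintype.card K) ^ 2 - Fintype.card K + 1)
    (P : Subgroup ↥(twistedG2 K e)) (hP : IsPGroup p P) : IsCyclic P := by
  classical
  obtain ⟨E, _, _, _, hfin, ⟨b⟩⟩ := C.exists_ext
  obtain ⟨h, hh⟩ := C.O_conj hfin b hK hp hd P hP
  have hd' := hd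
  rw [hK] at hd'
  obtain ⟨-, -, -, a2, -⟩ := arith_O hp hd'
  rw [← hK] at a2
  choose f hf using fun x : P => hh x x.2
  have hfu : ∀ x : P, ∃ u : Eˣ, f x = pairU u := by
    intro x
    obtain ⟨k, hk⟩ := hP x
    have hk' : (x : ↥(twistedG2 K e)) ^ p ^ k = 1 := congrArg Subtype.val hk
    have h1 : (f x) ^ p ^ k = 1 := by
      apply sing_inj b
      rw [map_pow, hf, map_one, conj_pow, ← map_pow, hk', map_one]
      group
    obtain ⟨u, hu, -⟩ := unit_split (Nat.Coprime.pow_left _ ((Nat.Prime.coprime_iff_not_dvd hp).2 a2)) h1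
    exact ⟨u, hu⟩
  choose g hg using hfu
  have hsg : ∀ x : P, sing b (pairU (g x)) = h * C.rho7 x * h⁻¹ := by
    intro x
    rw [← hg, hf]
  let φ : P →* Eˣ :=
    { toFun := g
      map_one' := by
        apply pairU_inj (F := K)
        apply sing_inj b
        rw [hsg]
        simp
      map_mul' := fun x y => by
        apply pairU_inj (F := K)
        apply sing_inj b
        rw [map_mul, map_mul, hsg, hsg, hsg]
        simp only [Subgroup.coe_mul, map_mul]
        group }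
  have hφ : Function.Injective φ := by
    intro x y hxy
    have h1 : g x = g y := hxy
    have h2 := hsg x
    rw [h1, hsg y] at h2
    apply Subtype.ext
    apply C.rho7_inj hS
    exact (mul_left_cancel (mul_right_cancel h2)).symm
  exact isCyclic_of_injective φ hφ

end ctx

end CfsgLib.Ree
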