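/-
The tori of order dividing `q² - q + 1` in the small Ree groups: structure.
-/
import Cfsg.Agent.Lib.Ree.TorusO

set_option autoImplicit false
set_option synthInstance.maxHeartbeats 400000
set_option synthInstance.maxSize 1024

namespace CfsgLib.Ree

open Cfsg.Lie Cfsg.Lie.ChevalleyDatum CfsgLib.BN CfsgLib.Chev Matrix CfsgLib.Ree.Sing7

section general

variable {Γ : Type*} [Group Γ] [Finite Γ]

/-- A `p`-subgroup is conjugate into a subgroup of index prime to `p`. -/
theorem pgroup_conj_of_index {p : ℕ} [Fact p.Prime] (H : Subgroup Γ) (hidx : ¬ p ∣ H.index) (P : Subgroup Γ) (hP : IsPGroup p P) :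
    ∃ g : Γ, ∀ x ∈ P, g * x * g⁻¹ ∈ H := by
  classical
  have hPH : ∃ Q : Sylow p Γ, (Q : Subgroup Γ) ≤ H := by
    let P₁ : Sylow p H := default
    have hU : IsPGroup p ((P₁ : Subgroup H).map H.subtype) := P₁.isPGroup'.map _
    obtain ⟨Q, hQ⟩ := hU.exists_le_sylow
    refine ⟨Q, ?_⟩
    have hc1 : Nat.card ((P₁ : Subgroup H).map H.subtype) = p ^ (Nat.card H).factorization p := by
      rw [Subgroup.card_map_of_injective H.subtype_injective, P₁.card_eq_multiplicity]
    have hc2 : Nat.card Q = p ^ (Nat.card Γ).factorization p := Q.card_eq_multiplicity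
    have hm : Nat.card Γ = Nat.card H * H.index := (Subgroup.card_mul_index H).symm
    have hpos1 : Nat.card H ≠ 0 := Nat.card_pos.ne'
    have hpos2 : H.index ≠ 0 := by
      intro h
      apply hidx
      rw [h]
      exact dvd_zero _
    have hf : (Nat.card Γ).factorization p = (Nat.card H).factorization p := by
      rw [hm, Nat.factorization_mul hpos1 hpos2]
      simp [Nat.factorization_eq_zero_of_not_dvd hidx]
    have : ((P₁ : Subgroup H).map H.subtype) = (Q : Subgroup Γ) := by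
      apply Subgroup.eq_of_le_of_card_ge hQ
      rw [hc1]
      show Nat.card (Q : Subgroup Γ) ≤ _
      have hc3 : Nat.card (Q : Subgroup Γ) = p ^ (Nat.card Γ).factorization p := hc2
      rw [hc3, hf]
    rw [← this]
    exact Subgroup.map_subtype_le _
  obtain ⟨Q, hQ⟩ := hPH
  obtain ⟨R, hR⟩ := hP.exists_le_sylow
  obtain ⟨g, hg⟩ := MulAction.exists_smul_eq Γ R Q
  refine ⟨g, fun x hx => hQ ?_⟩
  have h2 : g * x * g⁻¹ ∈ ((g • R : Sylow p Γ) : Subgroup Γ) := by
    rw [Sylow.coe_subgroup_smul]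
    exact ⟨x, hR hx, rfl⟩
  rw [hg] at h2
  exact h2

/-- A `p`-subgroup is cyclic when there is a cyclic subgroup of index prime to `p`. -/
theorem pgroup_cyclic_of_index {p : ℕ} [Fact p.Prime] (H : Subgroup Γ) [IsCyclic H] (hidx : ¬ p ∣ H.index) (P : Subgroup Γ) (hP : IsPGroup p P) : IsCyclic P := by
  obtain ⟨g, hg⟩ := pgroup_conj_of_index H hidx P hP
  let φ : P →* H :=
    { toFun := fun x => ⟨g * x * g⁻¹, hg x x.2⟩
      map_one' := by
        apply Subtype.ext
        simp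
      map_mul' := fun x y => by
        apply Subtype.ext
        show g * ((x : Γ) * y) * g⁻¹ = (g * x * g⁻¹) * (g * y * g⁻¹)
        group }
  refine isCyclic_of_injective φ ?_
  intro x y h
  have h1 : g * (x : Γ) * g⁻¹ = g * y * g⁻¹ := congrArg Subtype.val h
  exact Subtype.ext (mul_left_cancel (mul_right_cancel h1))

end general

section ctx

variable {K : Type*} [Field K] [Fintype K] {e : ℕ} (C : RCtx K e)

/-- The cyclic subgroup `H¹` and its index. -/
lemma RCtx.index_H₀ (C : RCtx K e) {n : ℕ} (hK : Fintype.card K = 3 ^ (n + 1)) :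
    C.rH.range.index = Fintype.card K ^ 3 * (1 + Fintype.card K ^ 3) := by
  have h1 := Subgroup.card_mul_index C.rH.range
  have hcard : Nat.card C.rH.range = Fintype.card K - 1 := by
    rw [← C.card_units]
    exact Nat.card_congr (MonoidHom.ofInjective C.rH_inj).symm.toEquiv
  rw [hcard, C.card_G] at h1
  have hq3 : 3 ≤ Fintype.card K := by
    rw [hK, pow_succ]
    have := Nat.one_le_pow n 3 (by norm_num)
    omega
  have h3 : 0 < Fintype.card K - 1 := by omega
  apply Nat.eq_of_mul_eq_mul_left h3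
  rw [h1]
  ring

/-- Sylow subgroups for primes greater than three are cyclic. -/
theorem RCtx.sylow_cyclic (C : RCtx K e) {n : ℕ} (hK : Fintype.card K = 3 ^ (n + 1)) (hS : IsSimpleGroup ↥(twistedG2 K e)) {p : ℕ} [hp : Fact p.Prime] (h3 : 3 < p)
    (P : Subgroup ↥(twistedG2 K e)) (hP : IsPGroup p P) : IsCyclic P := by
  have hq3 : 3 ≤ Fintype.card K := by
    rw [hK, pow_succ]
    have := Nat.one_le_pow n 3 (by norm_num)
    omega
  have hq1 : 1 ≤ Fintype.card K := by omega
  have hp3 : p ≠ 3 := by omega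
  have hp2 : p ≠ 2 := by omega
  have hpq : ¬ p ∣ Fintype.card K := by
    rw [hK]
    exact arith_three hp.out hp3
  by_cases h1 : p ∣ Fintype.card K - 1
  · haveI : IsCyclic C.rH.range := isCyclic_of_surjective C.rH.rangeRestrict C.rH.rangeRestrict_surjective
    obtain ⟨a1, a2⟩ := arith_minus hp.out hp2 h1 hq3
    refine pgroup_cyclic_of_index C.rH.range ?_ P hP
    rw [C.index_H₀ hK, q_cube hq1]
    intro h
    rcases (Nat.Prime.dvd_mul hp.out).1 h with h | h
    · exact hpq (hp.out.dvd_of_dvd_pow h)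
    rcases (Nat.Prime.dvd_mul hp.out).1 h with h | h
    · exact a1 h
    · exact a2 h
  by_cases h2 : p ∣ Fintype.card K + 1
  · haveI := Dbar_cyclic C
    haveI : IsCyclic C.T₀ := by
      unfold RCtx.T₀
      exact isCyclic_of_surjective (C.psiP.subgroupMap (Dbar K)) (C.psiP.subgroupMap_surjective (Dbar K))
    obtain ⟨a1, a2⟩ := arith_plus hp.out hp2 hp3 h2 hq3
    refine pgroup_cyclic_of_index C.T₀ ?_ P hP
    rw [C.index_T₀ hK]
    intro h
    rcases (Nat.Prime.dvd_mul hp.out).1 h with h | h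
    · exact hp2 ((Nat.prime_dvd_prime_iff_eq hp.out Nat.prime_two).1 h)
    rcases (Nat.Prime.dvd_mul hp.out).1 h with h | h
    · rcases (Nat.Prime.dvd_mul hp.out).1 h with h | h
      · exact hpq (hp.out.dvd_of_dvd_pow h)
      · exact h1 h
    · exact a2 h
  by_cases h4 : p ∣ Fintype.card K ^ 2 - Fintype.card K + 1
  · exact C.O_pgroup_cyclic hK hS hp.out h4 P hP
  · -- the group is prime to `p`
    have hbot : P = ⊥ := by
      obtain ⟨Q, hQ⟩ := hP.exists_le_sylow
      have hc : Nat.card Q = 1 := by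
        have hd : ¬ p ∣ Nat.card ↥(twistedG2 K e) := by
          rw [C.card_G, q_cube hq1]
          intro h
          rcases (Nat.Prime.dvd_mul hp.out).1 h with h | h
          · rcases (Nat.Prime.dvd_mul hp.out).1 h with h | h
            · exact hpq (hp.out.dvd_of_dvd_pow h)
            · exact h1 h
          rcases (Nat.Prime.dvd_mul hp.out).1 h with h | h
          · exact h2 h
          · exact h4 h
        rw [Q.card_eq_multiplicity, Nat.factorization_eq_zero_of_not_dvd hd, pow_zero]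
      have hb : (Q : Subgroup ↥(twistedG2 K e)) = ⊥ := Subgroup.card_eq_one.1 hc
      rw [hb] at hQ
      exact le_bot_iff.1 hQ
    rw [hbot]
    exact isCyclic_of_subsingleton

/-- An involution has a fixed point. -/
theorem RCtx.invol_has_fix (C : RCtx K e) {t : ↥(twistedG2 K e)} (ht : t * t = 1) (ht1 : t ≠ 1) : ∃ w : Pts K e, t • w = w := by
  obtain ⟨k, hk⟩ := isConj_iff.1 (C.invol_conj ht ht1)
  refine ⟨k • ptI, ?_⟩
  have : C.aI • (ptI : Pts K e) = ptI := C.rH_smul_ptI _
  rw [← hk, mul_smul, mul_smul, inv_smul_smul, this]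

/-- The order of the centraliser of an involution. -/
theorem RCtx.cent_invol_card (C : RCtx K e) {t : ↥(twistedG2 K e)} (ht : t * t = 1) (ht1 : t ≠ 1) :
    Nat.card (Subgroup.centralizer ({t} : Set ↥(twistedG2 K e))) = Fintype.card K * (Fintype.card K ^ 2 - 1) := by
  obtain ⟨k, hk⟩ := isConj_iff.1 (C.invol_conj ht ht1)
  rw [← hk, ← Nat.card_congr (centConj k C.aI).toEquiv]
  exact C.card_cent

/-- An order-`p` element has no fixed point, for `p ∣ q² - q + 1`. -/
theorem RCtx.O_fpf (C : RCtx K e) {n : ℕ} (hK : Fintype.card K = 3 ^ (n + 1)) {p : ℕ} (hp : p.Prime) (hd : p ∣ (Fintype.card K) ^ 2 - Fintype.card K + 1)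
    {z : ↥(twistedG2 K e)} (hz : z ^ p = 1) (hz1 : z ≠ 1) (w : Pts K e) : z • w ≠ w := by
  have hd' := hd
  rw [hK] at hd'
  obtain ⟨h2, h3, a1, a2, a3⟩ := arith_O hp hd'
  rw [← hK] at a1 a2 a3
  refine C.no_fix hp ?_ hz hz1 w
  intro h
  rcases (Nat.Prime.dvd_mul hp).1 h with h | h
  · exact a1 (hp.dvd_of_dvd_pow h)
  · exact a2 h

/-- Elements commuting with such an element have no fixed points. -/
theorem RCtx.O_comm_fpf (C : RCtx K e) {n : ℕ} (hK : Fintype.card K = 3 ^ (n + 1)) {p : ℕ} (hp : p.Prime) (hd : p ∣ (Fintype.card K) ^ 2 - Fintype.card K + 1)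
    {z y : ↥(twistedG2 K e)} (hz : z ^ p = 1) (hz1 : z ≠ 1) (hy : y * z = z * y) (hy1 : y ≠ 1) (w : Pts K e) : y • w ≠ w := by
  have hd' := hd
  rw [hK] at hd'
  obtain ⟨h2, h3, a1, a2, a3⟩ := arith_O hp hd'
  rw [← hK] at a1 a2 a3
  intro hw
  have hodd := hp.odd_of_ne_two h2
  have hzz : (z * z) ^ p = 1 := by
    rw [← sq, ← pow_mul, mul_comm, pow_mul, hz, one_pow]
  have hzz1 : z * z ≠ 1 := fun h => hz1 (eq_one_of_sq_odd hodd h hz)
  have f1 : z • w ≠ w := C.O_fpf hK hp hd hz hz1 w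
  have f2 : (z * z) • w ≠ w := C.O_fpf hK hp hd hzz hzz1 w
  have f3 : (z * z) • w ≠ z • w := by
    rw [mul_smul]
    intro h
    exact f1 (smul_left_cancel z h)
  have fix : ∀ x : ↥(twistedG2 K e), x * y = y * x → y • (x • w) = x • w := by
    intro x hx
    rw [← mul_smul, ← hx, mul_smul, hw]
  have hinv := C.invol_of_three f1.symm f2.symm f3.symm hw (fix z hy.symm) (fix (z * z) (by
    rw [mul_assoc, ← hy, ← mul_assoc, ← hy, mul_assoc]))
  have hc := C.cent_invol_card hinv hy1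
  have hmem : z ∈ Subgroup.centralizer ({y} : Set ↥(twistedG2 K e)) := Subgroup.mem_centralizer_singleton_iff.2 hy.symm
  haveI := Fact.mk hp
  have ho : orderOf (⟨z, hmem⟩ : Subgroup.centralizer ({y} : Set ↥(twistedG2 K e))) = p := by
    apply orderOf_eq_prime
    · exact Subtype.ext hz
    · intro h
      exact hz1 (congrArg Subtype.val h)
  have hdv := orderOf_dvd_natCard (⟨z, hmem⟩ : Subgroup.centralizer ({y} : Set ↥(twistedG2 K e)))
  rw [ho, hc] at hdv
  have e1 : Fintype.card K ^ 2 - 1 = (Fintype.card K + 1) * (Fintype.card K - 1) := by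
    have := Nat.sq_sub_sq (Fintype.card K) 1
    simpa using this
  rw [e1] at hdv
  rcases (Nat.Prime.dvd_mul hp).1 hdv with h | h
  · exact a1 h
  rcases (Nat.Prime.dvd_mul hp).1 h with h | h
  · exact a3 h
  · exact a2 h

/-- The order of the centraliser of such an element divides `q² - q + 1`. -/
theorem RCtx.O_card_dvd (C : RCtx K e) {m : ℕ} (hK : Fintype.card K = 3 ^ (2 * m + 1)) {p : ℕ} (hp : p.Prime) (hd : p ∣ (Fintype.card K) ^ 2 - Fintype.card K + 1)
    {z : ↥(twistedG2 K e)} (hz : z ^ p = 1) (hz1 : z ≠ 1) :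
    Nat.card (Subgroup.centralizer ({z} : Set ↥(twistedG2 K e))) ∣ (Fintype.card K) ^ 2 - Fintype.card K + 1 := by
  classical
  have hd' := hd
  rw [hK] at hd'
  obtain ⟨h2, h3, a1, a2, a3⟩ := arith_O hp hd'
  rw [← hK] at a1 a2 a3
  have hq1 : 1 ≤ Fintype.card K := Fintype.card_pos
  have hfree : ∀ (a : Subgroup.centralizer ({z} : Set ↥(twistedG2 K e))) (x : Pts K e), a • x = x → a = 1 := by
    intro a x hx
    by_contra ha
    have ha1 : (a : ↥(twistedG2 K e)) ≠ 1 := fun h => ha (Subtype.ext h)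
    exact C.O_comm_fpf (n := 2 * m) hK hp hd hz hz1 (Subgroup.mem_centralizer_singleton_iff.1 a.2) ha1 x hx
  have h1 := card_dvd_of_free hfree
  rw [C.card_pts, add_comm, q_cube hq1] at h1
  refine Nat.Coprime.dvd_of_dvd_mul_left ?_ h1
  apply Nat.coprime_of_dvd
  intro r hr hr1 hr2
  haveI := Fact.mk hr
  obtain ⟨y, hy⟩ := exists_prime_orderOf_dvd_card' (G := Subgroup.centralizer ({z} : Set ↥(twistedG2 K e))) r hr1
  have hyr : (y : ↥(twistedG2 K e)) ^ r = 1 := by
    have := pow_orderOf_eq_one y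
    rw [hy] at this
    exact congrArg Subtype.val this
  have hy1 : (y : ↥(twistedG2 K e)) ≠ 1 := by
    intro h
    have : y = 1 := Subtype.ext h
    rw [this, orderOf_one] at hy
    exact hr.one_lt.ne hy
  have hcz : (y : ↥(twistedG2 K e)) * z = z * y := Subgroup.mem_centralizer_singleton_iff.1 y.2
  by_cases hr0 : r = 2
  · subst hr0
    have hsq : (y : ↥(twistedG2 K e)) * y = 1 := by rw [← sq]; exact hyr
    obtain ⟨w, hw⟩ := C.invol_has_fix hsq hy1
    exact C.O_comm_fpf (n := 2 * m) hK hp hd hz hz1 hcz hy1 w hw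
  · obtain ⟨-, hc, -⟩ := C.cent_plus' hK hr hr0 hr2 hyr hy1
    have hmem : z ∈ Subgroup.centralizer ({(y : ↥(twistedG2 K e))} : Set ↥(twistedG2 K e)) := Subgroup.mem_centralizer_singleton_iff.2 hcz.symm
    haveI := Fact.mk hp
    have ho : orderOf (⟨z, hmem⟩ : Subgroup.centralizer ({(y : ↥(twistedG2 K e))} : Set ↥(twistedG2 K e))) = p := by
      apply orderOf_eq_prime
      · exact Subtype.ext hz
      · intro h
        exact hz1 (congrArg Subtype.val h)
    have hdv := orderOf_dvd_natCard (⟨z, hmem⟩ : Subgroup.centralizer ({(y : ↥(twistedG2 K e))} : Set ↥(twistedG2 K e)))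
    rw [ho, hc] at hdv
    exact a3 hdv

/-- A torus: the centraliser of an element of prime order dividing `q² - q + 1`. -/
def RCtx.IsOT (_C : RCtx K e) (T : Subgroup ↥(twistedG2 K e)) : Prop :=
  ∃ (z : ↥(twistedG2 K e)) (p : ℕ), p.Prime ∧ p ∣ (Fintype.card K) ^ 2 - Fintype.card K + 1 ∧ z ^ p = 1 ∧ z ≠ 1 ∧ T = Subgroup.centralizer {z}

variable {C}

theorem RCtx.IsOT.comm {T : Subgroup ↥(twistedG2 K e)} (hT : C.IsOT T) {n : ℕ} (hK : Fintype.card K = 3 ^ (n + 1)) (hS : IsSimpleGroup ↥(twistedG2 K e)) :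
    ∀ y ∈ T, ∀ y' ∈ T, y * y' = y' * y := by
  obtain ⟨z, p, hp, hd, hz, hz1, rfl⟩ := hT
  intro y hy y' hy'
  exact C.O_comm hK hS hp hd hz hz1 (Subgroup.mem_centralizer_singleton_iff.1 hy) (Subgroup.mem_centralizer_singleton_iff.1 hy')

theorem RCtx.IsOT.fpf {T : Subgroup ↥(twistedG2 K e)} (hT : C.IsOT T) {n : ℕ} (hK : Fintype.card K = 3 ^ (n + 1)) {y : ↥(twistedG2 K e)} (hy : y ∈ T) (hy1 : y ≠ 1) (w : Pts K e) : y • w ≠ w := by
  obtain ⟨z, p, hp, hd, hz, hz1, rfl⟩ := hT
  exact C.O_comm_fpf hK hp hd hz hz1 (Subgroup.mem_centralizer_singleton_iff.1 hy) hy1 w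

theorem RCtx.IsOT.card_dvd {T : Subgroup ↥(twistedG2 K e)} (hT : C.IsOT T) {m : ℕ} (hK : Fintype.card K = 3 ^ (2 * m + 1)) :
    Nat.card T ∣ (Fintype.card K) ^ 2 - Fintype.card K + 1 := by
  obtain ⟨z, p, hp, hd, hz, hz1, rfl⟩ := hT
  exact C.O_card_dvd hK hp hd hz hz1

/-- All non-trivial elements of a torus have the torus as centraliser. -/
theorem RCtx.IsOT.cent_eq {T : Subgroup ↥(twistedG2 K e)} (hT : C.IsOT T) {m : ℕ} (hK : Fintype.card K = 3 ^ (2 * m + 1)) (hS : IsSimpleGroup ↥(twistedG2 K e))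
    {y : ↥(twistedG2 K e)} (hy : y ∈ T) (hy1 : y ≠ 1) : Subgroup.centralizer ({y} : Set ↥(twistedG2 K e)) = T := by
  have hdvT := hT.card_dvd hK
  have hcomm := hT.comm (n := 2 * m) hK hS
  obtain ⟨z, p, hp, hd, hz, hz1, rfl⟩ := hT
  -- a power of prime order
  have ho1 : orderOf y ≠ 1 := fun h => hy1 (orderOf_eq_one_iff.1 h)
  let r := (orderOf y).minFac
  have hr : r.Prime := Nat.minFac_prime ho1
  have hrd : r ∣ orderOf y := Nat.minFac_dvd _
  obtain ⟨k, hk⟩ := hrd
  let y' := y ^ k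
  have hy'r : y' ^ r = 1 := by
    show (y ^ k) ^ r = 1
    rw [← pow_mul, mul_comm, ← hk, pow_orderOf_eq_one]
  have hk0 : 0 < k := by
    rcases Nat.eq_zero_or_pos k with h | h
    · rw [h, mul_zero] at hk
      exact absurd hk (orderOf_pos y).ne'
    · exact h
  have hy'1 : y' ≠ 1 := by
    intro h
    have h1 := orderOf_dvd_of_pow_eq_one h
    have h2 := Nat.le_of_dvd hk0 h1
    rw [hk] at h2
    have := hr.two_le
    nlinarith
  have hrN : r ∣ (Fintype.card K) ^ 2 - Fintype.card K + 1 := by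
    refine Dvd.dvd.trans ?_ hdvT
    refine Dvd.dvd.trans (Nat.minFac_dvd _) ?_
    have := orderOf_dvd_natCard (⟨y, hy⟩ : Subgroup.centralizer ({z} : Set ↥(twistedG2 K e)))
    simpa using this
  have hczy : z * y = y * z := (Subgroup.mem_centralizer_singleton_iff.1 hy).symm
  have hczy' : z * y' = y' * z := by
    show z * y ^ k = y ^ k * z
    exact (Commute.pow_right hczy k)
  apply le_antisymm
  · intro a ha
    rw [Subgroup.mem_centralizer_singleton_iff] at ha ⊢
    have ha' : a * y' = y' * a := by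
      show a * y ^ k = y ^ k * a
      exact (Commute.pow_right ha k)
    exact C.O_comm (n := 2 * m) hK hS hr hrN hy'r hy'1 ha' hczy'
  · intro a ha
    rw [Subgroup.mem_centralizer_singleton_iff]
    exact hcomm a ha y hy

/-- The embedding into the units of the field of degree six. -/
theorem RCtx.IsOT.embed {T : Subgroup ↥(twistedG2 K e)} (hT : C.IsOT T) {m : ℕ} (hK : Fintype.card K = 3 ^ (2 * m + 1)) (hS : IsSimpleGroup ↥(twistedG2 K e)) :
    ∃ (E : Type) (_ : Field E) (_ : Algebra K E) (_ : Finite E) (_ : Module.finrank K E = 6) (b : Module.Basis (Fin 7) K (E × K)) (h : GL (Fin 7) K) (φ : T →* Eˣ),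
      Function.Injective φ ∧ ∀ y : T, sing b (pairU (φ y)) = h * C.rho7 y * h⁻¹ := by
  classical
  have hdvT := hT.card_dvd hK
  obtain ⟨E, _, _, _, hfin, ⟨b⟩⟩ := C.exists_ext
  obtain ⟨z, p, hp, hd, hz, hz1, rfl⟩ := hT
  obtain ⟨h, hh⟩ := C.O_cent (n := 2 * m) hfin b hK hS hp hd hz hz1
  choose f hf using fun y : Subgroup.centralizer ({z} : Set ↥(twistedG2 K e)) => hh y (Subgroup.mem_centralizer_singleton_iff.1 y.2)
  have hq3 : 3 ≤ Fintype.card K := by
    rw [hK, pow_succ]
    have := Nat.one_le_pow (2 * m) 3 (by norm_num)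
    omega
  have hcop : Nat.Coprime (Nat.card (Subgroup.centralizer ({z} : Set ↥(twistedG2 K e)))) (Fintype.card K - 1) := by
    refine Nat.Coprime.coprime_dvd_left hdvT ?_
    apply Nat.coprime_of_dvd
    intro r hr hr1 hr2
    have hr0 : r ≠ 2 := by
      rintro rfl
      rw [hK] at hr1
      exact (arith_O Nat.prime_two hr1).1 rfl
    exact (arith_minus hr hr0 hr2 hq3).2 hr1
  have hfu : ∀ x : Subgroup.centralizer ({z} : Set ↥(twistedG2 K e)), ∃ u : Eˣ, f x = pairU u := by
    intro x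
    have h1 : (f x) ^ Nat.card (Subgroup.centralizer ({z} : Set ↥(twistedG2 K e))) = 1 := by
      apply sing_inj b
      have h2 : (x : ↥(twistedG2 K e)) ^ Nat.card (Subgroup.centralizer ({z} : Set ↥(twistedG2 K e))) = 1 := by
        have := pow_card_eq_one' (x := x)
        exact congrArg Subtype.val this
      rw [map_pow, hf, map_one, conj_pow, ← map_pow, h2, map_one]
      group
    obtain ⟨u, hu, -⟩ := unit_split hcop h1
    exact ⟨u, hu⟩
  choose g hg using hfu
  have hsg : ∀ x : Subgroup.centralizer ({z} : Set ↥(twistedG2 K e)), sing b (pairU (g x)) = h * C.rho7 x * h⁻¹ := by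
    intro x
    rw [← hg, hf]
  let φ : Subgroup.centralizer ({z} : Set ↥(twistedG2 K e)) →* Eˣ :=
    { toFun := g
      map_one' := by
        apply pairU_inj (F := K)
        apply sing_inj b
        rw [hsg]
        simp
      map_mul' := fun x y => by
        apply pairU_inj (F := K)
        apply sing_inj b
        rw [map_mul, map_mul, hsg, hsg, hsg]
        simp only [Subgroup.coe_mul, map_mul]
        group }
  refine ⟨E, inferInstance, inferInstance, inferInstance, hfin, b, h, φ, ?_, hsg⟩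
  intro x y hxy
  have h1 : g x = g y := hxy
  have h2 := hsg x
  rw [h1, hsg y] at h2
  apply Subtype.ext
  apply C.rho7_inj hS
  exact (mul_left_cancel (mul_right_cancel h2)).symm

theorem RCtx.IsOT.cyclic {T : Subgroup ↥(twistedG2 K e)} (hT : C.IsOT T) {m : ℕ} (hK : Fintype.card K = 3 ^ (2 * m + 1)) (hS : IsSimpleGroup ↥(twistedG2 K e)) : IsCyclic T := by
  obtain ⟨E, _, _, _, -, -, -, φ, hφ, -⟩ := hT.embed hK hS
  exact isCyclic_of_injective φ hφ

/-- Elements of the normaliser act on the torus as powers of `q`. -/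
theorem RCtx.IsOT.norm_pow {T : Subgroup ↥(twistedG2 K e)} (hT : C.IsOT T) {m : ℕ} (hK : Fintype.card K = 3 ^ (2 * m + 1)) (hS : IsSimpleGroup ↥(twistedG2 K e))
    {g : ↥(twistedG2 K e)} (hg : g ∈ Subgroup.normalizer (T : Set ↥(twistedG2 K e))) :
    ∃ i : ℕ, ∀ y ∈ T, g * y * g⁻¹ = y ^ (Fintype.card K ^ i) := by
  classical
  haveI := hT.cyclic hK hS
  obtain ⟨y₀, hy₀⟩ := IsCyclic.exists_generator (α := T)
  obtain ⟨E, _, _, _, hfin, b, h, φ, hφ, hsg⟩ := hT.embed hK hS
  have hT1 : T ≠ ⊥ := by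
    obtain ⟨z, p, hp, hd, hz, hz1, rfl⟩ := hT
    intro h
    have : z ∈ Subgroup.centralizer ({z} : Set ↥(twistedG2 K e)) := Subgroup.mem_centralizer_singleton_iff.2 rfl
    rw [h, Subgroup.mem_bot] at this
    exact hz1 this
  have hy₀1 : (y₀ : ↥(twistedG2 K e)) ≠ 1 := by
    intro h1
    apply hT1
    rw [eq_bot_iff]
    intro x hx
    obtain ⟨j, hj⟩ := hy₀ ⟨x, hx⟩
    have e1 : y₀ = 1 := Subtype.ext h1
    have hj2 : y₀ ^ j = ⟨x, hx⟩ := hj
    rw [e1, _root_.one_zpow] at hj2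
    exact Subgroup.mem_bot.2 (congrArg Subtype.val hj2).symm
  have hgy : g * y₀ * g⁻¹ ∈ T := (Subgroup.mem_normalizer_iff.1 hg _).1 y₀.2
  set y₁ : T := ⟨g * y₀ * g⁻¹, hgy⟩ with hy₁
  have hy₁1 : φ y₁ ≠ 1 := by
    intro h1
    have h2 : y₁ = 1 := hφ (by rw [h1, map_one])
    have h3 : g * (y₀ : ↥(twistedG2 K e)) * g⁻¹ = 1 := congrArg Subtype.val h2
    exact hy₀1 (conj_eq_one_iff.1 h3)
  have hconj : sing b (pairU (φ y₁)) = (h * C.rho7 g * h⁻¹) * sing b (pairU (φ y₀)) * (h * C.rho7 g * h⁻¹)⁻¹ := by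
    rw [hsg, hsg, hy₁]
    simp only [map_mul, map_inv]
    group
  obtain ⟨i, -, hi⟩ := conj_root b hfin _ _ _ hconj hy₁1
  refine ⟨i, ?_⟩
  have hy₁eq : y₁ = y₀ ^ (Fintype.card K ^ i) := by
    apply hφ
    apply Units.ext
    rw [hi, map_pow]
    simp
  have hgy₀ : g * (y₀ : ↥(twistedG2 K e)) * g⁻¹ = (y₀ : ↥(twistedG2 K e)) ^ (Fintype.card K ^ i) := by
    have := congrArg Subtype.val hy₁eq
    simpa using this
  intro y hy
  obtain ⟨j, hj⟩ := hy₀ ⟨y, hy⟩
  have hj' : y = (y₀ : ↥(twistedG2 K e)) ^ j := (congrArg Subtype.val hj).symm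
  rw [hj', ← conj_zpow, hgy₀, ← zpow_natCast, ← zpow_natCast, ← _root_.zpow_mul, ← _root_.zpow_mul, mul_comm]

end ctx

end CfsgLib.Ree
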