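/-
The tori of order dividing `q² - q + 1` in the small Ree groups: normalisers and classes.
-/
import Cfsg.Agent.Lib.Ree.TorusO2

set_option autoImplicit false
set_option synthInstance.maxHeartbeats 400000
set_option synthInstance.maxSize 1024

namespace CfsgLib.Ree

open Cfsg.Lie Cfsg.Lie.ChevalleyDatum CfsgLib.BN CfsgLib.Chev Matrix CfsgLib.Ree.Sing7

section ctx

variable {K : Type*} [Field K] [Fintype K] {e : ℕ} {C : RCtx K e}

/-- The torus is self-centralising. -/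
theorem RCtx.IsOT.cent_self {T : Subgroup ↥(twistedG2 K e)} (hT : C.IsOT T) {m : ℕ} (hK : Fintype.card K = 3 ^ (2 * m + 1)) (hS : IsSimpleGroup ↥(twistedG2 K e)) :
    Subgroup.centralizer (T : Set ↥(twistedG2 K e)) = T := by
  have hcomm := hT.comm (n := 2 * m) hK hS
  apply le_antisymm
  · obtain ⟨z, p, hp, hd, hz, hz1, rfl⟩ := hT
    intro y hy
    rw [Subgroup.mem_centralizer_iff] at hy
    rw [Subgroup.mem_centralizer_singleton_iff]
    exact (hy z (Subgroup.mem_centralizer_singleton_iff.2 rfl)).symm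
  · intro y hy
    rw [Subgroup.mem_centralizer_iff]
    intro x hx
    exact hcomm x hx y hy

/-- The index of the torus in its normaliser divides six. -/
theorem RCtx.IsOT.norm_index {T : Subgroup ↥(twistedG2 K e)} (hT : C.IsOT T) {m : ℕ} (hK : Fintype.card K = 3 ^ (2 * m + 1)) (hS : IsSimpleGroup ↥(twistedG2 K e)) :
    ∃ n, n ∣ 6 ∧ Nat.card (Subgroup.normalizer (T : Set ↥(twistedG2 K e))) = n * Nat.card T := by
  classical
  have hcommT := hT.comm (n := 2 * m) hK hS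
  have hdv := hT.card_dvd hK
  have hq1 : 1 ≤ Fintype.card K := Fintype.card_pos
  have hcop : Nat.Coprime (Nat.card T) (Fintype.card K) := by
    refine Nat.Coprime.coprime_dvd_left hdv ?_
    apply Nat.coprime_of_dvd
    intro r hr hr1 hr2
    rw [hK] at hr1 hr2
    exact (arith_O (n := 2 * m) hr hr1).2.2.1 hr2
  have hcomm : ∀ x y : T, x * y = y * x := fun x y => Subtype.ext (hcommT _ x.2 _ y.2)
  let σ₀ : T →* T := MonoidHom.mk' (fun y => y ^ Fintype.card K) (fun a b => (Commute.mul_pow (hcomm a b) _))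
  have hinj : Function.Injective σ₀ := by
    rw [injective_iff_map_eq_one]
    intro y hy
    have h1 : y ^ Fintype.card K = 1 := hy
    have h2 : y ^ Nat.card T = 1 := pow_card_eq_one'
    have := pow_gcd_eq_one.2 ⟨h2, h1⟩
    rwa [hcop, pow_one] at this
  let σ : MulAut T := MulEquiv.ofBijective σ₀ (Finite.injective_iff_bijective.1 hinj)
  have hσ : ∀ (i : ℕ) (y : T), (σ ^ i) y = y ^ (Fintype.card K ^ i) := by
    intro i y
    induction i with
    | zero => simp
    | succ i ih =>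
      rw [pow_succ', MulAut.mul_apply, ih]
      show (y ^ (Fintype.card K ^ i)) ^ Fintype.card K = _
      rw [← pow_mul, pow_succ]
  have hσ6 : σ ^ 6 = 1 := by
    apply MulEquiv.ext
    intro y
    rw [hσ]
    have h1 : Nat.card T ∣ Fintype.card K ^ 6 - 1 := by
      have e1 : Fintype.card K ^ 6 - 1 = (Fintype.card K ^ 3 + 1) * (Fintype.card K ^ 3 - 1) := by
        have := Nat.sq_sub_sq (Fintype.card K ^ 3) 1
        simp only [one_pow] at this
        rw [← this, ← pow_mul]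
      rw [e1, add_comm (Fintype.card K ^ 3), q_cube hq1]
      exact Dvd.dvd.mul_right (Dvd.dvd.mul_left hdv _) _
    have h2 : y ^ (Fintype.card K ^ 6 - 1) = 1 := by
      obtain ⟨c, hc⟩ := h1
      rw [hc, pow_mul, pow_card_eq_one', one_pow]
    have h3 : 1 ≤ Fintype.card K ^ 6 := Nat.one_le_pow _ _ hq1
    have h4 : y ^ Fintype.card K ^ 6 = y ^ (Fintype.card K ^ 6 - 1) * y := by
      rw [← pow_succ, Nat.sub_add_cancel h3]
    rw [h4, h2, one_mul]
    rfl
  let ψ := T.normalizerMonoidHom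
  have hrange : ψ.range ≤ Subgroup.zpowers σ := by
    rintro _ ⟨g, rfl⟩
    obtain ⟨i, hi⟩ := hT.norm_pow hK hS g.2
    have : ψ g = σ ^ i := by
      apply MulEquiv.ext
      intro y
      rw [hσ]
      apply Subtype.ext
      exact hi y y.2
    rw [this]
    exact Subgroup.npow_mem_zpowers _ _
  have hker : Nat.card ψ.ker = Nat.card T := by
    have e1 : ψ.ker = (Subgroup.centralizer (T : Set ↥(twistedG2 K e))).subgroupOf (Subgroup.normalizer (T : Set ↥(twistedG2 K e))) := T.normalizerMonoidHom_ker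
    rw [e1, hT.cent_self hK hS]
    exact Nat.card_congr (Subgroup.subgroupOfEquivOfLe Subgroup.le_normalizer).toEquiv
  have h1 := Subgroup.card_mul_index ψ.ker
  rw [Subgroup.index_ker, hker] at h1
  refine ⟨Nat.card ψ.range, ?_, by rw [← h1, mul_comm]⟩
  have h2 : Nat.card ψ.range ∣ Nat.card (Subgroup.zpowers σ) := Subgroup.card_dvd_of_le hrange
  rw [Nat.card_zpowers] at h2
  exact h2.trans (orderOf_dvd_of_pow_eq_one hσ6)

/-- Nontrivial elements determine the torus. -/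
theorem RCtx.IsOT.hN {T : Subgroup ↥(twistedG2 K e)} (hT : C.IsOT T) {m : ℕ} (hK : Fintype.card K = 3 ^ (2 * m + 1)) (hS : IsSimpleGroup ↥(twistedG2 K e))
    {a : ↥(twistedG2 K e)} (ha : a ∈ T) (ha1 : a ≠ 1) {n : ↥(twistedG2 K e)} (hn : n⁻¹ * a * n ∈ T) : n ∈ Subgroup.normalizer (T : Set ↥(twistedG2 K e)) := by
  have hb1 : n⁻¹ * a * n ≠ 1 := by
    intro h
    apply ha1
    have : a = n * (n⁻¹ * a * n) * n⁻¹ := by group
    rw [this, h]
    group
  have e1 := hT.cent_eq hK hS ha ha1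
  have e2 := hT.cent_eq hK hS hn hb1
  rw [Subgroup.mem_normalizer_iff]
  intro y
  have e3 : n * (n⁻¹ * a * n) * n⁻¹ = a := by group
  constructor
  · intro hy
    rw [← e2] at hy
    rw [← e1, ← e3]
    exact mem_cent_conj.2 hy
  · intro hy
    rw [← e1, ← e3] at hy
    rw [← e2]
    exact mem_cent_conj.1 hy

/-- The non-identity elements of a subgroup. -/
def nonId {G : Type*} [Group G] (T : Subgroup G) : Set G := {y | y ∈ T ∧ y ≠ 1}

lemma card_nonId {G : Type*} [Group G] [Finite G] (T : Subgroup G) : Nat.card (nonId T) = Nat.card T - 1 := by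
  classical
  have h1 : ((T : Set G)) = insert 1 (nonId T) := by
    ext y
    constructor
    · intro h
      by_cases hy : y = 1
      · exact Or.inl hy
      · exact Or.inr ⟨h, hy⟩
    · rintro (rfl | h)
      · exact T.one_mem
      · exact h.1
  have h2 : Nat.card T = (T : Set G).ncard := Nat.card_coe_set_eq _
  have h3 : (1 : G) ∉ nonId T := fun h => h.2 rfl
  rw [h2, h1, Set.ncard_insert_of_notMem h3 (Set.toFinite _), Nat.card_coe_set_eq]
  simp

/-- The number of elements in the conjugates of a torus. -/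
theorem RCtx.IsOT.class_count {T : Subgroup ↥(twistedG2 K e)} (hT : C.IsOT T) {m : ℕ} (hK : Fintype.card K = 3 ^ (2 * m + 1)) (hS : IsSimpleGroup ↥(twistedG2 K e)) :
    Nat.card (conjOf (nonId T)) * Nat.card (Subgroup.normalizer (T : Set ↥(twistedG2 K e))) = Nat.card ↥(twistedG2 K e) * (Nat.card T - 1) := by
  rw [← card_nonId]
  apply conj_count
  · rintro a ⟨ha, ha1⟩ n hn
    refine ⟨(Subgroup.mem_normalizer_iff.1 (inv_mem hn) a).1 (by simpa using ha) |> fun h => by simpa using h, ?_⟩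
    intro h
    apply ha1
    have : a = n * (n⁻¹ * a * n) * n⁻¹ := by group
    rw [this, h]
    group
  · rintro a ⟨ha, ha1⟩ n ⟨hn, -⟩
    exact hT.hN hK hS ha ha1 hn

/-- Conjugates of a torus are tori. -/
theorem RCtx.IsOT.of_conj {A B : Subgroup ↥(twistedG2 K e)} (hA : C.IsOT A) (h : ConjS A B) : C.IsOT B := by
  obtain ⟨z, p, hp, hd, hz, hz1, rfl⟩ := hA
  obtain ⟨x, hx⟩ := h
  refine ⟨x * z * x⁻¹, p, hp, hd, ?_, fun h => hz1 (conj_eq_one_iff.1 h), ?_⟩
  · rw [conj_pow, hz]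
    group
  · ext y
    rw [hx]
    have e1 : y = x * (x⁻¹ * y * x) * x⁻¹ := by group
    conv_rhs => rw [e1]
    rw [mem_cent_conj]

theorem RCtx.IsOT.class_fpf {T : Subgroup ↥(twistedG2 K e)} (hT : C.IsOT T) {n : ℕ} (hK : Fintype.card K = 3 ^ (n + 1)) {y : ↥(twistedG2 K e)} (hy : y ∈ conjOf (nonId T)) (w : Pts K e) : y • w ≠ w := by
  obtain ⟨x, hx, hx1⟩ := hy
  intro h
  apply hT.fpf hK hx hx1 (x⁻¹ • w)
  rw [mul_smul, mul_smul, smul_inv_smul, h]

/-- Two tori with an element in common in their classes are conjugate. -/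
theorem RCtx.IsOT.class_inter {A B : Subgroup ↥(twistedG2 K e)} (hA : C.IsOT A) (hB : C.IsOT B) {m : ℕ} (hK : Fintype.card K = 3 ^ (2 * m + 1)) (hS : IsSimpleGroup ↥(twistedG2 K e))
    {y : ↥(twistedG2 K e)} (h₁ : y ∈ conjOf (nonId A)) (h₂ : y ∈ conjOf (nonId B)) : ConjS A B := by
  obtain ⟨x, hx, hx1⟩ := h₁
  obtain ⟨x', hx', hx'1⟩ := h₂
  have e1 := hA.cent_eq hK hS hx hx1
  have e2 := hB.cent_eq hK hS hx' hx'1
  refine ⟨x'⁻¹ * x, fun w => ?_⟩
  rw [← e1, ← e2]
  set k := x'⁻¹ * x with hk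
  have e3 : x'⁻¹ * y * x' = k * (x⁻¹ * y * x) * k⁻¹ := by
    rw [hk]
    group
  rw [e3]
  have e4 : w = k * (k⁻¹ * w * k) * k⁻¹ := by group
  conv_lhs => rw [e4]
  rw [mem_cent_conj]

lemma mem_class_self {G : Type*} [Group G] {T : Subgroup G} {y : G} (hy : y ∈ T) (hy1 : y ≠ 1) : y ∈ conjOf (nonId T) :=
  ⟨1, by simpa using ⟨hy, hy1⟩⟩

lemma conjOf_of_conj {G : Type*} [Group G] {A B : Subgroup G} (h : ConjS A B) : conjOf (nonId B) = conjOf (nonId A) := by
  obtain ⟨x, hx⟩ := h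
  ext y
  constructor
  · rintro ⟨k, h1, h2⟩
    refine ⟨k * x, ?_, ?_⟩
    · have e : (k * x)⁻¹ * y * (k * x) = x⁻¹ * (k⁻¹ * y * k) * x := by group
      rw [e]
      exact (hx _).1 h1
    · intro h3
      apply h2
      have : k⁻¹ * y * k = x * ((k * x)⁻¹ * y * (k * x)) * x⁻¹ := by group
      rw [this, h3]
      group
  · rintro ⟨k, h1, h2⟩
    refine ⟨k * x⁻¹, ?_, ?_⟩
    · apply (hx _).2
      have e : x⁻¹ * ((k * x⁻¹)⁻¹ * y * (k * x⁻¹)) * x = k⁻¹ * y * k := by group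
      rw [e]
      exact h1
    · intro h3
      apply h2
      have : k⁻¹ * y * k = x⁻¹ * ((k * x⁻¹)⁻¹ * y * (k * x⁻¹)) * x := by group
      rw [this, h3]
      group

/-- Two tori with a common prime divisor are conjugate. -/
theorem RCtx.IsOT.conj_of_prime {A B : Subgroup ↥(twistedG2 K e)} (hA : C.IsOT A) (hB : C.IsOT B) {m : ℕ} (hK : Fintype.card K = 3 ^ (2 * m + 1)) (hS : IsSimpleGroup ↥(twistedG2 K e))
    {p : ℕ} (hp : p.Prime) (h1 : p ∣ Nat.card A) (h2 : p ∣ Nat.card B) : ConjS A B := by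
  classical
  haveI := Fact.mk hp
  obtain ⟨a, ha⟩ := exists_prime_orderOf_dvd_card' (G := A) p h1
  obtain ⟨b, hb⟩ := exists_prime_orderOf_dvd_card' (G := B) p h2
  have hap : (a : ↥(twistedG2 K e)) ^ p = 1 := by
    have := pow_orderOf_eq_one a
    rw [ha] at this
    exact congrArg Subtype.val this
  have hbp : (b : ↥(twistedG2 K e)) ^ p = 1 := by
    have := pow_orderOf_eq_one b
    rw [hb] at this
    exact congrArg Subtype.val this
  have ha1 : (a : ↥(twistedG2 K e)) ≠ 1 := by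
    intro h
    have : a = 1 := Subtype.ext h
    rw [this, orderOf_one] at ha
    exact hp.one_lt.ne ha
  have hb1 : (b : ↥(twistedG2 K e)) ≠ 1 := by
    intro h
    have : b = 1 := Subtype.ext h
    rw [this, orderOf_one] at hb
    exact hp.one_lt.ne hb
  have hpN : p ∣ Fintype.card K ^ 2 - Fintype.card K + 1 := h1.trans (hA.card_dvd hK)
  have hpN' := hpN
  rw [hK] at hpN'
  obtain ⟨a2, a3, -, -, -⟩ := arith_O (n := 2 * m) hp hpN'
  have hp5 : 3 < p := by
    have := hp.two_le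
    omega
  -- Sylow subgroups
  have hPa : IsPGroup p (Subgroup.zpowers (a : ↥(twistedG2 K e))) := zpowers_isP (k := 1) (by rwa [pow_one])
  have hPb : IsPGroup p (Subgroup.zpowers (b : ↥(twistedG2 K e))) := zpowers_isP (k := 1) (by rwa [pow_one])
  obtain ⟨P₁, hP₁⟩ := hPa.exists_le_sylow
  obtain ⟨P₂, hP₂⟩ := hPb.exists_le_sylow
  obtain ⟨g, hg⟩ := MulAction.exists_smul_eq ↥(twistedG2 K e) P₁ P₂
  have h3 : g * a * g⁻¹ ∈ (P₂ : Subgroup ↥(twistedG2 K e)) := by
    rw [← hg, Sylow.coe_subgroup_smul]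
    exact ⟨a, hP₁ (Subgroup.mem_zpowers _), rfl⟩
  haveI hcyc := C.sylow_cyclic (n := 2 * m) hK hS hp5 (P₂ : Subgroup ↥(twistedG2 K e)) P₂.isPGroup'
  have hcomm : (g * a * g⁻¹) * (b : ↥(twistedG2 K e)) = b * (g * a * g⁻¹) := by
    have := cyc_comm_aux (⟨_, h3⟩ : (P₂ : Subgroup ↥(twistedG2 K e))) ⟨b, hP₂ (Subgroup.mem_zpowers _)⟩
    exact congrArg Subtype.val this
  have h4 : g * a * g⁻¹ ∈ B := by
    rw [← hB.cent_eq hK hS b.2 hb1, Subgroup.mem_centralizer_singleton_iff]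
    exact hcomm
  have h5 : g * a * g⁻¹ ≠ 1 := fun h => ha1 (conj_eq_one_iff.1 h)
  have e1 := hB.cent_eq hK hS h4 h5
  have e2 := hA.cent_eq hK hS a.2 ha1
  refine ⟨g, fun y => ?_⟩
  have h6 : y ∈ B ↔ y ∈ Subgroup.centralizer ({g * (a : ↥(twistedG2 K e)) * g⁻¹} : Set ↥(twistedG2 K e)) := by rw [e1]
  have h7 : g⁻¹ * y * g ∈ A ↔ g⁻¹ * y * g ∈ Subgroup.centralizer ({(a : ↥(twistedG2 K e))} : Set ↥(twistedG2 K e)) := by rw [e2]
  rw [h6, h7]
  have e4 : y = g * (g⁻¹ * y * g) * g⁻¹ := by group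
  conv_lhs => rw [e4]
  rw [mem_cent_conj]

/-- A torus containing an element of order `p`. -/
theorem RCtx.exists_OT (C : RCtx K e) {m : ℕ} (hK : Fintype.card K = 3 ^ (2 * m + 1)) {p : ℕ} (hp : p.Prime) (hd : p ∣ Fintype.card K ^ 2 - Fintype.card K + 1) :
    ∃ T : Subgroup ↥(twistedG2 K e), C.IsOT T ∧ p ∣ Nat.card T := by
  classical
  haveI := Fact.mk hp
  have hq1 : 1 ≤ Fintype.card K := Fintype.card_pos
  have hG : p ∣ Nat.card ↥(twistedG2 K e) := by
    rw [C.card_G, q_cube hq1]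
    exact Dvd.dvd.mul_left (Dvd.dvd.mul_left hd _) _
  obtain ⟨z, hz⟩ := exists_prime_orderOf_dvd_card' (G := ↥(twistedG2 K e)) p hG
  have hzp : z ^ p = 1 := by
    rw [← hz]
    exact pow_orderOf_eq_one z
  have hz1 : z ≠ 1 := by
    rintro rfl
    rw [orderOf_one] at hz
    exact hp.one_lt.ne hz
  refine ⟨_, ⟨z, p, hp, hd, hzp, hz1, rfl⟩, ?_⟩
  have hmem : z ∈ Subgroup.centralizer ({z} : Set ↥(twistedG2 K e)) := Subgroup.mem_centralizer_singleton_iff.2 rfl
  have ho : orderOf (⟨z, hmem⟩ : Subgroup.centralizer ({z} : Set ↥(twistedG2 K e))) = p := by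
    rw [← hz]
    simp
  rw [← ho]
  exact orderOf_dvd_natCard _

end ctx

end CfsgLib.Ree
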