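/-
The normaliser of the abelian subgroup `Z₂ × D̄` of the small Ree groups.
-/
import Cfsg.Agent.Lib.Ree.TorusO3

set_option autoImplicit false
set_option synthInstance.maxHeartbeats 400000
set_option synthInstance.maxSize 1024

namespace CfsgLib.Ree

open Cfsg.Lie Cfsg.Lie.ChevalleyDatum CfsgLib.BN CfsgLib.Chev CfsgLib.H9.SL2Cl Matrix

section ctx

variable {K : Type*} [Field K] [Fintype K] {e : ℕ} (C : RCtx K e)

lemma zZ_central (x : SL2 K) : zZ K * x = x * zZ K :=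
  (Subgroup.mem_center_iff.1 ((mem_center_SL2 (zZ K)).2 (Or.inr rfl)) x).symm

lemma zZ_ne_one (C : RCtx K e) : zZ K ≠ 1 := by
  intro h
  have := congrArg (fun x : SL2 K => x.1 0 0) h
  simp [zZ] at this
  exact C.neg_one_ne this

lemma zZ_pow_odd {p : ℕ} (hp : Odd p) : zZ K ^ p = zZ K := by
  obtain ⟨k, rfl⟩ := hp
  rw [pow_succ, pow_mul, sq, zZ_sq, one_pow, one_mul]

/-- Odd lifts, in general. -/
lemma odd_lift' {p : ℕ} (hp : Odd p) {l : ProjectiveSpecialLinearGroup (Fin 2) K} (h : l ^ p = 1) :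
    ∃ d : SL2 K, prS d = l ∧ d ^ p = 1 := by
  obtain ⟨d, rfl⟩ := prS_surj l
  have h1 : prS (d ^ p) = 1 := h
  rcases (prS_eq_one_iff _).1 h1 with h2 | h2
  · exact ⟨d, rfl, h2⟩
  · refine ⟨zZ K * d, prS_zZ_mul d, ?_⟩
    have hc : Commute (zZ K) d := zZ_central d
    rw [hc.mul_pow, h2, zZ_pow_odd hp, zZ_sq]

lemma anti_pow {y : SL2 K} (h : y * SLP.wz = zZ K * (SLP.wz * y)) (n : ℕ) : y ^ n * SLP.wz = zZ K ^ n * (SLP.wz * y ^ n) := by
  induction n with
  | zero => simp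
  | succ n ih =>
    calc y ^ (n + 1) * SLP.wz = y ^ n * (y * SLP.wz) := by rw [pow_succ, mul_assoc]
      _ = y ^ n * (zZ K * (SLP.wz * y)) := by rw [h]
      _ = zZ K * (y ^ n * SLP.wz) * y := by
        rw [← mul_assoc, ← zZ_central (y ^ n)]
        group
      _ = zZ K * (zZ K ^ n * (SLP.wz * y ^ n)) * y := by rw [ih]
      _ = _ := by
        rw [pow_succ', pow_succ]
        group

lemma mem_D₀_iff {y : SL2 K} : y ∈ D₀ K ↔ y * SLP.wz = SLP.wz * y := Subgroup.mem_centralizer_singleton_iff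

lemma mem_Dbar_iff {y : SL2 K} : prS y ∈ Dbar K ↔ y ∈ D₀ K := by
  constructor
  · intro h
    obtain ⟨d, hd, h1⟩ := mem_Dbar.1 h
    rcases (prS_eq_iff _ _).1 h1 with h2 | h2
    · rwa [← h2]
    · have : y = zZ K * d := by rw [h2, ← mul_assoc, zZ_sq, one_mul]
      rw [this]
      exact mul_mem zZ_mem_D₀ hd
  · intro h
    exact mem_Dbar.2 ⟨y, h, rfl⟩

/-- Elements of odd order commuting with the involution of the torus lie in the torus. -/
lemma odd_comm_Dbar (C : RCtx K e) {p : ℕ} (hp : Odd p) {l : ProjectiveSpecialLinearGroup (Fin 2) K} (h : l ^ p = 1)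
    (hc : l * prS SLP.wz = prS SLP.wz * l) : l ∈ Dbar K := by
  obtain ⟨d, rfl, hd⟩ := odd_lift' hp h
  rw [mem_Dbar_iff, mem_D₀_iff]
  rcases (prS_eq_iff _ _).1 hc with h1 | h1
  · exact h1
  · exfalso
    have h2 := anti_pow h1 p
    rw [hd, one_mul, mul_one, zZ_pow_odd hp] at h2
    have h3 : zZ K = 1 := by
      have : (1 : SL2 K) * SLP.wz = zZ K * SLP.wz := by rw [one_mul]; exact h2
      exact (mul_right_cancel this).symm
    exact zZ_ne_one C h3

/-- All involutions of `PSL₂` are conjugate. -/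
theorem psl_invol_conj (C : RCtx K e) {m : ℕ} (hK : Fintype.card K = 3 ^ (2 * m + 1)) {l : ProjectiveSpecialLinearGroup (Fin 2) K} (hl : l * l = 1) (hl1 : l ≠ 1) :
    IsConj (prS (SLP.wz : SL2 K)) l := by
  classical
  haveI : Fact (Nat.Prime 2) := ⟨Nat.prime_two⟩
  obtain ⟨α, β, hab⟩ := C.exists_ab
  obtain ⟨V, hV1, hV2, hi, hj, hc⟩ := exists_V₀ C hab
  obtain ⟨M, hM, hM2⟩ := psl_part (q := Fintype.card K) (by rw [hK]; exact card_mod_eight) C.card_PSL
  have h1 := Subgroup.card_mul_index V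
  rw [hV1, hM2] at h1
  have h2 : V.index = M := Nat.eq_of_mul_eq_mul_left (by norm_num) h1
  have hidx : ¬ 2 ∣ V.index := by
    rw [h2]
    exact hM.not_two_dvd_nat
  obtain ⟨g, hg⟩ := conj_into_of_index (p := 2) V hidx (k := 1) (x := l) (by rwa [pow_one, sq])
  have hne : g * l * g⁻¹ ≠ 1 := fun h => hl1 (conj_eq_one_iff.1 h)
  have hconj : IsConj l (g * l * g⁻¹) := isConj_iff.2 ⟨g, rfl⟩
  have key : IsConj (prS (SLP.wz : SL2 K)) (g * l * g⁻¹) := by
    have e1 : prS (gZ C hab) * prS SLP.wz * (prS (gZ C hab))⁻¹ = prS (jZ hab) := by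
      rw [← prS_mul, gZ_wz, prS_mul, mul_assoc, mul_inv_cancel, mul_one]
    have e2 : prS (gZ C hab) * prS (jZ hab) * (prS (gZ C hab))⁻¹ = prS SLP.wz * prS (jZ hab) := by
      rw [← prS_mul, gZ_jZ, prS_mul, prS_mul, mul_assoc, mul_inv_cancel, mul_one]
    rcases hc _ hg with h | h | h | h
    · exact absurd h hne
    · rw [h]
    · rw [h]
      exact isConj_iff.2 ⟨_, e1⟩
    · rw [h, ← e2, ← e1]
      have e3 : prS (gZ C hab) * (prS (gZ C hab) * prS SLP.wz * (prS (gZ C hab))⁻¹) * (prS (gZ C hab))⁻¹ = (prS (gZ C hab) * prS (gZ C hab)) * prS SLP.wz * (prS (gZ C hab) * prS (gZ C hab))⁻¹ := by group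
      rw [e3]
      exact isConj_iff.2 ⟨_, rfl⟩
  exact key.trans hconj.symm

/-- The centraliser of the involution of the torus in `PSL₂`. -/
theorem card_cent_w (C : RCtx K e) : Nat.card (Subgroup.centralizer ({prS (SLP.wz : SL2 K)} : Set (ProjectiveSpecialLinearGroup (Fin 2) K))) = Fintype.card K + 1 := by
  classical
  obtain ⟨α, β, hab⟩ := C.exists_ab
  set A := Subgroup.centralizer ({prS (SLP.wz : SL2 K)} : Set (ProjectiveSpecialLinearGroup (Fin 2) K)) with hA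
  have hle : Dbar K ≤ A := by
    rintro l hl
    obtain ⟨d, hd, rfl⟩ := mem_Dbar.1 hl
    rw [hA, Subgroup.mem_centralizer_singleton_iff, ← prS_mul, ← prS_mul, mem_D₀_iff.1 hd]
  have hanti : jZ hab * SLP.wz = zZ K * (SLP.wz * jZ hab) := by
    rw [wz_jZ hab, ← mul_assoc, zZ_sq, one_mul]
  have hj : prS (jZ hab) ∈ A := by
    rw [hA, Subgroup.mem_centralizer_singleton_iff, ← prS_mul, ← prS_mul]
    exact (prS_eq_iff _ _).2 (Or.inr hanti)
  have hjn : jZ hab ∉ D₀ K := by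
    intro h
    have h1 := mem_D₀_iff.1 h
    rw [hanti] at h1
    have h2 : zZ K * (SLP.wz * jZ hab) = 1 * (SLP.wz * jZ hab) := by rw [one_mul]; exact h1
    exact zZ_ne_one C (mul_right_cancel h2)
  have hidx : ((Dbar K).subgroupOf A).index = 2 := by
    rw [Subgroup.index_eq_two_iff]
    refine ⟨⟨prS (jZ hab), hj⟩, ?_⟩
    rintro ⟨b, hb⟩
    obtain ⟨y, rfl⟩ := prS_surj b
    have e1 : (⟨prS y, hb⟩ : A) * ⟨prS (jZ hab), hj⟩ ∈ (Dbar K).subgroupOf A ↔ y * jZ hab ∈ D₀ K := by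
      rw [Subgroup.mem_subgroupOf]
      exact mem_Dbar_iff
    have e2 : (⟨prS y, hb⟩ : A) ∈ (Dbar K).subgroupOf A ↔ y ∈ D₀ K := by
      rw [Subgroup.mem_subgroupOf]
      exact mem_Dbar_iff
    rw [e1, e2]
    have hb' : prS y * prS SLP.wz = prS SLP.wz * prS y := Subgroup.mem_centralizer_singleton_iff.1 hb
    rw [← prS_mul, ← prS_mul] at hb'
    rcases (prS_eq_iff _ _).1 hb' with h1 | h1
    · have hy : y ∈ D₀ K := mem_D₀_iff.2 h1
      right
      refine ⟨hy, fun h => hjn ?_⟩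
      have : jZ hab = y⁻¹ * (y * jZ hab) := by group
      rw [this]
      exact mul_mem (inv_mem hy) h
    · left
      constructor
      · rw [mem_D₀_iff]
        calc y * jZ hab * SLP.wz = y * (jZ hab * SLP.wz) := by rw [mul_assoc]
          _ = y * (zZ K * (SLP.wz * jZ hab)) := by rw [hanti]
          _ = zZ K * ((y * SLP.wz) * jZ hab) := by
            rw [← mul_assoc, ← zZ_central y]
            group
          _ = zZ K * ((zZ K * (SLP.wz * y)) * jZ hab) := by rw [h1]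
          _ = (zZ K * zZ K) * (SLP.wz * (y * jZ hab)) := by group
          _ = _ := by rw [zZ_sq, one_mul]
      · intro h
        have h2 := mem_D₀_iff.1 h
        rw [h2] at h1
        have h3 : 1 * (SLP.wz * y) = zZ K * (SLP.wz * y) := by rw [one_mul]; exact h1
        exact zZ_ne_one C (mul_right_cancel h3).symm
  have h1 := Subgroup.card_mul_index ((Dbar K).subgroupOf A)
  rw [hidx, Nat.card_congr (Subgroup.subgroupOfEquivOfLe hle).toEquiv] at h1
  rw [← h1, ← card_Dbar C, mul_comm]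

/-- The involutions of the torus. -/
lemma Dbar_invol {l : ProjectiveSpecialLinearGroup (Fin 2) K} (C : RCtx K e) (hl : l ∈ Dbar K) (h : l * l = 1) : l = 1 ∨ l = prS SLP.wz := by
  obtain ⟨d, hd, rfl⟩ := mem_Dbar.1 hl
  have h0 : (d * d).1 0 1 = 0 := by
    have h1 : prS (d * d) = 1 := h
    rcases (prS_eq_one_iff _).1 h1 with h2 | h2
    · rw [h2]
      simp
    · rw [h2]
      simp [zZ]
  obtain ⟨a1, a2⟩ := mem_D₀.1 hd
  have hn := D₀_norm hd
  rw [mul_01, a2] at h0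
  have h2 := C.two_ne
  have h3 : d.1 0 0 * d.1 0 1 = 0 := by
    have : (2 : K) * (d.1 0 0 * d.1 0 1) = 0 := by linear_combination h0
    exact (mul_eq_zero.1 this).resolve_left h2
  rcases mul_eq_zero.1 h3 with h4 | h4
  · right
    rw [h4] at hn
    have h5 : d.1 0 1 ^ 2 = 1 := by linear_combination hn
    rw [prS_eq_iff]
    rcases sq_cases h5 with h6 | h6
    · right
      apply sl_ext
      · rw [zZ_mul_00]; simp [h4, SLP.wz]
      · rw [zZ_mul_01]; simp [h6, SLP.wz]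
      · rw [zZ_mul_10]; simp [a1, h6, SLP.wz]
      · rw [zZ_mul_11]; simp [a2, h4, SLP.wz]
    · left
      apply sl_ext
      · simp [h4, SLP.wz]
      · simp [h6, SLP.wz]
      · simp [a1, h6, SLP.wz]
      · simp [a2, h4, SLP.wz]
  · left
    rw [h4] at hn
    have h5 : d.1 0 0 ^ 2 = 1 := by linear_combination hn
    apply (prS_eq_one_iff d).2
    rcases sq_cases h5 with h6 | h6
    · left
      apply sl_ext
      · simp [h6]
      · simp [h4]
      · simp [a1, h4]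
      · simp [a2, h6]
    · right
      apply sl_ext
      · simp [h6, zZ]
      · simp [h4, zZ]
      · simp [a1, h4, zZ]
      · simp [a2, h6, zZ]

lemma eps_cases : ∀ ε : Multiplicative (ZMod 2), ε = 1 ∨ ε = Multiplicative.ofAdd 1 := by decide

lemma eps_sq : ∀ ε : Multiplicative (ZMod 2), ε * ε = 1 := by decide

lemma eps_odd {p : ℕ} (hp : Odd p) (ε : Multiplicative (ZMod 2)) (h : ε ^ p = 1) : ε = 1 :=
  eq_one_of_sq_odd hp (eps_sq ε) h

lemma RCtx.psiP_w : C.psiP (prS SLP.wz) = C.w₁ := (C.psiP_pr _).trans C.psi_wz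

lemma RCtx.w₁_ne_one (C : RCtx K e) : C.w₁ ≠ 1 := by
  intro h
  have := C.w₁_smul_ptI
  rw [h, one_smul] at this
  exact C.ptF_ne_ptI 0 0 0 this.symm

lemma RCtx.aI_comm_w₁ (C : RCtx K e) : C.aI * C.w₁ = C.w₁ * C.aI := by
  rw [← C.psiP_w]
  exact C.aI_comm_psiP _

/-- The three involutions of `E₀`. -/
def RCtx.isX (C : RCtx K e) (y : ↥(twistedG2 K e)) : Prop := y = C.aI ∨ y = C.w₁ ∨ y = C.aI * C.w₁

lemma RCtx.aI_ne_w₁ (C : RCtx K e) : C.aI ≠ C.w₁ := by
  have := C.psiP_ne_aI (prS SLP.wz)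
  rw [C.psiP_w] at this
  exact this.symm

lemma RCtx.aw_ne_one (C : RCtx K e) : C.aI * C.w₁ ≠ 1 := by
  intro h
  apply C.aI_ne_w₁
  have h1 : C.aI⁻¹ = C.w₁ := inv_eq_of_mul_eq_one_right h
  rw [C.aI_inv] at h1
  exact h1

lemma RCtx.isX_ne_one {y : ↥(twistedG2 K e)} (h : C.isX y) : y ≠ 1 := by
  rcases h with rfl | rfl | rfl
  · exact C.aI_ne
  · exact C.w₁_ne_one
  · exact C.aw_ne_one

lemma RCtx.isX_sq {y : ↥(twistedG2 K e)} (h : C.isX y) : y * y = 1 := by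
  rcases h with rfl | rfl | rfl
  · exact C.aI_sq
  · exact C.w₁_sq
  · calc C.aI * C.w₁ * (C.aI * C.w₁) = C.aI * (C.w₁ * C.aI) * C.w₁ := by group
      _ = C.aI * (C.aI * C.w₁) * C.w₁ := by rw [C.aI_comm_w₁]
      _ = (C.aI * C.aI) * (C.w₁ * C.w₁) := by group
      _ = 1 := by rw [C.aI_sq, C.w₁_sq, one_mul]

lemma RCtx.isX_mem {y : ↥(twistedG2 K e)} (h : C.isX y) : y ∈ C.E₀ := by
  have hw : C.w₁ ∈ C.E₀ := C.T₀_le_E₀ C.w₁_mem_T₀
  rcases h with rfl | rfl | rfl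
  · exact C.aI_mem_E₀
  · exact hw
  · exact mul_mem C.aI_mem_E₀ hw

/-- The involutions of `E₀`. -/
theorem RCtx.E₀_invol (C : RCtx K e) {y : ↥(twistedG2 K e)} (hy : y ∈ C.E₀) (h : y * y = 1) (h1 : y ≠ 1) : C.isX y := by
  obtain ⟨ε, l, hl, rfl⟩ := C.mem_E₀.1 hy
  have h2 : C.phiC ((ε, l) * (ε, l)) = 1 := by rw [map_mul, h]
  have h3 : (ε, l) * (ε, l) = 1 := C.phiC_inj (by rw [h2, map_one])
  have h4 : l * l = 1 := congrArg Prod.snd h3
  rcases Dbar_invol C hl h4 with rfl | rfl <;> rcases eps_cases ε with rfl | rfl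
  · exfalso
    apply h1
    rw [C.phiC_apply, map_one, map_one, one_mul]
  · left
    rw [C.phiC_apply, C.epsH_one, map_one, mul_one]
  · right; left
    rw [C.phiC_apply, map_one, one_mul, C.psiP_w]
  · right; right
    rw [C.phiC_apply, C.epsH_one, C.psiP_w]

/-- An element of odd prime order of the torus. -/
theorem RCtx.exists_x₀ (C : RCtx K e) {m : ℕ} (hm : 1 ≤ m) (hK : Fintype.card K = 3 ^ (2 * m + 1)) :
    ∃ (x : ↥(twistedG2 K e)) (p : ℕ), p.Prime ∧ p ≠ 2 ∧ p ∣ Fintype.card K + 1 ∧ x ∈ C.T₀ ∧ x ^ p = 1 ∧ x ≠ 1 := by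
  have h27 : 27 ≤ Fintype.card K := by
    rw [hK]
    calc 27 = 3 ^ 3 := by norm_num
      _ ≤ 3 ^ (2 * m + 1) := Nat.pow_le_pow_right (by norm_num) (by omega)
  have h8 : Fintype.card K % 8 = 3 := by
    rw [hK]
    exact card_mod_eight
  have hT := C.card_T₀
  obtain ⟨f, hf⟩ : ∃ f, Fintype.card K + 1 = 4 * f := ⟨(Fintype.card K + 1) / 4, by omega⟩
  have hf1 : f ≠ 1 := by omega
  have hfo : f % 2 = 1 := by omega
  let p := f.minFac
  have hp : p.Prime := Nat.minFac_prime hf1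
  haveI := Fact.mk hp
  have hpf : p ∣ f := Nat.minFac_dvd f
  have hp2 : p ≠ 2 := by
    intro h
    have : 2 ∣ f := h ▸ hpf
    omega
  have hTc : Nat.card C.T₀ = 2 * f := by omega
  obtain ⟨x, hx⟩ := exists_prime_orderOf_dvd_card' (G := C.T₀) p (by rw [hTc]; exact Dvd.dvd.mul_left hpf _)
  refine ⟨x, p, hp, hp2, ?_, x.2, ?_, ?_⟩
  · rw [hf]
    exact Dvd.dvd.mul_left hpf _
  · have := pow_orderOf_eq_one x
    rw [hx] at this
    exact congrArg Subtype.val this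
  · intro h
    have : x = 1 := Subtype.ext h
    rw [this, orderOf_one] at hx
    exact hp.one_lt.ne hx

lemma comm_aux {Γ : Type*} [Group Γ] {x a b : Γ} (h1 : x * a = a * x) (h2 : x * (a * b) = (a * b) * x) : x * b = b * x := by
  have c1 : Commute x a := h1
  have c2 : Commute x (a * b) := h2
  have c3 : Commute x (a⁻¹ * (a * b)) := c1.inv_right.mul_right c2
  have c4 : Commute x b := by simpa using c3
  exact c4

lemma comm_aux' {Γ : Type*} [Group Γ] {x a b : Γ} (h1 : x * b = b * x) (h2 : x * (a * b) = (a * b) * x) : x * a = a * x := by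
  have c1 : Commute x b := h1
  have c2 : Commute x (a * b) := h2
  have c3 : Commute x ((a * b) * b⁻¹) := c2.mul_right c1.inv_right
  have c4 : Commute x a := by simpa using c3
  exact c4

/-- An element commuting with two elements of `X` commutes with all of `X`. -/
lemma RCtx.comm_of_two {x u v : ↥(twistedG2 K e)} (hu : C.isX u) (hv : C.isX v) (huv : u ≠ v) (h1 : x * u = u * x) (h2 : x * v = v * x) :
    x * C.aI = C.aI * x ∧ x * C.w₁ = C.w₁ * x := by
  rcases hu with rfl | rfl | rfl <;> rcases hv with rfl | rfl | rfl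
  · exact absurd rfl huv
  · exact ⟨h1, h2⟩
  · exact ⟨h1, comm_aux h1 h2⟩
  · exact ⟨h2, h1⟩
  · exact absurd rfl huv
  · exact ⟨comm_aux' h1 h2, h1⟩
  · exact ⟨h2, comm_aux h2 h1⟩
  · exact ⟨comm_aux' h2 h1, h2⟩
  · exact absurd rfl huv

/-- A criterion for normalising `E₀`. -/
theorem RCtx.mem_norm_E₀ (C : RCtx K e) {m : ℕ} (hm : 1 ≤ m) (hK : Fintype.card K = 3 ^ (2 * m + 1)) {g : ↥(twistedG2 K e)}
    (h1 : C.isX (g * C.aI * g⁻¹)) (h2 : C.isX (g * C.w₁ * g⁻¹)) : g ∈ Subgroup.normalizer (C.E₀ : Set ↥(twistedG2 K e)) := by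
  obtain ⟨x, p, hp, hp2, hd, hxT, hxp, hx1⟩ := C.exists_x₀ hm hK
  have hodd := hp.odd_of_ne_two hp2
  have hxE : x ∈ C.E₀ := C.T₀_le_E₀ hxT
  have hxa : x * C.aI = C.aI * x := C.E₀_comm _ hxE _ C.aI_mem_E₀
  have hxw : x * C.w₁ = C.w₁ * x := C.E₀_comm _ hxE _ (C.T₀_le_E₀ C.w₁_mem_T₀)
  have huv : g * C.aI * g⁻¹ ≠ g * C.w₁ * g⁻¹ := by
    intro h
    exact C.aI_ne_w₁ (mul_left_cancel (mul_right_cancel h))
  obtain ⟨c1, c2⟩ := C.comm_of_two h1 h2 huv (conj_comm hxa) (conj_comm hxw)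
  obtain ⟨⟨ε, l⟩, hl⟩ := C.phiC_range_cases c1
  have hx'p : (g * x * g⁻¹) ^ p = 1 := by
    rw [conj_pow, hxp]
    group
  have h3 : C.phiC ((ε, l) ^ p) = 1 := by
    rw [map_pow, hl, hx'p]
  have h4 : (ε, l) ^ p = 1 := C.phiC_inj (by rw [h3, map_one])
  have hε : ε ^ p = 1 := congrArg Prod.fst h4
  have hl' : l ^ p = 1 := congrArg Prod.snd h4
  have hε1 := eps_odd hodd ε hε
  subst hε1
  have hl2 : C.psiP l = g * x * g⁻¹ := by
    rw [← hl, C.phiC_apply, map_one, one_mul]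
  have hlw : l * prS SLP.wz = prS SLP.wz * l := by
    apply C.psiP_inj
    rw [map_mul, map_mul, C.psiP_w, hl2]
    exact c2
  have hlD := odd_comm_Dbar C hodd hl' hlw
  have hT' : g * x * g⁻¹ ∈ C.T₀ := ⟨l, hlD, hl2⟩
  have hx'1 : g * x * g⁻¹ ≠ 1 := fun h => hx1 (conj_eq_one_iff.1 h)
  have e1 := C.cent_T₀ hK hp hp2 hd hxT hxp hx1
  have e2 := C.cent_T₀ hK hp hp2 hd hT' hx'p hx'1
  rw [Subgroup.mem_normalizer_iff]
  intro y
  have e3 : y ∈ C.E₀ ↔ y ∈ Subgroup.centralizer ({x} : Set ↥(twistedG2 K e)) := by rw [e1]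
  have e4 : g * y * g⁻¹ ∈ C.E₀ ↔ g * y * g⁻¹ ∈ Subgroup.centralizer ({g * x * g⁻¹} : Set ↥(twistedG2 K e)) := by rw [e2]
  rw [e3, e4, mem_cent_conj]

/-- The normaliser preserves the involutions. -/
theorem RCtx.norm_isX (C : RCtx K e) {g y : ↥(twistedG2 K e)} (hg : g ∈ Subgroup.normalizer (C.E₀ : Set ↥(twistedG2 K e))) (hy : C.isX y) : C.isX (g * y * g⁻¹) := by
  apply C.E₀_invol
  · exact (Subgroup.mem_normalizer_iff.1 hg y).1 (C.isX_mem hy)
  · have e1 : g * y * g⁻¹ * (g * y * g⁻¹) = g * (y * y) * g⁻¹ := by group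
    rw [e1, C.isX_sq hy]
    group
  · intro h
    exact C.isX_ne_one hy (conj_eq_one_iff.1 h)

/-- `C(a)` acts transitively on the four-groups containing `a`. -/
theorem RCtx.four_trans (C : RCtx K e) {m : ℕ} (hK : Fintype.card K = 3 ^ (2 * m + 1)) {u u' : ↥(twistedG2 K e)}
    (hu : u * u = 1) (hu1 : u ≠ 1) (hua : u ≠ C.aI) (hca : u * C.aI = C.aI * u)
    (hu' : u' * u' = 1) (hu'1 : u' ≠ 1) (hua' : u' ≠ C.aI) (hca' : u' * C.aI = C.aI * u') :
    ∃ c : ↥(twistedG2 K e), c * C.aI = C.aI * c ∧ (c * u * c⁻¹ = u' ∨ c * u * c⁻¹ = C.aI * u') := by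
  obtain ⟨⟨ε, l⟩, rfl⟩ := C.phiC_range_cases hca
  obtain ⟨⟨ε', l'⟩, rfl⟩ := C.phiC_range_cases hca'
  have inv_of : ∀ (δ : Multiplicative (ZMod 2)) (k : ProjectiveSpecialLinearGroup (Fin 2) K), C.phiC (δ, k) * C.phiC (δ, k) = 1 → C.phiC (δ, k) ≠ 1 → C.phiC (δ, k) ≠ C.aI → k * k = 1 ∧ k ≠ 1 := by
    intro δ k h1 h2 h3
    have h4 : C.phiC ((δ, k) * (δ, k)) = 1 := by rw [map_mul, h1]
    have h5 : (δ, k) * (δ, k) = 1 := C.phiC_inj (by rw [h4, map_one])
    refine ⟨congrArg Prod.snd h5, ?_⟩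
    rintro rfl
    rcases eps_cases δ with rfl | rfl
    · apply h2
      rw [C.phiC_apply, map_one, map_one, one_mul]
    · apply h3
      rw [C.phiC_apply, C.epsH_one, map_one, mul_one]
  obtain ⟨a1, a2⟩ := inv_of ε l hu hu1 hua
  obtain ⟨b1, b2⟩ := inv_of ε' l' hu' hu'1 hua'
  have hconj := (psl_invol_conj C hK a1 a2).symm.trans (psl_invol_conj C hK b1 b2)
  obtain ⟨h, hh⟩ := isConj_iff.1 hconj
  refine ⟨C.psiP h, (C.aI_comm_psiP h).symm, ?_⟩
  have e1 : C.psiP h * C.phiC (ε, l) * (C.psiP h)⁻¹ = C.phiC (ε, l') := by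
    rw [C.phiC_apply, C.phiC_apply, ← hh, map_mul, map_mul, map_inv]
    have := C.epsH_comm ε h
    calc C.psiP h * (C.epsH ε * C.psiP l) * (C.psiP h)⁻¹ = (C.psiP h * C.epsH ε) * C.psiP l * (C.psiP h)⁻¹ := by group
      _ = (C.epsH ε * C.psiP h) * C.psiP l * (C.psiP h)⁻¹ := by rw [this]
      _ = _ := by group
  rw [e1]
  rcases eps_cases ε with rfl | rfl <;> rcases eps_cases ε' with rfl | rfl
  · left; rfl
  · right
    rw [C.phiC_apply, C.phiC_apply, C.epsH_one, map_one, one_mul, ← mul_assoc, C.aI_sq, one_mul]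
  · right
    rw [C.phiC_apply, C.phiC_apply, C.epsH_one, map_one, one_mul]
  · left; rfl

/-- The normaliser of `E₀` is transitive on the involutions of `E₀`. -/
theorem RCtx.exists_move_X (C : RCtx K e) {m : ℕ} (hK : Fintype.card K = 3 ^ (2 * m + 1)) {t : ↥(twistedG2 K e)} (ht : C.isX t) :
    ∃ g : ↥(twistedG2 K e), g * C.aI * g⁻¹ = t ∧ C.isX (g * C.w₁ * g⁻¹) := by
  have hcomm : ∀ y z : ↥(twistedG2 K e), C.isX y → C.isX z → y * z = z * y := fun y z hy hz => C.E₀_comm _ (C.isX_mem hy) _ (C.isX_mem hz)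
  obtain ⟨t', ht', hne⟩ : ∃ t', C.isX t' ∧ t' ≠ t := by
    by_cases h : t = C.aI
    · exact ⟨C.w₁, Or.inr (Or.inl rfl), by rw [h]; exact C.aI_ne_w₁.symm⟩
    · exact ⟨C.aI, Or.inl rfl, fun h2 => h h2.symm⟩
  obtain ⟨g₀, hg₀⟩ := isConj_iff.1 (C.invol_conj (C.isX_sq ht) (C.isX_ne_one ht))
  set u' := g₀⁻¹ * t' * g₀ with hu'
  have e0 : g₀ * u' * g₀⁻¹ = t' := by
    rw [hu']
    group
  have hu1 : u' * u' = 1 := by
    have e1 : u' * u' = g₀⁻¹ * (t' * t') * g₀ := by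
      rw [hu']
      group
    rw [e1, C.isX_sq ht']
    group
  have hu2 : u' ≠ 1 := by
    intro h
    rw [h] at e0
    apply C.isX_ne_one ht'
    rw [← e0]
    group
  have hu3 : u' ≠ C.aI := by
    intro h
    rw [h, hg₀] at e0
    exact hne e0.symm
  have hu4 : u' * C.aI = C.aI * u' := by
    apply conj_comm' (k := g₀)
    rw [e0, hg₀]
    exact hcomm _ _ ht' ht
  obtain ⟨c, hc1, hc2⟩ := C.four_trans hK C.w₁_sq C.w₁_ne_one C.aI_ne_w₁.symm C.aI_comm_w₁.symm hu1 hu2 hu3 hu4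
  refine ⟨g₀ * c, ?_, ?_⟩
  · have e1 : g₀ * c * C.aI * (g₀ * c)⁻¹ = g₀ * (c * C.aI * c⁻¹) * g₀⁻¹ := by group
    rw [e1, hc1, mul_assoc C.aI, mul_inv_cancel, mul_one, hg₀]
  · have e1 : g₀ * c * C.w₁ * (g₀ * c)⁻¹ = g₀ * (c * C.w₁ * c⁻¹) * g₀⁻¹ := by group
    rw [e1]
    rcases hc2 with hc2 | hc2
    · rw [hc2, e0]
      exact ht'
    · rw [hc2]
      have e2 : g₀ * (C.aI * u') * g₀⁻¹ = (g₀ * C.aI * g₀⁻¹) * (g₀ * u' * g₀⁻¹) := by group
      rw [e2, hg₀, e0]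
      have hw := C.aI_comm_w₁
      have ha := C.aI_sq
      have hb := C.w₁_sq
      rcases ht with rfl | rfl | rfl <;> rcases ht' with rfl | rfl | rfl
      · exact absurd rfl hne
      · right; right; rfl
      · right; left
        rw [← mul_assoc, ha, one_mul]
      · right; right
        exact hw.symm
      · exact absurd rfl hne
      · left
        calc C.w₁ * (C.aI * C.w₁) = (C.w₁ * C.aI) * C.w₁ := by group
          _ = (C.aI * C.w₁) * C.w₁ := by rw [hw]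
          _ = C.aI * (C.w₁ * C.w₁) := by group
          _ = _ := by rw [hb, mul_one]
      · right; left
        rw [mul_assoc, ← hw, ← mul_assoc, ha, one_mul]
      · left
        rw [mul_assoc, hb, mul_one]
      · exact absurd rfl hne

end ctx

end CfsgLib.Ree
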