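/-
The order of the normaliser of the abelian subgroup `Z₂ × D̄` of the small Ree groups, and the elements conjugate into it.
-/
import Cfsg.Agent.Lib.Ree.NormE

set_option autoImplicit false
set_option synthInstance.maxHeartbeats 400000
set_option synthInstance.maxSize 1024

namespace CfsgLib.Ree

open Cfsg.Lie Cfsg.Lie.ChevalleyDatum CfsgLib.BN CfsgLib.Chev CfsgLib.H9.SL2Cl Matrix

section ctx

variable {K : Type*} [Field K] [Fintype K] {e : ℕ} (C : RCtx K e)

lemma RCtx.phiC_comm_aI (C : RCtx K e) (x : Multiplicative (ZMod 2) × ProjectiveSpecialLinearGroup (Fin 2) K) : C.phiC x * C.aI = C.aI * C.phiC x := by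
  have e1 : C.aI = C.phiC (Multiplicative.ofAdd 1, 1) := by
    rw [C.phiC_apply, C.epsH_one, map_one, mul_one]
  rw [e1, ← map_mul, ← map_mul]
  congr 1
  apply Prod.ext
  · exact mul_comm _ _
  · show x.2 * 1 = 1 * x.2
    rw [mul_one, one_mul]

/-- The order of the normaliser of `E₀`. -/
theorem RCtx.card_norm_E₀ (C : RCtx K e) {m : ℕ} (hm : 1 ≤ m) (hK : Fintype.card K = 3 ^ (2 * m + 1)) :
    Nat.card (Subgroup.normalizer (C.E₀ : Set ↥(twistedG2 K e))) = 6 * (Fintype.card K + 1) := by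
  classical
  set N := Subgroup.normalizer (C.E₀ : Set ↥(twistedG2 K e)) with hN
  have mem : ∀ {y : ↥(twistedG2 K e)}, C.isX y → y ∈ N := fun {y} hy => Subgroup.le_normalizer (C.isX_mem hy)
  have hXa : C.isX C.aI := Or.inl rfl
  have hXw : C.isX C.w₁ := Or.inr (Or.inl rfl)
  have hXaw : C.isX (C.aI * C.w₁) := Or.inr (Or.inr rfl)
  let a' : N := ⟨C.aI, mem hXa⟩
  let w' : N := ⟨C.w₁, mem hXw⟩
  let aw' : N := ⟨C.aI * C.w₁, mem hXaw⟩
  have hcount := conj_count (G := N) ({a'} : Set N) (Subgroup.centralizer ({a'} : Set N))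
    (by
      rintro x rfl n hn
      have h1 : n * a' = a' * n := Subgroup.mem_centralizer_singleton_iff.1 hn
      show n⁻¹ * a' * n = a'
      rw [mul_assoc, ← h1]
      group)
    (by
      rintro x rfl n hn
      have h1 : n⁻¹ * a' * n = a' := hn
      rw [Subgroup.mem_centralizer_singleton_iff]
      calc n * a' = n * (n⁻¹ * a' * n) := by rw [h1]
        _ = a' * n := by group)
  have h3 : Nat.card (conjOf ({a'} : Set N)) = 3 := by
    rw [Nat.card_coe_set_eq, Set.ncard_eq_three]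
    refine ⟨a', w', aw', ?_, ?_, ?_, ?_⟩
    · intro h
      exact C.aI_ne_w₁ (congrArg Subtype.val h)
    · intro h
      have h1 : C.aI = C.aI * C.w₁ := congrArg Subtype.val h
      apply C.w₁_ne_one
      have : C.aI * 1 = C.aI * C.w₁ := by rw [mul_one]; exact h1
      exact (mul_left_cancel this).symm
    · intro h
      have h1 : C.w₁ = C.aI * C.w₁ := congrArg Subtype.val h
      apply C.aI_ne
      have : 1 * C.w₁ = C.aI * C.w₁ := by rw [one_mul]; exact h1
      exact (mul_right_cancel this).symm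
    · ext y
      constructor
      · rintro ⟨x, hx⟩
        have h1 : x⁻¹ * y * x = a' := hx
        have h2 : y = x * a' * x⁻¹ := by
          rw [← h1]
          group
        have h4 : C.isX (y : ↥(twistedG2 K e)) := by
          rw [h2]
          exact C.norm_isX x.2 hXa
        simp only [Set.mem_insert_iff, Set.mem_singleton_iff]
        rcases h4 with h4 | h4 | h4
        · left; exact Subtype.ext h4
        · right; left; exact Subtype.ext h4
        · right; right; exact Subtype.ext h4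
      · intro hy
        have hX : C.isX (y : ↥(twistedG2 K e)) := by
          simp only [Set.mem_insert_iff, Set.mem_singleton_iff] at hy
          rcases hy with rfl | rfl | rfl
          · exact hXa
          · exact hXw
          · exact hXaw
        obtain ⟨g, hg1, hg2⟩ := C.exists_move_X hK hX
        have hgN : g ∈ N := C.mem_norm_E₀ hm hK (by rw [hg1]; exact hX) hg2
        refine ⟨⟨g, hgN⟩, ?_⟩
        show (⟨g, hgN⟩ : N)⁻¹ * y * ⟨g, hgN⟩ = a'
        apply Subtype.ext
        show g⁻¹ * y.1 * g = C.aI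
        rw [← hg1]
        group
  have h4 : Nat.card (Subgroup.centralizer ({a'} : Set N)) = 2 * (Fintype.card K + 1) := by
    let A := Subgroup.centralizer ({prS (SLP.wz : SL2 K)} : Set (ProjectiveSpecialLinearGroup (Fin 2) K))
    have hc2 : Nat.card (Multiplicative (ZMod 2) × A) = 2 * (Fintype.card K + 1) := by
      rw [Nat.card_prod, card_cent_w C]
      congr 1
      simp [Nat.card_eq_fintype_card]
    rw [← hc2]
    symm
    have hmemN : ∀ x : Multiplicative (ZMod 2) × A, C.phiC (x.1, x.2.1) ∈ N := by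
      rintro ⟨ε, l, hl⟩
      have hl' : l * prS SLP.wz = prS SLP.wz * l := Subgroup.mem_centralizer_singleton_iff.1 hl
      have e1 : C.phiC (ε, l) * C.aI = C.aI * C.phiC (ε, l) := C.phiC_comm_aI _
      have e2 : C.phiC (ε, l) * C.w₁ = C.w₁ * C.phiC (ε, l) := by
        rw [C.phiC_apply, ← C.psiP_w, mul_assoc, ← map_mul, hl', map_mul, ← mul_assoc, ← mul_assoc, C.epsH_comm]
      apply C.mem_norm_E₀ hm hK
      · rw [e1, mul_assoc, mul_inv_cancel, mul_one]
        exact hXa
      · rw [e2, mul_assoc, mul_inv_cancel, mul_one]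
        exact hXw
    have hmemC : ∀ x : Multiplicative (ZMod 2) × A, (⟨_, hmemN x⟩ : N) ∈ Subgroup.centralizer ({a'} : Set N) := by
      rintro ⟨ε, l, hl⟩
      rw [Subgroup.mem_centralizer_singleton_iff]
      apply Subtype.ext
      exact C.phiC_comm_aI _
    apply Nat.card_congr
    refine Equiv.ofBijective (fun x => (⟨⟨_, hmemN x⟩, hmemC x⟩ : Subgroup.centralizer ({a'} : Set N))) ⟨?_, ?_⟩
    · rintro ⟨ε, l, hl⟩ ⟨ε', l', hl'⟩ h
      have h1 : C.phiC (ε, l) = C.phiC (ε', l') := congrArg (fun x : Subgroup.centralizer ({a'} : Set N) => ((x : N) : ↥(twistedG2 K e))) h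
      have h2 := C.phiC_inj h1
      have h3 : ε = ε' := congrArg Prod.fst h2
      have h4 : l = l' := congrArg Prod.snd h2
      subst h3
      subst h4
      rfl
    · rintro ⟨⟨g, hg⟩, hgc⟩
      have hgc' : g * C.aI = C.aI * g := congrArg Subtype.val (Subgroup.mem_centralizer_singleton_iff.1 hgc)
      obtain ⟨⟨ε, l⟩, rfl⟩ := C.phiC_range_cases hgc'
      have hX := C.norm_isX hg hXw
      have e0 : C.w₁ = C.phiC (1, prS SLP.wz) := by
        rw [C.phiC_apply, map_one, one_mul, C.psiP_w]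
      have e1 : C.phiC (ε, l) * C.w₁ * (C.phiC (ε, l))⁻¹ = C.psiP (l * prS SLP.wz * l⁻¹) := by
        rw [e0, ← map_inv, ← map_mul, ← map_mul]
        have e3 : (ε, l) * (1, prS SLP.wz) * (ε, l)⁻¹ = ((1 : Multiplicative (ZMod 2)), l * prS SLP.wz * l⁻¹) :=
          Prod.ext (by simp) rfl
        rw [e3, C.phiC_apply, map_one, one_mul]
      rw [e1] at hX
      have hl : l ∈ A := by
        rcases hX with h5 | h5 | h5
        · exact absurd h5 (C.psiP_ne_aI _)
        · rw [← C.psiP_w] at h5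
          have h6 := C.psiP_inj h5
          show l ∈ Subgroup.centralizer _
          rw [Subgroup.mem_centralizer_singleton_iff]
          rw [mul_inv_eq_iff_eq_mul] at h6
          exact h6
        · exfalso
          apply C.psiP_ne_aI (l * prS SLP.wz * l⁻¹ * (prS SLP.wz)⁻¹)
          rw [map_mul, h5, map_inv, C.psiP_w]
          group
      exact ⟨(ε, ⟨l, hl⟩), Subtype.ext (Subtype.ext rfl)⟩
  rw [h3, h4] at hcount
  have h5 : Nat.card ({a'} : Set N) = 1 := by simp
  rw [h5, mul_one] at hcount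
  rw [← hcount]
  ring

/-- A power of prime order. -/
lemma exists_prime_power {Γ : Type*} [Group Γ] [Finite Γ] {z : Γ} (hz : z ≠ 1) :
    ∃ (k r : ℕ), r.Prime ∧ r ∣ orderOf z ∧ (z ^ k) ^ r = 1 ∧ z ^ k ≠ 1 := by
  have ho1 : orderOf z ≠ 1 := fun h => hz (orderOf_eq_one_iff.1 h)
  let r := (orderOf z).minFac
  have hr : r.Prime := Nat.minFac_prime ho1
  have hrd : r ∣ orderOf z := Nat.minFac_dvd _
  obtain ⟨k, hk⟩ := hrd
  refine ⟨k, r, hr, Nat.minFac_dvd _, ?_, ?_⟩
  · rw [← pow_mul, mul_comm, ← hk, pow_orderOf_eq_one]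
  · have hk0 : 0 < k := by
      rcases Nat.eq_zero_or_pos k with h | h
      · rw [h, mul_zero] at hk
        exact absurd hk (orderOf_pos z).ne'
      · exact h
    intro h
    have h1 := orderOf_dvd_of_pow_eq_one h
    have h2 := Nat.le_of_dvd hk0 h1
    rw [hk] at h2
    have := hr.two_le
    nlinarith

/-- The elements of `E₀` of order greater than two. -/
def RCtx.S₀ (C : RCtx K e) : Set ↥(twistedG2 K e) := {y | y ∈ C.E₀ ∧ y * y ≠ 1}

/-- An element of `S₀` has a power of odd prime order in the torus. -/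
lemma RCtx.S₀_power (C : RCtx K e) {m : ℕ} (hK : Fintype.card K = 3 ^ (2 * m + 1)) {y : ↥(twistedG2 K e)} (hy : y ∈ C.S₀) :
    ∃ (k r : ℕ), r.Prime ∧ r ≠ 2 ∧ r ∣ Fintype.card K + 1 ∧ y ^ k ∈ C.T₀ ∧ (y ^ k) ^ r = 1 ∧ y ^ k ≠ 1 := by
  obtain ⟨hE, hne⟩ := hy
  obtain ⟨ε, l, hl, rfl⟩ := C.mem_E₀.1 hE
  have h8 : Fintype.card K % 8 = 3 := by
    rw [hK]
    exact card_mod_eight
  have hc := card_Dbar C
  obtain ⟨f, hf⟩ : ∃ f, Nat.card (Dbar K) = 2 * f := ⟨Nat.card (Dbar K) / 2, by omega⟩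
  have hfo : f % 2 = 1 := by omega
  have hsq : C.phiC (ε, l) ^ 2 = C.psiP (l ^ 2) := by
    rw [← map_pow]
    have : (ε, l) ^ 2 = ((1 : Multiplicative (ZMod 2)), l ^ 2) := by
      apply Prod.ext
      · show ε ^ 2 = 1
        rw [sq, eps_sq]
      · rfl
    rw [this, C.phiC_apply, map_one, one_mul]
  have hne2 : C.phiC (ε, l) ^ 2 ≠ 1 := by
    rw [sq]
    exact hne
  have hlf : (l ^ 2) ^ f = 1 := by
    rw [← pow_mul, ← hf]
    have := pow_card_eq_one' (x := (⟨l, hl⟩ : Dbar K))
    exact congrArg Subtype.val this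
  have hz2 : C.psiP (l ^ 2) ^ f = 1 := by
    rw [← map_pow, hlf, map_one]
  rw [hsq] at hne2
  obtain ⟨k, r, hr, hrd, hr1, hr2⟩ := exists_prime_power hne2
  have hrf : r ∣ f := hrd.trans (orderOf_dvd_of_pow_eq_one hz2)
  have hr0 : r ≠ 2 := by
    rintro rfl
    omega
  refine ⟨2 * k, r, hr, hr0, ?_, ?_, ?_, ?_⟩
  · have : Fintype.card K + 1 = 2 * (2 * f) := by rw [← hf, hc]
    rw [this]
    exact Dvd.dvd.mul_left (Dvd.dvd.mul_left hrf _) _
  · rw [pow_mul, hsq]
    refine ⟨(l ^ 2) ^ k, pow_mem (pow_mem hl _) _, ?_⟩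
    rw [map_pow]
  · rw [pow_mul, hsq]
    exact hr1
  · rw [pow_mul, hsq]
    exact hr2

/-- The centraliser of an element of `S₀`. -/
theorem RCtx.S₀_cent (C : RCtx K e) {m : ℕ} (hK : Fintype.card K = 3 ^ (2 * m + 1)) {y : ↥(twistedG2 K e)} (hy : y ∈ C.S₀) :
    Subgroup.centralizer ({y} : Set ↥(twistedG2 K e)) = C.E₀ := by
  obtain ⟨k, r, hr, hr0, hrd, hT, hr1, hr2⟩ := C.S₀_power hK hy
  have e1 := C.cent_T₀ hK hr hr0 hrd hT hr1 hr2
  apply le_antisymm
  · intro a ha
    rw [← e1, Subgroup.mem_centralizer_singleton_iff]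
    exact Commute.pow_right (Subgroup.mem_centralizer_singleton_iff.1 ha) k
  · intro a ha
    rw [Subgroup.mem_centralizer_singleton_iff]
    exact C.E₀_comm _ ha _ hy.1

/-- The elements of `S₀` have no fixed points. -/
theorem RCtx.S₀_fpf (C : RCtx K e) {m : ℕ} (hK : Fintype.card K = 3 ^ (2 * m + 1)) {y : ↥(twistedG2 K e)} (hy : y ∈ C.S₀) (w : Pts K e) : y • w ≠ w := by
  obtain ⟨k, r, hr, hr0, hrd, hT, hr1, hr2⟩ := C.S₀_power hK hy
  intro h
  have hq3 : 3 ≤ Fintype.card K := by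
    rw [hK, pow_succ]
    have := Nat.one_le_pow (2 * m) 3 (by norm_num)
    omega
  have h3 : r ≠ 3 := by
    have := hrd
    rw [hK] at this
    exact arith_not_three this
  obtain ⟨a1, a2⟩ := arith_plus hr hr0 h3 hrd hq3
  have a3 : ¬ r ∣ Fintype.card K := by
    rw [hK]
    exact arith_three hr h3
  refine C.no_fix hr ?_ hr1 hr2 w ?_
  · intro h5
    rcases (Nat.Prime.dvd_mul hr).1 h5 with h6 | h6
    · exact a3 (hr.dvd_of_dvd_pow h6)
    · exact a1 h6
  · have key : ∀ n : ℕ, y ^ n • w = w := by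
      intro n
      induction n with
      | zero => simp
      | succ n ih => rw [pow_succ, mul_smul, h, ih]
    exact key k

/-- The number of elements of `S₀`. -/
theorem RCtx.card_S₀ (C : RCtx K e) {m : ℕ} (hm : 1 ≤ m) (hK : Fintype.card K = 3 ^ (2 * m + 1)) : Nat.card C.S₀ = Fintype.card K - 3 := by
  classical
  have hE : ((C.E₀ : Subgroup ↥(twistedG2 K e)) : Set ↥(twistedG2 K e)) = C.S₀ ∪ {1, C.aI, C.w₁, C.aI * C.w₁} := by
    ext y
    constructor
    · intro hy
      by_cases h : y * y = 1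
      · right
        by_cases h1 : y = 1
        · simp [h1]
        · rcases C.E₀_invol hy h h1 with h2 | h2 | h2 <;> simp [h2]
      · left
        exact ⟨hy, h⟩
    · rintro (h | h)
      · exact h.1
      · simp only [Set.mem_insert_iff, Set.mem_singleton_iff] at h
        rcases h with rfl | rfl | rfl | rfl
        · exact one_mem _
        · exact C.isX_mem (Or.inl rfl)
        · exact C.isX_mem (Or.inr (Or.inl rfl))
        · exact C.isX_mem (Or.inr (Or.inr rfl))
  have hd : Disjoint C.S₀ ({1, C.aI, C.w₁, C.aI * C.w₁} : Set ↥(twistedG2 K e)) := by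
    rw [Set.disjoint_left]
    rintro y ⟨-, h⟩ h2
    apply h
    simp only [Set.mem_insert_iff, Set.mem_singleton_iff] at h2
    rcases h2 with rfl | rfl | rfl | rfl
    · simp
    · exact C.isX_sq (Or.inl rfl)
    · exact C.isX_sq (Or.inr (Or.inl rfl))
    · exact C.isX_sq (Or.inr (Or.inr rfl))
  have hc4 : ({1, C.aI, C.w₁, C.aI * C.w₁} : Set ↥(twistedG2 K e)).ncard = 4 := by
    rw [Set.ncard_eq_toFinset_card']
    have ne1 : (1 : ↥(twistedG2 K e)) ≠ C.aI := C.aI_ne.symm
    have ne2 : (1 : ↥(twistedG2 K e)) ≠ C.w₁ := C.w₁_ne_one.symm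
    have ne3 : (1 : ↥(twistedG2 K e)) ≠ C.aI * C.w₁ := C.aw_ne_one.symm
    have ne4 : C.aI ≠ C.w₁ := C.aI_ne_w₁
    have ne5 : C.aI ≠ C.aI * C.w₁ := by
      intro h
      apply C.w₁_ne_one
      have : C.aI * 1 = C.aI * C.w₁ := by rw [mul_one]; exact h
      exact (mul_left_cancel this).symm
    have ne6 : C.w₁ ≠ C.aI * C.w₁ := by
      intro h
      apply C.aI_ne
      have : 1 * C.w₁ = C.aI * C.w₁ := by rw [one_mul]; exact h
      exact (mul_right_cancel this).symm
    simp [Set.toFinset_insert, Set.toFinset_singleton, ne1, ne2, ne3, ne4, ne5, ne6]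
  have h1 := Set.ncard_union_eq hd (Set.toFinite _) (Set.toFinite _)
  rw [← hE, hc4] at h1
  have h2 : ((C.E₀ : Subgroup ↥(twistedG2 K e)) : Set ↥(twistedG2 K e)).ncard = Fintype.card K + 1 := by
    rw [← Nat.card_coe_set_eq]
    exact C.card_E₀
  rw [Nat.card_coe_set_eq]
  omega

/-- The number of elements conjugate into `S₀`. -/
theorem RCtx.card_conj_S₀ (C : RCtx K e) {m : ℕ} (hm : 1 ≤ m) (hK : Fintype.card K = 3 ^ (2 * m + 1)) :
    Nat.card (conjOf C.S₀) * (6 * (Fintype.card K + 1)) = Nat.card ↥(twistedG2 K e) * (Fintype.card K - 3) := by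
  rw [← C.card_norm_E₀ hm hK, ← C.card_S₀ hm hK]
  apply conj_count
  · rintro a ⟨ha, ha1⟩ n hn
    refine ⟨?_, ?_⟩
    · have := (Subgroup.mem_normalizer_iff.1 (inv_mem hn) a).1 ha
      simpa using this
    · intro h
      apply ha1
      have e1 : n⁻¹ * a * n * (n⁻¹ * a * n) = n⁻¹ * (a * a) * n := by group
      rw [e1] at h
      have e2 : a * a = n * (n⁻¹ * (a * a) * n) * n⁻¹ := by group
      rw [e2, h]
      group
  · intro a ha n hn
    have e1 := C.S₀_cent hK ha
    have e2 := C.S₀_cent hK hn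
    rw [Subgroup.mem_normalizer_iff]
    intro y
    have e3 : y ∈ C.E₀ ↔ y ∈ Subgroup.centralizer ({n⁻¹ * a * n} : Set ↥(twistedG2 K e)) := by rw [e2]
    have e4 : n * y * n⁻¹ ∈ C.E₀ ↔ n * y * n⁻¹ ∈ Subgroup.centralizer ({n * (n⁻¹ * a * n) * n⁻¹} : Set ↥(twistedG2 K e)) := by
      have e5 : n * (n⁻¹ * a * n) * n⁻¹ = a := by group
      rw [e5, e1]
    rw [e3, e4, mem_cent_conj]

end ctx

end CfsgLib.Ree
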