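/-
The number of fixed point free elements of the small Ree groups.
-/
import Cfsg.Agent.Lib.Ree.NormE2

set_option autoImplicit false
set_option synthInstance.maxHeartbeats 400000
set_option synthInstance.maxSize 1024

namespace CfsgLib.Ree

open Cfsg.Lie Cfsg.Lie.ChevalleyDatum CfsgLib.BN CfsgLib.Chev CfsgLib.H9.SL2Cl Matrix

section ctx

variable {K : Type*} [Field K] [Fintype K] {e : ℕ} (C : RCtx K e)

/-- Fixed point free elements. -/
def Fpf (g : ↥(twistedG2 K e)) : Prop := ∀ w : Pts K e, g • w ≠ w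

lemma Fpf.ne_one {g : ↥(twistedG2 K e)} (h : Fpf g) : g ≠ 1 := by
  rintro rfl
  exact h ptI (one_smul _ _)

lemma Fpf.conj {g : ↥(twistedG2 K e)} (h : Fpf g) (x : ↥(twistedG2 K e)) : Fpf (x * g * x⁻¹) := by
  intro w hw
  apply h (x⁻¹ • w)
  rw [mul_smul, mul_smul] at hw
  rw [← inv_smul_eq_iff.2 hw.symm]

lemma Fpf.of_conj {g x : ↥(twistedG2 K e)} (h : Fpf (x * g * x⁻¹)) : Fpf g := by
  have := h.conj x⁻¹
  have e1 : x⁻¹ * (x * g * x⁻¹) * x⁻¹⁻¹ = g := by group
  rwa [e1] at this

/-- Fixed point free elements fall into two types. -/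
theorem RCtx.fpf_cases (C : RCtx K e) {m : ℕ} (hK : Fintype.card K = 3 ^ (2 * m + 1)) {g : ↥(twistedG2 K e)} (hg : Fpf g) :
    g ∈ conjOf C.S₀ ∨ ∃ T, C.IsOT T ∧ g ∈ T ∧ g ≠ 1 := by
  classical
  have hg1 := hg.ne_one
  have hq1 : 1 ≤ Fintype.card K := Fintype.card_pos
  have hq3 : 3 ≤ Fintype.card K := by
    rw [hK, pow_succ]
    have := Nat.one_le_pow (2 * m) 3 (by norm_num)
    omega
  have hgg : g * g ≠ 1 := by
    intro h
    obtain ⟨w, hw⟩ := C.invol_has_fix h hg1
    exact hg w hw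
  -- an odd prime divisor of the order
  have hodd : ∃ r : ℕ, r.Prime ∧ r ≠ 2 ∧ r ∣ orderOf g := by
    by_contra hno
    push Not at hno
    have h1 : orderOf g = 2 ^ (orderOf g).primeFactorsList.length := by
      apply Nat.eq_prime_pow_of_unique_prime_dvd (orderOf_pos g).ne'
      intro d hd hd2
      by_contra h2
      exact hno d hd h2 hd2
    haveI : Fact (Nat.Prime 2) := ⟨Nat.prime_two⟩
    have h2 : g ^ 2 ^ (orderOf g).primeFactorsList.length = 1 := by
      rw [← h1]
      exact pow_orderOf_eq_one g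
    have hP := zpowers_isP h2
    obtain ⟨S, hS⟩ := hP.exists_le_sylow
    exact hgg ((C.sylow_two_spec hK S).2 g (hS (Subgroup.mem_zpowers g)))
  obtain ⟨r, hr, hr2, hrd⟩ := hodd
  obtain ⟨k, hk⟩ := hrd
  have hk0 : 0 < k := by
    rcases Nat.eq_zero_or_pos k with h | h
    · rw [h, mul_zero] at hk
      exact absurd hk (orderOf_pos g).ne'
    · exact h
  have hg₁r : (g ^ k) ^ r = 1 := by
    rw [← pow_mul, mul_comm, ← hk, pow_orderOf_eq_one]
  have hg₁1 : g ^ k ≠ 1 := by
    intro h
    have h1 := orderOf_dvd_of_pow_eq_one h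
    have h2 := Nat.le_of_dvd hk0 h1
    rw [hk] at h2
    have := hr.two_le
    nlinarith
  have hcomm : g * g ^ k = g ^ k * g := (Commute.refl g).pow_right k
  have hrG : r ∣ Nat.card ↥(twistedG2 K e) := (Dvd.intro k hk.symm).trans (orderOf_dvd_natCard g)
  rw [C.card_G, q_cube hq1] at hrG
  by_cases hr3 : r = 3
  · -- elements of order three
    subst hr3
    exfalso
    have hx : (g ^ k) ^ 3 ^ 1 = 1 := by rwa [pow_one]
    obtain ⟨w, hw⟩ := C.exists_fix_three (n := 2 * m) hK hx
    have h2 : g ^ k • (g • w) = g • w := by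
      rw [← mul_smul, ← hcomm, mul_smul, hw]
    have hne : w ≠ g • w := fun h => hg w h.symm
    exact hg₁1 (C.eq_one_of_fix_two (n := 2 * m + 1) hK hx hne hw h2)
  have hrq : ¬ r ∣ Fintype.card K := by
    rw [hK]
    exact arith_three hr hr3
  by_cases h1 : r ∣ Fintype.card K - 1
  · exfalso
    obtain ⟨x, y, hy, hxy⟩ := C.prop_H (n := 2 * m) hK hr hr2 h1 hg₁r hg₁1
    have e1 := C.cent_rH hy
    rw [← hxy] at e1
    have h2 : x * g * x⁻¹ ∈ C.rH.range := by
      rw [← e1, mem_cent_conj, Subgroup.mem_centralizer_singleton_iff]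
      exact hcomm
    obtain ⟨y', hy'⟩ := h2
    have h3 := (hg.conj x) ptI
    rw [← hy'] at h3
    exact h3 (C.rH_smul_ptI y')
  by_cases h2 : r ∣ Fintype.card K + 1
  · left
    obtain ⟨x, -, e1⟩ := C.cent_plus hK hr hr2 h2 hg₁r hg₁1
    refine ⟨x⁻¹, ?_, ?_⟩
    · rw [inv_inv]
      rw [← e1, mem_cent_conj, Subgroup.mem_centralizer_singleton_iff]
      exact hcomm
    · rw [inv_inv]
      intro h
      apply hgg
      have e2 : x * g * x⁻¹ * (x * g * x⁻¹) = x * (g * g) * x⁻¹ := by group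
      rw [e2] at h
      exact conj_eq_one_iff.1 h
  · right
    have h4 : r ∣ Fintype.card K ^ 2 - Fintype.card K + 1 := by
      rcases (Nat.Prime.dvd_mul hr).1 hrG with h5 | h5
      · rcases (Nat.Prime.dvd_mul hr).1 h5 with h5 | h5
        · exact absurd (hr.dvd_of_dvd_pow h5) hrq
        · exact absurd h5 h1
      · rcases (Nat.Prime.dvd_mul hr).1 h5 with h5 | h5
        · exact absurd h5 h2
        · exact h5
    exact ⟨_, ⟨g ^ k, r, hr, h4, hg₁r, hg₁1, rfl⟩, Subgroup.mem_centralizer_singleton_iff.2 hcomm, hg1⟩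

/-- Elements conjugate into `S₀` are fixed point free. -/
theorem RCtx.conj_S₀_fpf (C : RCtx K e) {m : ℕ} (hK : Fintype.card K = 3 ^ (2 * m + 1)) {y : ↥(twistedG2 K e)} (hy : y ∈ conjOf C.S₀) : Fpf y := by
  obtain ⟨x, hx⟩ := hy
  have : Fpf (x⁻¹ * y * x⁻¹⁻¹) := by
    rw [inv_inv]
    exact fun w => C.S₀_fpf hK hx w
  exact Fpf.of_conj this

/-- The two types are disjoint. -/
theorem RCtx.conj_S₀_not_O (C : RCtx K e) {m : ℕ} (hK : Fintype.card K = 3 ^ (2 * m + 1)) {y : ↥(twistedG2 K e)} (hy : y ∈ conjOf C.S₀) {T : Subgroup ↥(twistedG2 K e)} (hT : C.IsOT T) : y ∉ T := by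
  classical
  intro hyT
  obtain ⟨x, hx⟩ := hy
  obtain ⟨k, r, hr, hr0, hrd, -, hr1, hr2⟩ := C.S₀_power hK hx
  have e1 : (x⁻¹ * y * x) ^ k = x⁻¹ * y ^ k * x := by
    have := conj_pow (a := x⁻¹) (b := y) (i := k)
    rwa [inv_inv] at this
  rw [e1] at hr1 hr2
  have h1 : y ^ k ≠ 1 := by
    intro h
    apply hr2
    rw [h]
    group
  have h2 : (y ^ k) ^ r = 1 := by
    have e2 : (x⁻¹ * y ^ k * x) ^ r = x⁻¹ * (y ^ k) ^ r * x := by
      have := conj_pow (a := x⁻¹) (b := y ^ k) (i := r)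
      rwa [inv_inv] at this
    rw [e2] at hr1
    have e3 : (y ^ k) ^ r = x * (x⁻¹ * (y ^ k) ^ r * x) * x⁻¹ := by group
    rw [e3, hr1]
    group
  haveI := Fact.mk hr
  have hmem : y ^ k ∈ T := pow_mem hyT k
  have ho : orderOf (⟨y ^ k, hmem⟩ : T) = r := by
    apply orderOf_eq_prime
    · exact Subtype.ext h2
    · intro h
      exact h1 (congrArg Subtype.val h)
  have hdv := orderOf_dvd_natCard (⟨y ^ k, hmem⟩ : T)
  rw [ho] at hdv
  have hN := hdv.trans (hT.card_dvd hK)
  have hq3 : 3 ≤ Fintype.card K := by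
    rw [hK, pow_succ]
    have := Nat.one_le_pow (2 * m) 3 (by norm_num)
    omega
  have h3 : r ≠ 3 := by
    have := hrd
    rw [hK] at this
    exact arith_not_three this
  exact (arith_plus hr hr0 h3 hrd hq3).2 hN

/-- The order of the stabiliser of a point. -/
theorem RCtx.card_stab_pt (C : RCtx K e) (a : Pts K e) : Nat.card (MulAction.stabilizer ↥(twistedG2 K e) a) = Fintype.card K ^ 3 * (Fintype.card K - 1) := by
  have h1 := MulAction.index_stabilizer_of_transitive ↥(twistedG2 K e) a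
  rw [C.card_pts] at h1
  have h2 := (MulAction.stabilizer ↥(twistedG2 K e) a).card_mul_index
  rw [h1, C.card_G] at h2
  have h3 : 0 < Fintype.card K ^ 3 + 1 := by positivity
  apply Nat.eq_of_mul_eq_mul_right h3
  rw [h2]
  ring

/-- The order of the stabiliser of two points. -/
theorem RCtx.card_two_stab (C : RCtx K e) {a b : Pts K e} (hab : a ≠ b) : Nat.card {g : ↥(twistedG2 K e) // g • a = a ∧ g • b = b} = Fintype.card K - 1 := by
  classical
  obtain ⟨t, h1, h2⟩ := C.exists_move hab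
  rw [← C.card_units]
  symm
  apply Nat.card_congr
  have hfix : ∀ y : Kˣ, (t⁻¹ * C.rH y * t) • a = a ∧ (t⁻¹ * C.rH y * t) • b = b := by
    intro y
    constructor
    · rw [mul_smul, mul_smul, h1, C.rH_smul_ptI, ← h1, inv_smul_smul]
    · rw [mul_smul, mul_smul, h2, C.rH_smul_ptF]
      simp only [mul_zero]
      rw [← h2, inv_smul_smul]
  refine Equiv.ofBijective (fun y => ⟨t⁻¹ * C.rH y * t, hfix y⟩) ⟨?_, ?_⟩
  · intro y y' h
    have h3 : t⁻¹ * C.rH y * t = t⁻¹ * C.rH y' * t := congrArg Subtype.val h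
    exact C.rH_inj (mul_left_cancel (mul_right_cancel h3))
  · rintro ⟨g, ha, hb⟩
    have f1 : (t * g * t⁻¹) • (ptI : Pts K e) = ptI := by
      rw [← h1, mul_smul, mul_smul, inv_smul_smul, ha]
    have f2 : (t * g * t⁻¹) • C.ptF 0 0 0 = C.ptF 0 0 0 := by
      rw [← h2, mul_smul, mul_smul, inv_smul_smul, hb]
    obtain ⟨y, hy⟩ := C.stab_two f1 f2
    refine ⟨y, Subtype.ext ?_⟩
    show t⁻¹ * C.rH y * t = g
    rw [← hy]
    group

/-- The number of fixed points of an involution. -/
theorem RCtx.card_fix_invol (C : RCtx K e) {t : ↥(twistedG2 K e)} (ht : t * t = 1) (ht1 : t ≠ 1) : Nat.card {x : Pts K e // t • x = x} = Fintype.card K + 1 := by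
  obtain ⟨k, hk⟩ := isConj_iff.1 (C.invol_conj ht ht1)
  rw [← C.card_fix_aI]
  apply Nat.card_congr
  refine ⟨fun x => ⟨k⁻¹ • x.1, ?_⟩, fun x => ⟨k • x.1, ?_⟩, ?_, ?_⟩
  · have h5 : t • x.1 = x.1 := x.2
    have h6 : (k * C.aI * k⁻¹) • x.1 = x.1 := by rw [hk]; exact h5
    rw [mul_smul, mul_smul] at h6
    exact eq_inv_smul_iff.2 h6
  · rw [← hk, mul_smul, mul_smul, inv_smul_smul, x.2]
  · intro x
    apply Subtype.ext
    exact smul_inv_smul _ _
  · intro x
    apply Subtype.ext
    exact inv_smul_smul _ _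

/-- The number of involutions. -/
theorem RCtx.card_invol (C : RCtx K e) : Nat.card {t : ↥(twistedG2 K e) // t * t = 1 ∧ t ≠ 1} = Fintype.card K ^ 2 * (Fintype.card K ^ 2 - Fintype.card K + 1) := by
  rw [← C.card_class]
  apply Nat.card_congr
  apply Equiv.subtypeEquivRight
  intro t
  rw [ConjClasses.mem_carrier_iff_mk_eq, ConjClasses.mk_eq_mk_iff_isConj]
  constructor
  · rintro ⟨h1, h2⟩
    exact (C.invol_conj h1 h2).symm
  · intro h
    obtain ⟨k, rfl⟩ := isConj_iff.1 h.symm
    constructor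
    · have e1 : (k * C.aI * k⁻¹) * (k * C.aI * k⁻¹) = k * (C.aI * C.aI) * k⁻¹ := by group
      rw [e1, C.aI_sq]
      group
    · exact fun h => C.aI_ne (conj_eq_one_iff.1 h)

/-- The number of fixed point free elements. -/
theorem RCtx.card_fpf (C : RCtx K e) {m : ℕ} (hK : Fintype.card K = 3 ^ (2 * m + 1)) :
    2 * Nat.card {g : ↥(twistedG2 K e) // Fpf g} + Fintype.card K ^ 3 * (Fintype.card K - 1) * (Fintype.card K ^ 2 - Fintype.card K + 1) + Fintype.card K ^ 3 * (Fintype.card K ^ 3 - 1) = Nat.card ↥(twistedG2 K e) := by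
  classical
  haveI : Fintype ↥(twistedG2 K e) := Fintype.ofFinite _
  haveI : Fintype (Pts K e) := Fintype.ofFinite _
  set q := Fintype.card K with hq
  have hq1 : 1 ≤ q := Fintype.card_pos
  set k : ↥(twistedG2 K e) → ℕ := fun g => (Finset.univ.filter (fun a : Pts K e => g • a = a)).card with hk
  have hO : Fintype.card (Pts K e) = q ^ 3 + 1 := by
    rw [← Nat.card_eq_fintype_card, C.card_pts]
  set n := Nat.card ↥(twistedG2 K e) with hn
  have hn' : Fintype.card ↥(twistedG2 K e) = n := by rw [hn, Nat.card_eq_fintype_card]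
  have hnW : n = (q ^ 3 + 1) * (q ^ 3 * (q - 1)) := by
    rw [hn, C.card_G]
    ring
  -- the first moment
  have hst : ∀ a : Pts K e, (Finset.univ.filter (fun g : ↥(twistedG2 K e) => g • a = a)).card = q ^ 3 * (q - 1) := by
    intro a
    rw [← C.card_stab_pt a, ← Fintype.card_subtype, Nat.card_eq_fintype_card]
    exact Fintype.card_congr (Equiv.refl _)
  have hfirst : ∑ g, k g = n := by
    have h1 : ∑ g, k g = ∑ a : Pts K e, (Finset.univ.filter (fun g : ↥(twistedG2 K e) => g • a = a)).card := by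
      simp only [hk, Finset.card_filter]
      rw [Finset.sum_comm]
    rw [h1]
    simp only [hst]
    rw [Finset.sum_const, Finset.card_univ, smul_eq_mul, hO, hnW]
  -- the second moment
  have hpair : ∀ a b : Pts K e, (Finset.univ.filter (fun g : ↥(twistedG2 K e) => g • a = a ∧ g • b = b)).card = if a = b then q ^ 3 * (q - 1) else q - 1 := by
    intro a b
    by_cases hab : a = b
    · subst hab
      rw [if_pos rfl]
      simp only [and_self]
      rw [hst]
    · rw [if_neg hab, ← Fintype.card_subtype, ← Nat.card_eq_fintype_card]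
      exact C.card_two_stab hab
  have hsecond : ∑ g, k g ^ 2 = 2 * n := by
    have h1 : ∀ g : ↥(twistedG2 K e), k g ^ 2 = ∑ a : Pts K e, ∑ b : Pts K e, if g • a = a ∧ g • b = b then 1 else 0 := by
      intro g
      simp only [hk, Finset.card_filter]
      rw [pow_two, Finset.sum_mul_sum]
      apply Finset.sum_congr rfl
      intro a _
      apply Finset.sum_congr rfl
      intro b _
      by_cases h1 : g • a = a <;> by_cases h2 : g • b = b <;> simp [h1, h2]
    simp only [h1]
    have h2 : ∑ g : ↥(twistedG2 K e), ∑ a : Pts K e, ∑ b : Pts K e, (if g • a = a ∧ g • b = b then 1 else 0) = ∑ a : Pts K e, ∑ b : Pts K e, (Finset.univ.filter (fun g : ↥(twistedG2 K e) => g • a = a ∧ g • b = b)).card := by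
      rw [Finset.sum_comm]
      apply Finset.sum_congr rfl
      intro a _
      rw [Finset.sum_comm]
      apply Finset.sum_congr rfl
      intro b _
      rw [Finset.card_filter]
    rw [h2]
    simp only [hpair]
    have h3 : ∀ a : Pts K e, ∑ b : Pts K e, (if a = b then q ^ 3 * (q - 1) else q - 1) = 2 * (q ^ 3 * (q - 1)) := by
      intro a
      have e7 : ∀ b : Pts K e, (if a = b then q ^ 3 * (q - 1) else q - 1) = (if a = b then q ^ 3 * (q - 1) else 0) + (if a = b then 0 else q - 1) := by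
        intro b
        by_cases h : a = b <;> simp [h]
      simp only [e7]
      rw [Finset.sum_add_distrib, Finset.sum_ite_eq]
      simp only [Finset.mem_univ, if_true]
      have e2 : ∑ b : Pts K e, (if a = b then 0 else q - 1) = (Finset.univ.filter (fun b : Pts K e => a ≠ b)).card * (q - 1) := by
        rw [← smul_eq_mul, ← Finset.sum_const, Finset.sum_filter]
        apply Finset.sum_congr rfl
        intro b _
        by_cases h : a = b <;> simp [h]
      have e3 : (Finset.univ.filter (fun b : Pts K e => a ≠ b)).card = q ^ 3 := by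
        have e4 := Finset.card_filter_add_card_filter_not (s := (Finset.univ : Finset (Pts K e))) (fun b => a = b)
        rw [Finset.filter_eq, if_pos (Finset.mem_univ a), Finset.card_singleton, Finset.card_univ, hO] at e4
        simp only [ne_eq]
        omega
      rw [e2, e3]
      ring
    simp only [h3]
    rw [Finset.sum_const, Finset.card_univ, hO, smul_eq_mul, hnW]
    ring
  -- the values
  have hone : k 1 = q ^ 3 + 1 := by
    simp only [hk, one_smul, Finset.filter_true_of_mem, Finset.mem_univ, implies_true, Finset.card_univ]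
    exact hO
  have hzero : ∀ g : ↥(twistedG2 K e), k g = 0 ↔ Fpf g := by
    intro g
    simp only [hk, Finset.card_eq_zero, Finset.filter_eq_empty_iff, Finset.mem_univ, true_implies]
    rfl
  have hinv : ∀ g : ↥(twistedG2 K e), g * g = 1 → g ≠ 1 → k g = q + 1 := by
    intro g h1 h2
    rw [← C.card_fix_invol h1 h2, Nat.card_eq_fintype_card, Fintype.card_subtype]
  have hle : ∀ g : ↥(twistedG2 K e), ¬ (g * g = 1) → k g ≤ 2 := by
    intro g h
    by_contra hcon
    push Not at hcon
    obtain ⟨a, b, c, ha, hb, hc, hab, hac, hbc⟩ := Finset.two_lt_card_iff.1 hcon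
    simp only [Finset.mem_filter, Finset.mem_univ, true_and] at ha hb hc
    exact h (C.invol_of_three hab hac hbc ha hb hc)
  have hterm : ∀ g : ↥(twistedG2 K e), ((k g : ℤ) ^ 2 - 3 * k g + 2) = (if g = 1 then ((q : ℤ) ^ 3 * ((q : ℤ) ^ 3 - 1)) else 0) + (if g * g = 1 ∧ g ≠ 1 then ((q : ℤ) * ((q : ℤ) - 1)) else 0) + (if Fpf g then 2 else 0) := by
    intro g
    by_cases hg : g = 1
    · subst hg
      have h1 : ¬ Fpf (1 : ↥(twistedG2 K e)) := fun h => h.ne_one rfl
      rw [if_pos rfl, if_neg h1, if_neg (by simp), hone]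
      push_cast
      ring
    · rw [if_neg hg]
      by_cases hi : g * g = 1
      · obtain ⟨w, hw⟩ := C.invol_has_fix hi hg
        have hf : ¬ Fpf g := fun h => h w hw
        rw [if_pos ⟨hi, hg⟩, if_neg hf, hinv g hi hg]
        push_cast
        ring
      · rw [if_neg (fun h => hi h.1)]
        have hle2 := hle g hi
        by_cases hf : Fpf g
        · rw [if_pos hf, (hzero g).2 hf]
          norm_num
        · rw [if_neg hf]
          have hne : k g ≠ 0 := fun h => hf ((hzero g).1 h)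
          have : k g = 1 ∨ k g = 2 := by omega
          rcases this with h | h <;> rw [h] <;> norm_num
  have hsum : ∑ g : ↥(twistedG2 K e), ((k g : ℤ) ^ 2 - 3 * (k g : ℤ) + 2) = (n : ℤ) := by
    rw [Finset.sum_add_distrib, Finset.sum_sub_distrib, ← Finset.mul_sum]
    have e1 : ∑ g : ↥(twistedG2 K e), (k g : ℤ) ^ 2 = 2 * (n : ℤ) := by
      have := congrArg (fun x : ℕ => (x : ℤ)) hsecond
      simpa using this
    have e2 : ∑ g : ↥(twistedG2 K e), (k g : ℤ) = (n : ℤ) := by
      have := congrArg (fun x : ℕ => (x : ℤ)) hfirst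
      simpa using this
    rw [e1, e2, Finset.sum_const, Finset.card_univ, hn']
    simp
    ring
  have hI := C.card_invol
  rw [← hq] at hI
  have hsum2 : ∑ g : ↥(twistedG2 K e), ((if g = 1 then ((q : ℤ) ^ 3 * ((q : ℤ) ^ 3 - 1)) else 0) + (if g * g = 1 ∧ g ≠ 1 then ((q : ℤ) * ((q : ℤ) - 1)) else 0) + (if Fpf g then (2 : ℤ) else 0)) =
      (q : ℤ) ^ 3 * ((q : ℤ) ^ 3 - 1) + (Nat.card {t : ↥(twistedG2 K e) // t * t = 1 ∧ t ≠ 1} : ℤ) * ((q : ℤ) * ((q : ℤ) - 1)) + 2 * Nat.card {g : ↥(twistedG2 K e) // Fpf g} := by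
    rw [Finset.sum_add_distrib, Finset.sum_add_distrib, Finset.sum_ite_eq', if_pos (Finset.mem_univ _), Finset.sum_ite, Finset.sum_const_zero, add_zero, Finset.sum_const, nsmul_eq_mul, Finset.sum_ite, Finset.sum_const_zero, add_zero, Finset.sum_const, nsmul_eq_mul, Nat.card_eq_fintype_card, Nat.card_eq_fintype_card, Fintype.card_subtype, Fintype.card_subtype]
    ring
  simp only [hterm] at hsum
  rw [hsum2, hI] at hsum
  have hq2 : q ≤ q ^ 2 := Nat.le_self_pow (by norm_num) q
  have hq3 : 1 ≤ q ^ 3 := Nat.one_le_pow _ _ hq1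
  have : ((2 * Nat.card {g : ↥(twistedG2 K e) // Fpf g} + q ^ 3 * (q - 1) * (q ^ 2 - q + 1) + q ^ 3 * (q ^ 3 - 1) : ℕ) : ℤ) = (n : ℤ) := by
    rw [← hsum]
    push_cast [Nat.cast_sub hq1, Nat.cast_sub hq2, Nat.cast_sub hq3]
    ring
  exact_mod_cast this

end ctx

end CfsgLib.Ree
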