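/-
The two classes of tori of order dividing `q² - q + 1` in the small Ree groups.
-/
import Cfsg.Agent.Lib.Ree.Moment

set_option autoImplicit false
set_option synthInstance.maxHeartbeats 400000
set_option synthInstance.maxSize 1024

namespace CfsgLib.Ree

open Cfsg.Lie Cfsg.Lie.ChevalleyDatum CfsgLib.BN CfsgLib.Chev CfsgLib.H9.SL2Cl Matrix

/-- The basic count. -/
lemma arith_O_count {q W F L O : ℕ} (hq : 27 ≤ q) (hW : W = q ^ 3 * (q - 1) * (1 + q ^ 3))
    (hF : 2 * F + q ^ 3 * (q - 1) * (q ^ 2 - q + 1) + q ^ 3 * (q ^ 3 - 1) = W) (hL : L * (6 * (q + 1)) = W * (q - 3)) (hFL : F = L + O) :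
    3 * O = q ^ 4 * (q - 1) * (q - 2) * (q + 1) := by
  obtain ⟨a, rfl⟩ : ∃ a, q = a + 3 := ⟨q - 3, by omega⟩
  have e1 : a + 3 - 1 = a + 2 := by omega
  have e2 : a + 3 - 2 = a + 1 := by omega
  have e3 : a + 3 - 3 = a := by omega
  have e4 : (a + 3) ^ 2 - (a + 3) + 1 = (a + 2) * (a + 3) + 1 := by
    have : (a + 3) ^ 2 = (a + 3) + ((a + 2) * (a + 3)) := by ring
    rw [this, Nat.add_sub_cancel_left]
  have e5 : (a + 3) ^ 3 - 1 = (a + 2) * ((a + 3) ^ 2 + (a + 3) + 1) := by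
    have : (a + 3) ^ 3 = (a + 2) * ((a + 3) ^ 2 + (a + 3) + 1) + 1 := by ring
    rw [this, Nat.add_sub_cancel]
  rw [e1, e4, e5] at hF
  rw [e1] at hW
  rw [e3] at hL
  rw [e1, e2]
  subst hFL
  subst hW
  have h0 : 0 < a + 3 + 1 := by omega
  have h1 : L * 6 = (a + 3) ^ 3 * (a + 2) * ((a + 2) * (a + 3) + 1) * a := by
    apply Nat.eq_of_mul_eq_mul_right h0
    have : (a + 3) ^ 3 * (a + 2) * (1 + (a + 3) ^ 3) * a = (a + 3) ^ 3 * (a + 2) * ((a + 2) * (a + 3) + 1) * a * (a + 3 + 1) := by ring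
    rw [← this, ← hL]
    ring
  have hA : 0 < 2 * 3 := by norm_num
  zify at hF h1 ⊢
  have hF' : (2 : ℤ) * ((L : ℤ) + O) + ((a : ℤ) + 3) ^ 3 * ((a : ℤ) + 2) * (((a : ℤ) + 2) * ((a : ℤ) + 3) + 1) + ((a : ℤ) + 3) ^ 3 * (((a : ℤ) + 2) * (((a : ℤ) + 3) ^ 2 + ((a : ℤ) + 3) + 1)) = ((a : ℤ) + 3) ^ 3 * ((a : ℤ) + 2) * (1 + ((a : ℤ) + 3) ^ 3) := hF
  have h6 : (2 : ℤ) * (3 * (O : ℤ)) = 2 * (((a : ℤ) + 3) ^ 4 * ((a : ℤ) + 2) * ((a : ℤ) + 1) * ((a : ℤ) + 3 + 1)) := by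
    linear_combination 3 * hF' - h1
  linarith

section ctx

variable {K : Type*} [Field K] [Fintype K] {e : ℕ} (C : RCtx K e)

/-- The fixed point free elements in tori. -/
def RCtx.OSet (C : RCtx K e) : Set ↥(twistedG2 K e) := {g | ∃ T, C.IsOT T ∧ g ∈ T ∧ g ≠ 1}

/-- The partition of the fixed point free elements. -/
theorem RCtx.card_partition (C : RCtx K e) {m : ℕ} (hK : Fintype.card K = 3 ^ (2 * m + 1)) :
    Nat.card {g : ↥(twistedG2 K e) // Fpf g} = Nat.card (conjOf C.S₀) + Nat.card C.OSet := by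
  classical
  have h1 : {g : ↥(twistedG2 K e) | Fpf g} = conjOf C.S₀ ∪ C.OSet := by
    ext g
    constructor
    · intro hg
      exact C.fpf_cases hK hg
    · rintro (h | ⟨T, hT, h1, h2⟩)
      · exact C.conj_S₀_fpf hK h
      · exact fun w => hT.fpf (n := 2 * m) hK h1 h2 w
  have hd : Disjoint (conjOf C.S₀) C.OSet := by
    rw [Set.disjoint_left]
    rintro g h ⟨T, hT, h1, -⟩
    exact C.conj_S₀_not_O hK h hT h1
  have h2 := Set.ncard_union_eq hd (Set.toFinite _) (Set.toFinite _)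
  rw [← h1] at h2
  have h3 : Nat.card {g : ↥(twistedG2 K e) // Fpf g} = ({g : ↥(twistedG2 K e) | Fpf g}).ncard := Nat.card_coe_set_eq _
  rw [h3, h2, Nat.card_coe_set_eq, Nat.card_coe_set_eq]

/-- The number of fixed point free elements in tori. -/
theorem RCtx.card_OSet (C : RCtx K e) {m : ℕ} (hm : 1 ≤ m) (hK : Fintype.card K = 3 ^ (2 * m + 1)) :
    3 * Nat.card C.OSet = Fintype.card K ^ 4 * (Fintype.card K - 1) * (Fintype.card K - 2) * (Fintype.card K + 1) := by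
  have h27 : 27 ≤ Fintype.card K := by
    rw [hK]
    calc 27 = 3 ^ 3 := by norm_num
      _ ≤ 3 ^ (2 * m + 1) := Nat.pow_le_pow_right (by norm_num) (by omega)
  exact arith_O_count h27 C.card_G (C.card_fpf hK) (C.card_conj_S₀ hm hK) (C.card_partition hK)

lemma nonId_conj {G : Type*} [Group G] {T : Subgroup G} {x y : G} (h : x⁻¹ * y * x ∈ nonId T) : y ≠ 1 := by
  rintro rfl
  apply h.2
  group

/-- Classes of tori lie in the fixed point free elements in tori. -/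
theorem RCtx.IsOT.class_sub {C : RCtx K e} {T : Subgroup ↥(twistedG2 K e)} (hT : C.IsOT T) : conjOf (nonId T) ⊆ C.OSet := by
  rintro y ⟨x, hx⟩
  have hc : ConjS T (T.map (MulAut.conj x).toMonoidHom) := by
    refine ⟨x, fun z => ?_⟩
    constructor
    · rintro ⟨t, ht, rfl⟩
      have : x⁻¹ * ((MulAut.conj x).toMonoidHom t) * x = t := by
        show x⁻¹ * (x * t * x⁻¹) * x = t
        group
      rw [this]
      exact ht
    · intro h
      refine ⟨_, h, ?_⟩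
      show x * (x⁻¹ * z * x) * x⁻¹ = z
      group
  have hy : y ∈ T.map (MulAut.conj x).toMonoidHom := ⟨x⁻¹ * y * x, hx.1, by
    show x * (x⁻¹ * y * x) * x⁻¹ = y
    group⟩
  exact ⟨_, hT.of_conj hc, hy, nonId_conj hx⟩

/-- Arithmetic for a single class. -/
lemma arith_one_class {Q D n c : ℕ} (hQD : 2 * D < Q) (hc : 5 ≤ c) (hn : n = 1 ∨ n = 2 ∨ n = 3 ∨ n = 6) (h : Q * n * c = 3 * (Q + D) * (c - 1)) :
    n = 3 ∧ Q + D = D * c := by
  obtain ⟨c', rfl⟩ : ∃ c', c = c' + 5 := ⟨c - 5, by omega⟩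
  have e : c' + 5 - 1 = c' + 4 := by omega
  rw [e] at h
  rcases hn with rfl | rfl | rfl | rfl
  · exfalso
    nlinarith [Nat.zero_le (Q * c'), Nat.zero_le (D * c')]
  · exfalso
    nlinarith [Nat.zero_le (Q * c'), Nat.zero_le (D * c')]
  · refine ⟨rfl, ?_⟩
    nlinarith [Nat.zero_le (Q * c'), Nat.zero_le (D * c')]
  · exfalso
    nlinarith [Nat.zero_le (Q * c'), Nat.zero_le (D * c'), Nat.mul_le_mul_right c' hQD.le]

lemma arith_bound {y W n c : ℕ} (hc : 5 ≤ c) (hn : n ≤ 6) (h : y * (n * c) = W * (c - 1)) : 2 * W ≤ 15 * y := by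
  have h1 : 12 * c ≤ 15 * (c - 1) := by omega
  have h2 : 12 * W * c ≤ 15 * y * n * c := by
    calc 12 * W * c = W * (12 * c) := by ring
      _ ≤ W * (15 * (c - 1)) := Nat.mul_le_mul_left _ h1
      _ = 15 * (W * (c - 1)) := by ring
      _ = 15 * (y * (n * c)) := by rw [h]
      _ = _ := by ring
  have h3 : 12 * W ≤ 15 * y * n := Nat.le_of_mul_le_mul_right h2 (by omega)
  nlinarith [Nat.mul_le_mul_left (15 * y) hn]

lemma arith_bound3 {y W n c : ℕ} (hc : 5 ≤ c) (hn : n ≤ 3) (h : y * (n * c) = W * (c - 1)) : 4 * W ≤ 15 * y := by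
  have h1 : 12 * c ≤ 15 * (c - 1) := by omega
  have h2 : 12 * W * c ≤ 15 * y * n * c := by
    calc 12 * W * c = W * (12 * c) := by ring
      _ ≤ W * (15 * (c - 1)) := Nat.mul_le_mul_left _ h1
      _ = 15 * (W * (c - 1)) := by ring
      _ = 15 * (y * (n * c)) := by rw [h]
      _ = _ := by ring
  have h3 : 12 * W ≤ 15 * y * n := Nat.le_of_mul_le_mul_right h2 (by omega)
  nlinarith [Nat.mul_le_mul_left (15 * y) hn]

lemma dvd_six_cases {n : ℕ} (h : n ∣ 6) : n = 1 ∨ n = 2 ∨ n = 3 ∨ n = 6 := by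
  have h1 := Nat.le_of_dvd (by norm_num) h
  interval_cases n <;> simp_all <;> omega

lemma arith_two_class {A Q D y₁ y₂ c₁ c₂ : ℕ} (hA : 0 < A) (hc₁ : 1 ≤ c₁) (hc₂ : 1 ≤ c₂) (h1 : y₁ * (6 * c₁) = A * (Q + D) * (c₁ - 1)) (h2 : y₂ * (6 * c₂) = A * (Q + D) * (c₂ - 1))
    (h3 : 3 * (y₁ + y₂) = A * Q) : (Q + D) * (c₁ + c₂) = 2 * D * (c₁ * c₂) := by
  obtain ⟨a, rfl⟩ : ∃ a, c₁ = a + 1 := ⟨c₁ - 1, by omega⟩
  obtain ⟨b, rfl⟩ : ∃ b, c₂ = b + 1 := ⟨c₂ - 1, by omega⟩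
  simp only [Nat.add_sub_cancel] at h1 h2
  zify at h1 h2 h3 hA ⊢
  have hA' : (A : ℤ) ≠ 0 := hA.ne'
  apply mul_left_cancel₀ hA'
  linear_combination (b + 1 : ℤ) * h1 + (a + 1 : ℤ) * h2 - 2 * (a + 1 : ℤ) * (b + 1) * h3

/-- The classification of the tori. -/
theorem RCtx.tori_main (C : RCtx K e) {m : ℕ} (hm : 1 ≤ m) (hK : Fintype.card K = 3 ^ (2 * m + 1)) (hS : IsSimpleGroup ↥(twistedG2 K e)) :
    ∃ T₁ T₂ : Subgroup ↥(twistedG2 K e), C.IsOT T₁ ∧ C.IsOT T₂ ∧ ¬ ConjS T₁ T₂ ∧ (∀ T, C.IsOT T → ConjS T₁ T ∨ ConjS T₂ T) ∧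
      Nat.card (Subgroup.normalizer (T₁ : Set ↥(twistedG2 K e))) = 6 * Nat.card T₁ ∧
      Nat.card (Subgroup.normalizer (T₂ : Set ↥(twistedG2 K e))) = 6 * Nat.card T₂ ∧
      Nat.card T₁ * Nat.card T₂ = Fintype.card K ^ 2 - Fintype.card K + 1 ∧ Nat.card T₁ + Nat.card T₂ = 2 * (Fintype.card K + 1) := by
  classical
  have h27 : 27 ≤ Fintype.card K := by
    rw [hK]
    calc 27 = 3 ^ 3 := by norm_num
      _ ≤ 3 ^ (2 * m + 1) := Nat.pow_le_pow_right (by norm_num) (by omega)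
  have hq1 : 1 ≤ Fintype.card K := by omega
  have hO := C.card_OSet hm hK
  have hG := C.card_G
  have hN2 : ¬ 2 ∣ Fintype.card K ^ 2 - Fintype.card K + 1 := by
    intro h
    rw [hK] at h
    exact (arith_O Nat.prime_two h).1 rfl
  have hN3 : ¬ 3 ∣ Fintype.card K ^ 2 - Fintype.card K + 1 := by
    intro h
    rw [hK] at h
    exact (arith_O Nat.prime_three h).2.1 rfl
  have hcopD : Nat.Coprime (Fintype.card K + 1) (Fintype.card K ^ 2 - Fintype.card K + 1) := by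
    apply Nat.coprime_of_dvd
    intro r hr h1 h2
    rw [hK] at h1 h2
    obtain ⟨r2, r3, -, -, r5⟩ := arith_O hr h2
    exact r5 h1
  rw [q_cube hq1] at hG
  set q := Fintype.card K with hq
  obtain ⟨a, ha⟩ : ∃ a, q = a + 27 := ⟨q - 27, by omega⟩
  set N := q ^ 2 - q + 1 with hN
  set Q := q * (q - 2) with hQ
  set D := q + 1 with hD
  have hND : N = Q + D := by
    rw [hN, hQ, hD, ha]
    have e1 : a + 27 - 2 = a + 25 := by omega
    have e2 : (a + 27) ^ 2 - (a + 27) + 1 = (a + 26) * (a + 27) + 1 := by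
      have : (a + 27) ^ 2 = (a + 27) + ((a + 26) * (a + 27)) := by ring
      rw [this, Nat.add_sub_cancel_left]
    rw [e1, e2]
    ring
  have hQD : 2 * D < Q := by
    rw [hQ, hD, ha]
    have e1 : a + 27 - 2 = a + 25 := by omega
    rw [e1]
    nlinarith
  set A := q ^ 3 * (q - 1) * (q + 1) with hA
  have hA0 : 0 < A := by
    rw [hA]
    have : 0 < q - 1 := by omega
    positivity
  have hW : Nat.card ↥(twistedG2 K e) = A * (Q + D) := by
    rw [hG, hA, ← hND]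
    ring
  have hO' : 3 * Nat.card C.OSet = A * Q := by
    rw [hO, hA, hQ]
    ring
  have hOW : 15 * Nat.card C.OSet < 5 * (A * (Q + D)) := by
    have h1 : A * Q < A * (Q + D) := Nat.mul_lt_mul_of_pos_left (by omega) hA0
    omega
  -- the order of a torus
  have hc5 : ∀ T, C.IsOT T → 5 ≤ Nat.card T := by
    intro T hT
    have hd := hT.card_dvd hK
    rw [← hq, ← hN] at hd
    have hN0 : 0 < N := by omega
    have h1 : Nat.card T ≠ 1 := by
      intro h
      have h2 := Subgroup.card_eq_one.1 h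
      obtain ⟨z, p, hp, -, -, hz1, rfl⟩ := hT
      have : z ∈ Subgroup.centralizer ({z} : Set ↥(twistedG2 K e)) := Subgroup.mem_centralizer_singleton_iff.2 rfl
      rw [h2, Subgroup.mem_bot] at this
      exact hz1 this
    have h0 : 0 < Nat.card T := Nat.card_pos
    by_contra hlt
    push Not at hlt
    generalize Nat.card T = c at *
    interval_cases c
    · exact h1 rfl
    · exact hN2 hd
    · exact hN3 hd
    · exact hN2 (Dvd.dvd.trans (by norm_num) hd)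
  -- the count for a torus
  have hcount : ∀ T, C.IsOT T → ∃ n, (n = 1 ∨ n = 2 ∨ n = 3 ∨ n = 6) ∧ Nat.card (Subgroup.normalizer (T : Set ↥(twistedG2 K e))) = n * Nat.card T ∧
      Nat.card (conjOf (nonId T)) * (n * Nat.card T) = A * (Q + D) * (Nat.card T - 1) := by
    intro T hT
    obtain ⟨n, hn, hc⟩ := hT.norm_index hK hS
    refine ⟨n, dvd_six_cases hn, hc, ?_⟩
    rw [← hc, hT.class_count hK hS, hW]
  have hsub : ∀ T, C.IsOT T → (conjOf (nonId T)).ncard ≤ C.OSet.ncard := fun T hT => Set.ncard_le_ncard hT.class_sub (Set.toFinite _)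
  -- existence of a torus
  have hN1 : N ≠ 1 := by omega
  obtain ⟨T₁, hT₁, -⟩ := C.exists_OT hK (Nat.minFac_prime hN1) (Nat.minFac_dvd N)
  have cover : ∀ (T : Subgroup ↥(twistedG2 K e)) (_ : C.IsOT T) (g : ↥(twistedG2 K e)), g ∈ T → g ≠ 1 → g ∈ conjOf (nonId T) := fun T _ g h1 h2 => mem_class_self h1 h2
  obtain ⟨n₁, hn₁, hN₁, hy₁⟩ := hcount T₁ hT₁
  have hc₁ := hc5 T₁ hT₁
  have hb₁ := arith_bound hc₁ (by omega) hy₁
  by_cases h1 : ∀ T, C.IsOT T → ConjS T₁ T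
  · -- one class only
    exfalso
    have e1 : C.OSet = conjOf (nonId T₁) := by
      apply Set.Subset.antisymm _ hT₁.class_sub
      rintro g ⟨T, hT, h2, h3⟩
      rw [← conjOf_of_conj (h1 T hT)]
      exact mem_class_self h2 h3
    have e2 : Nat.card (conjOf (nonId T₁)) = Nat.card C.OSet := by rw [e1]
    rw [e2] at hy₁
    have e3 : Q * n₁ * Nat.card T₁ = 3 * (Q + D) * (Nat.card T₁ - 1) := by
      apply Nat.eq_of_mul_eq_mul_left hA0
      calc A * (Q * n₁ * Nat.card T₁) = (A * Q) * (n₁ * Nat.card T₁) := by ring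
        _ = 3 * (Nat.card C.OSet * (n₁ * Nat.card T₁)) := by rw [← hO']; ring
        _ = _ := by rw [hy₁]; ring
    obtain ⟨-, e4⟩ := arith_one_class hQD hc₁ hn₁ e3
    have e5 : D ∣ N := by
      rw [hND, e4]
      exact Dvd.intro _ rfl
    have e6 : D = 1 := Nat.Coprime.eq_one_of_dvd hcopD e5
    omega
  push Not at h1
  obtain ⟨T₂, hT₂, hn12⟩ := h1
  obtain ⟨n₂, hn₂, hN₂, hy₂⟩ := hcount T₂ hT₂
  have hc₂ := hc5 T₂ hT₂
  have hb₂ := arith_bound hc₂ (by omega) hy₂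
  have hd12 : Disjoint (conjOf (nonId T₁)) (conjOf (nonId T₂)) := by
    rw [Set.disjoint_left]
    intro g h3 h4
    exact hn12 (hT₁.class_inter hT₂ hK hS h3 h4)
  have hsum12 : Nat.card (conjOf (nonId T₁)) + Nat.card (conjOf (nonId T₂)) ≤ Nat.card C.OSet := by
    rw [Nat.card_coe_set_eq, Nat.card_coe_set_eq, Nat.card_coe_set_eq, ← Set.ncard_union_eq hd12 (Set.toFinite _) (Set.toFinite _)]
    exact Set.ncard_le_ncard (Set.union_subset hT₁.class_sub hT₂.class_sub) (Set.toFinite _)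
  have h6 : ∀ {n c y y' : ℕ}, (n = 1 ∨ n = 2 ∨ n = 3 ∨ n = 6) → 5 ≤ c → y * (n * c) = A * (Q + D) * (c - 1) → 2 * (A * (Q + D)) ≤ 15 * y' → y + y' ≤ Nat.card C.OSet → n = 6 := by
    intro n c y y' hn hc hy hb' hs
    by_contra hne
    have hn3 : n ≤ 3 := by omega
    have := arith_bound3 hc hn3 hy
    omega
  have hn₁6 := h6 hn₁ hc₁ hy₁ hb₂ hsum12
  have hn₂6 := h6 hn₂ hc₂ hy₂ hb₁ (by omega)
  subst hn₁6
  subst hn₂6
  by_cases h2 : ∀ T, C.IsOT T → ConjS T₁ T ∨ ConjS T₂ T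
  · -- two classes
    have e1 : C.OSet = conjOf (nonId T₁) ∪ conjOf (nonId T₂) := by
      apply Set.Subset.antisymm _ (Set.union_subset hT₁.class_sub hT₂.class_sub)
      rintro g ⟨T, hT, h3, h4⟩
      rcases h2 T hT with h5 | h5
      · left
        rw [← conjOf_of_conj h5]
        exact mem_class_self h3 h4
      · right
        rw [← conjOf_of_conj h5]
        exact mem_class_self h3 h4
    have e2 : Nat.card C.OSet = Nat.card (conjOf (nonId T₁)) + Nat.card (conjOf (nonId T₂)) := by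
      rw [Nat.card_coe_set_eq, Nat.card_coe_set_eq, Nat.card_coe_set_eq, ← Set.ncard_union_eq hd12 (Set.toFinite _) (Set.toFinite _), ← e1]
    rw [e2] at hO'
    have e3 := arith_two_class hA0 (by omega) (by omega) hy₁ hy₂ hO'
    rw [← hND] at e3
    -- coprimality
    have hcop : Nat.Coprime (Nat.card T₁) (Nat.card T₂) := by
      apply Nat.coprime_of_dvd
      intro r hr h3 h4
      exact hn12 (hT₁.conj_of_prime hT₂ hK hS hr h3 h4)
    have hd1 := hT₁.card_dvd hK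
    have hd2 := hT₂.card_dvd hK
    rw [← hq, ← hN] at hd1 hd2
    obtain ⟨M, hM⟩ := Nat.Coprime.mul_dvd_of_dvd_of_dvd hcop hd1 hd2
    have hprod0 : 0 < Nat.card T₁ * Nat.card T₂ := by positivity
    have e4 : M * (Nat.card T₁ + Nat.card T₂) = 2 * D := by
      apply Nat.eq_of_mul_eq_mul_left hprod0
      calc Nat.card T₁ * Nat.card T₂ * (M * (Nat.card T₁ + Nat.card T₂)) = (Nat.card T₁ * Nat.card T₂ * M) * (Nat.card T₁ + Nat.card T₂) := by ring
        _ = N * (Nat.card T₁ + Nat.card T₂) := by rw [← hM]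
        _ = 2 * D * (Nat.card T₁ * Nat.card T₂) := e3
        _ = _ := by ring
    have hMN : M ∣ N := by
      rw [hM]
      exact Dvd.intro_left _ rfl
    have hM2 : M ∣ 2 * D := Dvd.intro _ e4
    have hcop2 : Nat.Coprime 2 N := (Nat.Prime.coprime_iff_not_dvd Nat.prime_two).2 hN2
    have hM1 : M = 1 := by
      have : Nat.Coprime M (2 * D) := Nat.Coprime.coprime_dvd_left hMN (Nat.Coprime.symm (Nat.Coprime.mul_left hcop2 hcopD))
      exact Nat.Coprime.eq_one_of_dvd this hM2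
    subst hM1
    refine ⟨T₁, T₂, hT₁, hT₂, hn12, h2, hN₁, hN₂, ?_, ?_⟩
    · rw [hM, mul_one]
    · rw [one_mul] at e4
      rw [e4]
  · -- three classes: impossible
    exfalso
    push Not at h2
    obtain ⟨T₃, hT₃, hn13, hn23⟩ := h2
    obtain ⟨n₃, hn₃, hN₃, hy₃⟩ := hcount T₃ hT₃
    have hc₃ := hc5 T₃ hT₃
    have hb₃ := arith_bound hc₃ (by omega) hy₃
    have hd3 : Disjoint (conjOf (nonId T₁) ∪ conjOf (nonId T₂)) (conjOf (nonId T₃)) := by
      rw [Set.disjoint_left]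
      rintro g (h3 | h3) h4
      · exact hn13 (hT₁.class_inter hT₃ hK hS h3 h4)
      · exact hn23 (hT₂.class_inter hT₃ hK hS h3 h4)
    have hsum3 : Nat.card (conjOf (nonId T₁)) + Nat.card (conjOf (nonId T₂)) + Nat.card (conjOf (nonId T₃)) ≤ Nat.card C.OSet := by
      rw [Nat.card_coe_set_eq, Nat.card_coe_set_eq, Nat.card_coe_set_eq, Nat.card_coe_set_eq, ← Set.ncard_union_eq hd12 (Set.toFinite _) (Set.toFinite _), ← Set.ncard_union_eq hd3 (Set.toFinite _) (Set.toFinite _)]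
      exact Set.ncard_le_ncard (Set.union_subset (Set.union_subset hT₁.class_sub hT₂.class_sub) hT₃.class_sub) (Set.toFinite _)
    omega

end ctx
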