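/-
The normalisers of the cyclic subgroups of the small Ree groups.
-/
import Cfsg.Agent.Lib.Ree.TorusFinal

set_option autoImplicit false
set_option synthInstance.maxHeartbeats 400000
set_option synthInstance.maxSize 1024

namespace CfsgLib.Ree

open Cfsg.Lie Cfsg.Lie.ChevalleyDatum CfsgLib.BN CfsgLib.Chev CfsgLib.H9.SL2Cl Matrix

section general

variable {Γ : Type*} [Group Γ] [Finite Γ]

/-- In a cyclic subgroup, subgroups of the same order coincide. -/
lemma eq_of_card_in_cyclic {B X Y : Subgroup Γ} (hB : IsCyclic B) (hX : X ≤ B) (hY : Y ≤ B) (hc : Nat.card X = Nat.card Y) : X = Y := by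
  classical
  haveI := Fintype.ofFinite B
  have key : ∀ Z : Subgroup Γ, Z ≤ B → (Finset.univ.filter (fun a : B => (a : Γ) ∈ Z)) = Finset.univ.filter (fun a : B => a ^ Nat.card Z = 1) := by
    intro Z hZ
    apply Finset.eq_of_subset_of_card_le
    · intro a ha
      simp only [Finset.mem_filter, Finset.mem_univ, true_and] at ha ⊢
      apply Subtype.ext
      have := pow_card_eq_one' (x := (⟨a, ha⟩ : Z))
      have h2 : (a : Γ) ^ Nat.card Z = 1 := congrArg Subtype.val this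
      exact h2
    · have h1 := IsCyclic.card_pow_eq_one_le (α := B) (n := Nat.card Z) Nat.card_pos
      have h2 : (Finset.univ.filter (fun a : B => (a : Γ) ∈ Z)).card = Nat.card Z := by
        rw [← Nat.card_congr (Subgroup.subgroupOfEquivOfLe hZ).toEquiv, Nat.card_eq_fintype_card, Fintype.card_subtype]
        rfl
      rw [h2]
      exact h1
  have e1 := key X hX
  have e2 := key Y hY
  rw [hc, ← e2] at e1
  ext y
  constructor
  · intro h
    have h1 : (⟨y, hX h⟩ : B) ∈ Finset.univ.filter (fun a : B => (a : Γ) ∈ X) := by simpa using h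
    rw [e1] at h1
    simpa using h1
  · intro h
    have h1 : (⟨y, hY h⟩ : B) ∈ Finset.univ.filter (fun a : B => (a : Γ) ∈ Y) := by simpa using h
    rw [← e1] at h1
    simpa using h1

omit [Finite Γ] in
/-- Normalising a subgroup means normalising its centraliser. -/
lemma norm_le_of_cent {A₀ B : Subgroup Γ} (h : Subgroup.centralizer (A₀ : Set Γ) = B) :
    Subgroup.normalizer (A₀ : Set Γ) ≤ Subgroup.normalizer (B : Set Γ) := by
  intro g hg
  rw [Subgroup.mem_normalizer_iff] at hg ⊢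
  intro y
  rw [← h, Subgroup.mem_centralizer_iff, Subgroup.mem_centralizer_iff]
  constructor
  · intro h1 a ha
    have ha' : g⁻¹ * a * g ∈ A₀ := by
      have := (hg (g⁻¹ * a * g)).2 (by
        have e : g * (g⁻¹ * a * g) * g⁻¹ = a := by group
        rw [e]
        exact ha)
      exact this
    have h2 := h1 _ ha'
    calc a * (g * y * g⁻¹) = g * ((g⁻¹ * a * g) * y) * g⁻¹ := by group
      _ = g * (y * (g⁻¹ * a * g)) * g⁻¹ := by rw [h2]
      _ = _ := by group
  · intro h1 a ha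
    have ha' : g * a * g⁻¹ ∈ A₀ := (hg a).1 ha
    have h2 := h1 _ ha'
    apply conj_comm' (k := g)
    exact h2

/-- Subgroups of cyclic normal subgroups are normal. -/
lemma norm_cyc_ge {A₀ B : Subgroup Γ} (hB : IsCyclic B) (hA : A₀ ≤ B) : Subgroup.normalizer (B : Set Γ) ≤ Subgroup.normalizer (A₀ : Set Γ) := by
  intro g hg
  rw [Subgroup.mem_normalizer_iff] at hg ⊢
  have hle : A₀.map (MulAut.conj g).toMonoidHom ≤ B := by
    rintro _ ⟨a, ha, rfl⟩
    exact (hg a).1 (hA ha)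
  have hc : Nat.card A₀ = Nat.card (A₀.map (MulAut.conj g).toMonoidHom) :=
    (Subgroup.card_map_of_injective (MulAut.conj g).injective).symm
  have e := eq_of_card_in_cyclic hB hA hle hc
  intro y
  constructor
  · intro hy
    rw [e]
    exact ⟨y, hy, rfl⟩
  · intro hy
    rw [e] at hy
    obtain ⟨a, ha, h1⟩ := hy
    have h2 : a = y := by
      have h3 : g * a * g⁻¹ = g * y * g⁻¹ := h1
      exact mul_left_cancel (mul_right_cancel h3)
    rwa [← h2]

omit [Finite Γ] in
lemma cent_sub_abelian {A₀ B : Subgroup Γ} (hcomm : ∀ x ∈ B, ∀ y ∈ B, x * y = y * x) (hA : A₀ ≤ B) {x : Γ} (hx : x ∈ A₀) (hc : Subgroup.centralizer ({x} : Set Γ) = B) :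
    Subgroup.centralizer (A₀ : Set Γ) = B := by
  apply le_antisymm
  · intro y hy
    rw [← hc]
    rw [Subgroup.mem_centralizer_iff] at hy
    rw [Subgroup.mem_centralizer_singleton_iff]
    exact (hy x hx).symm
  · intro y hy
    rw [Subgroup.mem_centralizer_iff]
    intro a ha
    exact hcomm a (hA ha) y hy

/-- A nontrivial subgroup has a nontrivial element. -/
lemma exists_ne_one_of_ne_bot {A₀ : Subgroup Γ} (h : A₀ ≠ ⊥) : ∃ x ∈ A₀, x ≠ 1 := (Subgroup.ne_bot_iff_exists_ne_one.1 h).elim fun x hx => ⟨x, x.2, fun h1 => hx (Subtype.ext h1)⟩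

/-- The normalisers of the nontrivial subgroups of a cyclic group with the property of centralisers. -/
theorem norm_eq_of {A B : Subgroup Γ} (hB : IsCyclic B) (hA : A ≤ B) (hc : ∀ x ∈ A, x ≠ 1 → Subgroup.centralizer ({x} : Set Γ) = B) {A₀ : Subgroup Γ} (hA₀ : A₀ ≤ A) (h1 : A₀ ≠ ⊥) :
    Subgroup.normalizer (A₀ : Set Γ) = Subgroup.normalizer (B : Set Γ) := by
  have hcomm : ∀ x ∈ B, ∀ y ∈ B, x * y = y * x := by
    intro a ha b hb
    have := cyc_comm_aux (⟨a, ha⟩ : B) ⟨b, hb⟩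
    exact congrArg Subtype.val this
  obtain ⟨x, hx, hx1⟩ := exists_ne_one_of_ne_bot h1
  apply le_antisymm
  · exact norm_le_of_cent (cent_sub_abelian hcomm (hA₀.trans hA) hx (hc x (hA₀ hx) hx1))
  · exact norm_cyc_ge hB (hA₀.trans hA)

end general

section ctx

variable {K : Type*} [Field K] [Fintype K] {e : ℕ} (C : RCtx K e)

lemma RCtx.H₀_cyclic (C : RCtx K e) : IsCyclic C.rH.range := isCyclic_of_surjective C.rH.rangeRestrict C.rH.rangeRestrict_surjective

lemma RCtx.card_H₀ (C : RCtx K e) : Nat.card C.rH.range = Fintype.card K - 1 := by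
  rw [← C.card_units]
  exact Nat.card_congr (MonoidHom.ofInjective C.rH_inj).symm.toEquiv

lemma RCtx.T₀_cyclic (C : RCtx K e) : IsCyclic C.T₀ := by
  haveI := Dbar_cyclic C
  unfold RCtx.T₀
  exact isCyclic_of_surjective (C.psiP.subgroupMap (Dbar K)) (C.psiP.subgroupMap_surjective (Dbar K))

/-- The normaliser of the split torus. -/
theorem RCtx.card_norm_H₀ (C : RCtx K e) {m : ℕ} (hm : 1 ≤ m) (hK : Fintype.card K = 3 ^ (2 * m + 1)) :
    Nat.card (Subgroup.normalizer (C.rH.range : Set ↥(twistedG2 K e))) = 2 * (Fintype.card K - 1) := by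
  classical
  have h27 : 27 ≤ Fintype.card K := by
    rw [hK]
    calc 27 = 3 ^ 3 := by norm_num
      _ ≤ 3 ^ (2 * m + 1) := Nat.pow_le_pow_right (by norm_num) (by omega)
  set N := Subgroup.normalizer (C.rH.range : Set ↥(twistedG2 K e)) with hN
  have hne : (ptI : Pts K e) ≠ C.ptF 0 0 0 := (C.ptF_ne_ptI 0 0 0).symm
  have hw1 : C.w₁ • C.ptF 0 0 0 = (ptI : Pts K e) := by
    rw [← C.w₁_smul_ptI, ← mul_smul, C.w₁_sq, one_smul]
  have hwN : C.w₁ ∈ N := by
    rw [hN, Subgroup.mem_normalizer_iff]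
    intro h
    constructor
    · rintro ⟨y, rfl⟩
      exact ⟨y⁻¹, (C.w₁_conj_H y).symm⟩
    · rintro ⟨y, hy⟩
      have h1 := C.w₁_conj_H y
      rw [hy, C.w₁_inv] at h1
      refine ⟨y⁻¹, ?_⟩
      rw [← h1]
      calc C.w₁ * (C.w₁ * h * C.w₁) * C.w₁ = (C.w₁ * C.w₁) * h * (C.w₁ * C.w₁) := by group
        _ = h := by rw [C.w₁_sq]; group
  have memH : ∀ g : ↥(twistedG2 K e), g ∈ C.rH.range ↔ g • (ptI : Pts K e) = ptI ∧ g • C.ptF 0 0 0 = C.ptF 0 0 0 := by
    intro g
    constructor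
    · rintro ⟨y, rfl⟩
      refine ⟨C.rH_smul_ptI y, ?_⟩
      rw [C.rH_smul_ptF]
      simp
    · rintro ⟨h1, h2⟩
      obtain ⟨y, rfl⟩ := C.stab_two h1 h2
      exact ⟨y, rfl⟩
  obtain ⟨c, hc⟩ := IsCyclic.exists_generator (α := Kˣ)
  have hcc : c * c ≠ 1 := by
    intro h
    have h1 : orderOf c = Nat.card Kˣ := orderOf_eq_card_of_forall_mem_zpowers hc
    have h2 : orderOf c ∣ 2 := orderOf_dvd_of_pow_eq_one (by rw [sq]; exact h)
    rw [h1, C.card_units] at h2
    have := Nat.le_of_dvd (by norm_num) h2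
    omega
  have hidx : (C.rH.range.subgroupOf N).index = 2 := by
    rw [Subgroup.index_eq_two_iff]
    refine ⟨⟨C.w₁, hwN⟩, ?_⟩
    rintro ⟨b, hb⟩
    rw [Subgroup.mem_subgroupOf, Subgroup.mem_subgroupOf]
    show Xor' (b * C.w₁ ∈ C.rH.range) (b ∈ C.rH.range)
    obtain ⟨y', hy'⟩ := (Subgroup.mem_normalizer_iff.1 hb (C.rH c)).1 ⟨c, rfl⟩
    have hyy : y' * y' ≠ 1 := by
      intro h
      apply hcc
      apply C.rH_inj
      rw [map_one, map_mul]
      have h2 : C.rH y' * C.rH y' = 1 := by rw [← map_mul, h, map_one]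
      rw [hy'] at h2
      have e1 : b * C.rH c * b⁻¹ * (b * C.rH c * b⁻¹) = b * (C.rH c * C.rH c) * b⁻¹ := by group
      rw [e1] at h2
      exact conj_eq_one_iff.1 h2
    have hsq : C.rH y' * C.rH y' ≠ 1 := by
      intro h
      rw [← map_mul] at h
      exact hyy (C.rH_inj (by rw [h, map_one]))
    have hI : C.rH y' • (ptI : Pts K e) = ptI := C.rH_smul_ptI y'
    have hF : C.rH y' • C.ptF 0 0 0 = C.ptF 0 0 0 := by
      rw [C.rH_smul_ptF]
      simp
    have only : ∀ w : Pts K e, C.rH y' • w = w → w = ptI ∨ w = C.ptF 0 0 0 := by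
      intro w hw
      by_contra hno
      push Not at hno
      exact hsq (C.invol_of_three hne hno.1.symm hno.2.symm hI hF hw)
    have fix : ∀ w : Pts K e, C.rH c • w = w → C.rH y' • (b • w) = b • w := by
      intro w hw
      rw [hy', mul_smul, mul_smul, inv_smul_smul, hw]
    have hcI : C.rH c • (ptI : Pts K e) = ptI := C.rH_smul_ptI c
    have hcF : C.rH c • C.ptF 0 0 0 = C.ptF 0 0 0 := by
      rw [C.rH_smul_ptF]
      simp
    have h1 := only _ (fix _ hcI)
    have h2 := only _ (fix _ hcF)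
    have hinj : b • (ptI : Pts K e) ≠ b • C.ptF 0 0 0 := fun h => hne (smul_left_cancel b h)
    rcases h1 with h1 | h1
    · have h3 : b • C.ptF 0 0 0 = C.ptF 0 0 0 := by
        rcases h2 with h2 | h2
        · exact absurd (h1.trans h2.symm) hinj
        · exact h2
      right
      refine ⟨(memH b).2 ⟨h1, h3⟩, ?_⟩
      intro h4
      have h5 := ((memH _).1 h4).1
      rw [mul_smul, C.w₁_smul_ptI, h3] at h5
      exact hne h5.symm
    · have h3 : b • C.ptF 0 0 0 = ptI := by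
        rcases h2 with h2 | h2
        · exact h2
        · exact absurd (h1.trans h2.symm) hinj
      left
      refine ⟨(memH _).2 ⟨?_, ?_⟩, ?_⟩
      · rw [mul_smul, C.w₁_smul_ptI, h3]
      · rw [mul_smul, hw1, h1]
      · intro h4
        have h5 := ((memH _).1 h4).1
        rw [h1] at h5
        exact hne h5.symm
  have h1 := Subgroup.card_mul_index (C.rH.range.subgroupOf N)
  rw [hidx, Nat.card_congr (Subgroup.subgroupOfEquivOfLe Subgroup.le_normalizer).toEquiv, C.card_H₀] at h1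
  rw [← h1, mul_comm]

/-- The subgroup of order `(q - 1)/2`. -/
theorem RCtx.exists_A_minus (C : RCtx K e) {m : ℕ} (hm : 1 ≤ m) (hK : Fintype.card K = 3 ^ (2 * m + 1)) :
    ∃ A : Subgroup ↥(twistedG2 K e), IsCyclic A ∧ Nat.card A = (Fintype.card K - 1) / 2 ∧ A ≤ C.rH.range ∧
      Nat.card (Subgroup.normalizer (A : Set ↥(twistedG2 K e))) = 2 * (Fintype.card K - 1) ∧
      ∀ A₀ : Subgroup ↥(twistedG2 K e), A₀ ≤ A → A₀ ≠ ⊥ → Subgroup.normalizer (A₀ : Set ↥(twistedG2 K e)) = Subgroup.normalizer (A : Set ↥(twistedG2 K e)) := by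
  classical
  have h27 : 27 ≤ Fintype.card K := by
    rw [hK]
    calc 27 = 3 ^ 3 := by norm_num
      _ ≤ 3 ^ (2 * m + 1) := Nat.pow_le_pow_right (by norm_num) (by omega)
  have h8 : Fintype.card K % 8 = 3 := by
    rw [hK]
    exact card_mod_eight
  obtain ⟨c, hc⟩ := IsCyclic.exists_generator (α := Kˣ)
  have ho : orderOf c = Fintype.card K - 1 := by
    rw [orderOf_eq_card_of_forall_mem_zpowers hc, C.card_units]
  set A := Subgroup.zpowers (C.rH (c ^ 2)) with hA
  have hAcard : Nat.card A = (Fintype.card K - 1) / 2 := by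
    rw [hA, Nat.card_zpowers, orderOf_injective C.rH C.rH_inj, orderOf_pow, ho]
    have : (Fintype.card K - 1).gcd 2 = 2 := Nat.gcd_eq_right (by omega)
    rw [this]
  have hAH : A ≤ C.rH.range := by
    rw [hA, Subgroup.zpowers_le]
    exact ⟨_, rfl⟩
  have hodd : Odd ((Fintype.card K - 1) / 2) := by
    rw [Nat.odd_iff]
    omega
  have hcent : ∀ x ∈ A, x ≠ 1 → Subgroup.centralizer ({x} : Set ↥(twistedG2 K e)) = C.rH.range := by
    intro x hx hx1
    obtain ⟨y, rfl⟩ := hAH hx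
    apply C.cent_rH
    intro h
    apply hx1
    have h1 : C.rH y * C.rH y = 1 := by rw [← map_mul, h, map_one]
    have h2 : C.rH y ^ ((Fintype.card K - 1) / 2) = 1 := by
      rw [← hAcard]
      have := pow_card_eq_one' (x := (⟨_, hx⟩ : A))
      exact congrArg Subtype.val this
    exact eq_one_of_sq_odd hodd h1 h2
  have hne : A ≠ ⊥ := by
    intro h
    rw [h, Subgroup.card_bot] at hAcard
    omega
  have hcyc := C.H₀_cyclic
  have e1 := norm_eq_of hcyc hAH hcent le_rfl hne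
  refine ⟨A, Subgroup.isCyclic_zpowers _ , hAcard, hAH, ?_, ?_⟩
  · rw [e1]
    exact C.card_norm_H₀ hm hK
  · intro A₀ h1 h2
    rw [norm_eq_of hcyc hAH hcent h1 h2, e1]

/-- The subgroup of order `(q + 1)/4`. -/
theorem RCtx.exists_A_plus (C : RCtx K e) {m : ℕ} (hm : 1 ≤ m) (hK : Fintype.card K = 3 ^ (2 * m + 1)) :
    ∃ A : Subgroup ↥(twistedG2 K e), IsCyclic A ∧ Nat.card A = (Fintype.card K + 1) / 4 ∧ A ≤ C.T₀ ∧
      (∀ y, y ∈ A ↔ y ∈ C.E₀ ∧ y ^ ((Fintype.card K + 1) / 4) = 1) ∧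
      (∀ x ∈ A, x ≠ 1 → Subgroup.centralizer ({x} : Set ↥(twistedG2 K e)) = C.E₀) ∧
      Nat.card (Subgroup.normalizer (A : Set ↥(twistedG2 K e))) = 6 * (Fintype.card K + 1) ∧
      ∀ A₀ : Subgroup ↥(twistedG2 K e), A₀ ≤ A → A₀ ≠ ⊥ → Subgroup.normalizer (A₀ : Set ↥(twistedG2 K e)) = Subgroup.normalizer (A : Set ↥(twistedG2 K e)) := by
  classical
  have h27 : 27 ≤ Fintype.card K := by
    rw [hK]
    calc 27 = 3 ^ 3 := by norm_num
      _ ≤ 3 ^ (2 * m + 1) := Nat.pow_le_pow_right (by norm_num) (by omega)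
  have h8 : Fintype.card K % 8 = 3 := by
    rw [hK]
    exact card_mod_eight
  have hT := C.card_T₀
  obtain ⟨f, hf⟩ : ∃ f, Fintype.card K + 1 = 4 * f := ⟨(Fintype.card K + 1) / 4, by omega⟩
  have hff : (Fintype.card K + 1) / 4 = f := by omega
  rw [hff]
  have hTc : Nat.card C.T₀ = 2 * f := by omega
  have hfo : Odd f := by
    rw [Nat.odd_iff]
    omega
  haveI hcycT := C.T₀_cyclic
  obtain ⟨c, hc⟩ := IsCyclic.exists_generator (α := C.T₀)
  have ho : orderOf c = 2 * f := by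
    rw [orderOf_eq_card_of_forall_mem_zpowers hc, hTc]
  have ho' : orderOf (c : ↥(twistedG2 K e)) = 2 * f := by
    rw [← ho]
    simp
  set A := Subgroup.zpowers ((c : ↥(twistedG2 K e)) ^ 2) with hA
  have hAcard : Nat.card A = f := by
    rw [hA, Nat.card_zpowers, orderOf_pow, ho']
    have : (2 * f).gcd 2 = 2 := Nat.gcd_eq_right (Dvd.intro _ rfl)
    rw [this]
    simp
  have hAT : A ≤ C.T₀ := by
    rw [hA, Subgroup.zpowers_le]
    exact pow_mem c.2 2
  have hpow : ∀ x ∈ C.T₀, x ^ f = 1 → x ∈ A := by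
    intro x hx hxf
    obtain ⟨i, hi⟩ := (mem_powers_iff_mem_zpowers.2 (hc ⟨x, hx⟩))
    have hi' : (c : ↥(twistedG2 K e)) ^ i = x := congrArg Subtype.val hi
    have h1 : orderOf (c : ↥(twistedG2 K e)) ∣ i * f := by
      apply orderOf_dvd_of_pow_eq_one
      rw [pow_mul, hi', hxf]
    rw [ho'] at h1
    have h2 : 2 ∣ i := Nat.dvd_of_mul_dvd_mul_right hfo.pos h1
    obtain ⟨j, rfl⟩ := h2
    rw [hA]
    refine ⟨(j : ℤ), ?_⟩
    show ((c : ↥(twistedG2 K e)) ^ 2) ^ (j : ℤ) = x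
    rw [zpow_natCast, ← pow_mul, hi']
  have hmemE : ∀ y, y ∈ A ↔ y ∈ C.E₀ ∧ y ^ f = 1 := by
    intro y
    constructor
    · intro hy
      refine ⟨C.T₀_le_E₀ (hAT hy), ?_⟩
      rw [← hAcard]
      have := pow_card_eq_one' (x := (⟨y, hy⟩ : A))
      exact congrArg Subtype.val this
    · rintro ⟨h1, h2⟩
      apply hpow _ _ h2
      obtain ⟨ε, l, hl, rfl⟩ := C.mem_E₀.1 h1
      have h3 : C.phiC ((ε, l) ^ f) = 1 := by rw [map_pow, h2]
      have h4 : (ε, l) ^ f = 1 := C.phiC_inj (by rw [h3, map_one])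
      have hε : ε ^ f = 1 := congrArg Prod.fst h4
      have hε1 := eps_odd hfo ε hε
      subst hε1
      refine ⟨l, hl, ?_⟩
      rw [C.phiC_apply, map_one, one_mul]
  have hq3 : 3 ≤ Fintype.card K := by omega
  have hcent : ∀ x ∈ A, x ≠ 1 → Subgroup.centralizer ({x} : Set ↥(twistedG2 K e)) = C.E₀ := by
    intro x hx hx1
    have hxf : x ^ f = 1 := ((hmemE x).1 hx).2
    obtain ⟨k, r, hr, hrd, hr1, hr2⟩ := exists_prime_power hx1
    have hrf : r ∣ f := hrd.trans (orderOf_dvd_of_pow_eq_one hxf)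
    have hr0 : r ≠ 2 := by
      rintro rfl
      exact (Nat.not_even_iff_odd.2 hfo) (even_iff_two_dvd.2 hrf)
    have hrq : r ∣ Fintype.card K + 1 := by
      rw [hf]
      exact Dvd.dvd.mul_left hrf _
    have e1 := C.cent_T₀ hK hr hr0 hrq (pow_mem (hAT hx) k) hr1 hr2
    apply le_antisymm
    · intro a ha
      rw [← e1, Subgroup.mem_centralizer_singleton_iff]
      exact Commute.pow_right (Subgroup.mem_centralizer_singleton_iff.1 ha) k
    · intro a ha
      rw [Subgroup.mem_centralizer_singleton_iff]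
      exact C.E₀_comm _ ha _ (C.T₀_le_E₀ (hAT hx))
  have hE₀comm := C.E₀_comm
  have hcycA : IsCyclic A := Subgroup.isCyclic_zpowers _
  have hNA : ∀ A₀ : Subgroup ↥(twistedG2 K e), A₀ ≤ A → A₀ ≠ ⊥ → Subgroup.normalizer (A₀ : Set ↥(twistedG2 K e)) = Subgroup.normalizer (C.E₀ : Set ↥(twistedG2 K e)) := by
    intro A₀ h1 h2
    obtain ⟨x, hx, hx1⟩ := exists_ne_one_of_ne_bot h2
    have hle : A₀ ≤ C.E₀ := h1.trans (hAT.trans C.T₀_le_E₀)
    apply le_antisymm
    · exact norm_le_of_cent (cent_sub_abelian hE₀comm hle hx (hcent x (h1 hx) hx1))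
    · refine le_trans ?_ (norm_cyc_ge hcycA h1)
      intro g hg
      have hg' : ∀ g ∈ Subgroup.normalizer (C.E₀ : Set ↥(twistedG2 K e)), ∀ y ∈ A, g * y * g⁻¹ ∈ A := by
        intro g hg y hy
        obtain ⟨a1, a2⟩ := (hmemE y).1 hy
        refine (hmemE _).2 ⟨(Subgroup.mem_normalizer_iff.1 hg y).1 a1, ?_⟩
        rw [conj_pow, a2]
        group
      rw [Subgroup.mem_normalizer_iff]
      intro y
      constructor
      · exact hg' g hg y
      · intro h
        have := hg' g⁻¹ (inv_mem hg) _ h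
        have e1 : g⁻¹ * (g * y * g⁻¹) * g⁻¹⁻¹ = y := by group
        rwa [e1] at this
  have hne : A ≠ ⊥ := by
    intro h
    rw [h, Subgroup.card_bot] at hAcard
    omega
  have e1 := hNA A le_rfl hne
  refine ⟨A, hcycA, hAcard, hAT, hmemE, hcent, ?_, ?_⟩
  · rw [e1]
    exact C.card_norm_E₀ hm hK
  · intro A₀ h1 h2
    rw [hNA A₀ h1 h2, e1]

end ctx

end CfsgLib.Ree
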