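/-
Named tori of the small Ree groups and normaliser structure of the maximal cyclic subgroups.
-/
import Cfsg.Agent.Lib.Ree.NormA

set_option autoImplicit false
set_option synthInstance.maxHeartbeats 400000
set_option synthInstance.maxSize 1024

namespace CfsgLib.Ree

open Cfsg.Lie Cfsg.Lie.ChevalleyDatum CfsgLib.BN CfsgLib.Chev CfsgLib.H9.SL2Cl Matrix

variable {K : Type*} [Field K] [Fintype K] {e : ℕ}

lemma arith_two_roots {q r c₁ c₂ : ℕ} (hr : r ^ 2 = 3 * q) (hq : 1 ≤ q) (hrq : r ≤ q)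
    (h1 : c₁ * c₂ = q ^ 2 - q + 1) (h2 : c₁ + c₂ = 2 * (q + 1)) :
    (c₁ = q - r + 1 ∧ c₂ = q + r + 1) ∨ (c₁ = q + r + 1 ∧ c₂ = q - r + 1) := by
  have hq2 : q ≤ q ^ 2 := by nlinarith
  have hz1 : ((c₁ * c₂ : ℕ) : ℤ) = (q : ℤ) ^ 2 - q + 1 := by
    rw [h1]
    push_cast [Nat.cast_sub hq2]
    ring
  push_cast at hz1
  have hz2 : (c₁ : ℤ) + c₂ = 2 * (q + 1) := by exact_mod_cast h2
  have hz3 : (r : ℤ) ^ 2 = 3 * q := by exact_mod_cast hr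
  have hz4 : ((c₁ : ℤ) - (q - r + 1)) * ((c₁ : ℤ) - (q + r + 1)) = 0 := by
    have hc2 : (c₂ : ℤ) = 2 * (q + 1) - c₁ := by linarith
    rw [hc2] at hz1
    linear_combination -hz1 - hz3
  have hsub : ((q - r : ℕ) : ℤ) = (q : ℤ) - r := Nat.cast_sub hrq
  rcases mul_eq_zero.1 hz4 with h | h
  · left
    constructor
    · zify
      rw [hsub]
      linarith
    · zify
      linarith
  · right
    constructor
    · zify
      linarith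
    · zify
      rw [hsub]
      linarith

theorem RCtx.tori_named (C : RCtx K e) {m : ℕ} (hm : 1 ≤ m) (hK : Fintype.card K = 3 ^ (2 * m + 1)) (hS : IsSimpleGroup ↥(twistedG2 K e)) :
    ∃ T₁ T₂ : Subgroup ↥(twistedG2 K e), C.IsOT T₁ ∧ C.IsOT T₂ ∧ ¬ ConjS T₁ T₂ ∧ (∀ T, C.IsOT T → ConjS T₁ T ∨ ConjS T₂ T) ∧
      Nat.card (Subgroup.normalizer (T₁ : Set ↥(twistedG2 K e))) = 6 * Nat.card T₁ ∧
      Nat.card (Subgroup.normalizer (T₂ : Set ↥(twistedG2 K e))) = 6 * Nat.card T₂ ∧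
      Nat.card T₁ = 3 ^ (2 * m + 1) - 3 ^ (m + 1) + 1 ∧ Nat.card T₂ = 3 ^ (2 * m + 1) + 3 ^ (m + 1) + 1 := by
  obtain ⟨T₁, T₂, h1, h2, h3, h4, h5, h6, h7, h8⟩ := C.tori_main hm hK hS
  rw [hK] at h7 h8
  have hr : (3 ^ (m + 1)) ^ 2 = 3 * 3 ^ (2 * m + 1) := by ring
  have hrq : 3 ^ (m + 1) ≤ 3 ^ (2 * m + 1) := Nat.pow_le_pow_right (by norm_num) (by omega)
  rcases arith_two_roots hr (Nat.one_le_pow _ _ (by norm_num)) hrq h7 h8 with ⟨h9, h10⟩ | ⟨h9, h10⟩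
  · exact ⟨T₁, T₂, h1, h2, h3, h4, h5, h6, h9, h10⟩
  · refine ⟨T₂, T₁, h2, h1, fun h => h3 h.symm, ?_, h6, h5, h10, h9⟩
    intro T hT
    exact (h4 T hT).symm

/-- The statement of the normaliser structure for an odd-order torus. -/
theorem RCtx.IsOT.norm_sub {T : Subgroup ↥(twistedG2 K e)} (C : RCtx K e) (hT : C.IsOT T) {m : ℕ} (hK : Fintype.card K = 3 ^ (2 * m + 1)) (hS : IsSimpleGroup ↥(twistedG2 K e))
    (A₀ : Subgroup ↥(twistedG2 K e)) (hA₀ : A₀ ≤ T) (h1 : A₀ ≠ ⊥) :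
    Subgroup.normalizer (A₀ : Set ↥(twistedG2 K e)) = Subgroup.normalizer (T : Set ↥(twistedG2 K e)) :=
  norm_eq_of (hT.cyclic hK hS) le_rfl (fun _ hx hx1 => hT.cent_eq hK hS hx hx1) hA₀ h1

end CfsgLib.Ree
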