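/-
Conjugacy of the cyclic subgroups of the small Ree groups.
-/
import Cfsg.Agent.Lib.Ree.Final

set_option autoImplicit false
set_option synthInstance.maxHeartbeats 400000
set_option synthInstance.maxSize 1024

namespace CfsgLib.Ree

open Cfsg.Lie Cfsg.Lie.ChevalleyDatum CfsgLib.BN CfsgLib.Chev CfsgLib.H9.SL2Cl Matrix

section general

variable {Γ : Type*} [Group Γ] [Finite Γ]

lemma conj_of_into {X A B : Subgroup Γ} (hX : IsCyclic X) (gA gB : Γ)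
    (hA : ∀ a ∈ A, gA * a * gA⁻¹ ∈ X) (hB : ∀ b ∈ B, gB * b * gB⁻¹ ∈ X) (hc : Nat.card A = Nat.card B) :
    ∃ g : Γ, B = A.map (MulAut.conj g).toMonoidHom := by
  have h1 : A.map (MulAut.conj gA).toMonoidHom ≤ X := by
    rintro _ ⟨a, ha, rfl⟩
    exact hA a ha
  have h2 : B.map (MulAut.conj gB).toMonoidHom ≤ X := by
    rintro _ ⟨a, ha, rfl⟩
    exact hB a ha
  have h3 := eq_of_card_in_cyclic hX h1 h2 (by
    rw [Subgroup.card_map_of_injective (MulAut.conj gA).injective, Subgroup.card_map_of_injective (MulAut.conj gB).injective, hc])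
  refine ⟨gB⁻¹ * gA, ?_⟩
  ext b
  constructor
  · intro hb
    have h4 : gB * b * gB⁻¹ ∈ A.map (MulAut.conj gA).toMonoidHom := by
      rw [h3]
      exact ⟨b, hb, rfl⟩
    obtain ⟨a, ha, hab⟩ := h4
    refine ⟨a, ha, ?_⟩
    have h5 : gA * a * gA⁻¹ = gB * b * gB⁻¹ := hab
    show (gB⁻¹ * gA) * a * (gB⁻¹ * gA)⁻¹ = b
    rw [_root_.mul_inv_rev, inv_inv]
    calc gB⁻¹ * gA * a * (gA⁻¹ * gB) = gB⁻¹ * (gA * a * gA⁻¹) * gB := by group
      _ = b := by rw [h5]; group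
  · rintro ⟨a, ha, rfl⟩
    have h4 : gA * a * gA⁻¹ ∈ B.map (MulAut.conj gB).toMonoidHom := by
      rw [← h3]
      exact ⟨a, ha, rfl⟩
    obtain ⟨b, hb, hab⟩ := h4
    have h5 : gB * b * gB⁻¹ = gA * a * gA⁻¹ := hab
    have h6 : (gB⁻¹ * gA) * a * (gB⁻¹ * gA)⁻¹ = b := by
      rw [_root_.mul_inv_rev, inv_inv]
      calc gB⁻¹ * gA * a * (gA⁻¹ * gB) = gB⁻¹ * (gA * a * gA⁻¹) * gB := by group
        _ = b := by rw [← h5]; group
    show (gB⁻¹ * gA) * a * (gB⁻¹ * gA)⁻¹ ∈ B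
    rw [h6]
    exact hb

lemma cyc_mem_cent {D : Subgroup Γ} (hD : IsCyclic D) {z a : Γ} (hz : z ∈ D) (ha : a ∈ D) :
    a ∈ Subgroup.centralizer ({z} : Set Γ) := by
  rw [Subgroup.mem_centralizer_singleton_iff]
  have h := hD.commGroup.mul_comm (⟨a, ha⟩ : D) ⟨z, hz⟩
  exact congrArg Subtype.val h

lemma exists_prime_elt {D : Subgroup Γ} {p : ℕ} (hp : p.Prime) (h : p ∣ Nat.card D) :
    ∃ z ∈ D, z ^ p = 1 ∧ z ≠ 1 := by
  haveI := Fact.mk hp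
  obtain ⟨a, ha⟩ := exists_prime_orderOf_dvd_card' (G := D) p h
  refine ⟨a, a.2, ?_, ?_⟩
  · have h1 : a ^ p = 1 := by rw [← ha]; exact pow_orderOf_eq_one a
    exact congrArg Subtype.val h1
  · intro h1
    have h2 : a = 1 := Subtype.ext h1
    rw [h2, orderOf_one] at ha
    exact hp.one_lt.ne ha

end general

variable {K : Type*} [Field K] [Fintype K] {e : ℕ}

theorem RCtx.tori_named' (C : RCtx K e) {m : ℕ} (hm : 1 ≤ m) (hK : Fintype.card K = 3 ^ (2 * m + 1)) (hS : IsSimpleGroup ↥(twistedG2 K e)) :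
    ∃ T₁ T₂ : Subgroup ↥(twistedG2 K e), C.IsOT T₁ ∧ C.IsOT T₂ ∧ ¬ ConjS T₁ T₂ ∧ (∀ T, C.IsOT T → ConjS T₁ T ∨ ConjS T₂ T) ∧
      Nat.card (Subgroup.normalizer (T₁ : Set ↥(twistedG2 K e))) = 6 * Nat.card T₁ ∧
      Nat.card (Subgroup.normalizer (T₂ : Set ↥(twistedG2 K e))) = 6 * Nat.card T₂ ∧
      Nat.card T₁ = 3 ^ (2 * m + 1) - 3 ^ (m + 1) + 1 ∧ Nat.card T₂ = 3 ^ (2 * m + 1) + 3 ^ (m + 1) + 1 ∧
      Fintype.card K ^ 2 - Fintype.card K + 1 = Nat.card T₁ * Nat.card T₂ := by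
  obtain ⟨T₁, T₂, h1, h2, h3, h4, h5, h6, h7, h8⟩ := C.tori_main hm hK hS
  have h7' := h7
  rw [hK] at h7 h8
  have hr : (3 ^ (m + 1)) ^ 2 = 3 * 3 ^ (2 * m + 1) := by ring
  have hrq : 3 ^ (m + 1) ≤ 3 ^ (2 * m + 1) := Nat.pow_le_pow_right (by norm_num) (by omega)
  rcases arith_two_roots hr (Nat.one_le_pow _ _ (by norm_num)) hrq h7 h8 with ⟨h9, h10⟩ | ⟨h9, h10⟩
  · exact ⟨T₁, T₂, h1, h2, h3, h4, h5, h6, h9, h10, h7'.symm⟩
  · refine ⟨T₂, T₁, h2, h1, fun h => h3 h.symm, ?_, h6, h5, h10, h9, ?_⟩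
    · intro T hT
      exact (h4 T hT).symm
    · rw [mul_comm]
      exact h7'.symm

theorem RCtx.into_minus (C : RCtx K e) {m : ℕ} (hK : Fintype.card K = 3 ^ (2 * m + 1)) {p : ℕ} (hp : p.Prime) (hp2 : p ≠ 2) (hd : p ∣ Fintype.card K - 1)
    {D : Subgroup ↥(twistedG2 K e)} (hD : IsCyclic D) (hpD : p ∣ Nat.card D) :
    ∃ g : ↥(twistedG2 K e), ∀ a ∈ D, g * a * g⁻¹ ∈ C.rH.range := by
  obtain ⟨z, hz, hz1, hz2⟩ := exists_prime_elt hp hpD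
  obtain ⟨g, y, hy, hg⟩ := C.prop_H (n := 2 * m) hK hp hp2 hd hz1 hz2
  refine ⟨g, fun a ha => ?_⟩
  rw [← C.cent_rH hy, ← hg, mem_cent_conj]
  exact cyc_mem_cent hD hz ha

theorem RCtx.into_plus (C : RCtx K e) {m : ℕ} (hK : Fintype.card K = 3 ^ (2 * m + 1)) {p : ℕ} (hp : p.Prime) (hp2 : p ≠ 2) (hd : p ∣ Fintype.card K + 1)
    {D : Subgroup ↥(twistedG2 K e)} (hD : IsCyclic D) (hpD : p ∣ Nat.card D) :
    ∃ g : ↥(twistedG2 K e), ∀ a ∈ D, g * a * g⁻¹ ∈ C.E₀ := by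
  obtain ⟨z, hz, hz1, hz2⟩ := exists_prime_elt hp hpD
  obtain ⟨g, -, hg⟩ := C.cent_plus hK hp hp2 hd hz1 hz2
  refine ⟨g, fun a ha => ?_⟩
  rw [← hg, mem_cent_conj]
  exact cyc_mem_cent hD hz ha

theorem RCtx.into_O (C : RCtx K e) {m : ℕ} (hK : Fintype.card K = 3 ^ (2 * m + 1)) (hS : IsSimpleGroup ↥(twistedG2 K e))
    {p : ℕ} (hp : p.Prime) (hd : p ∣ Fintype.card K ^ 2 - Fintype.card K + 1)
    {D T : Subgroup ↥(twistedG2 K e)} (hT : C.IsOT T) (hpT : p ∣ Nat.card T) (hD : IsCyclic D) (hpD : p ∣ Nat.card D) :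
    ∃ g : ↥(twistedG2 K e), ∀ a ∈ D, g * a * g⁻¹ ∈ T := by
  classical
  obtain ⟨z, hz, hz1, hz2⟩ := exists_prime_elt hp hpD
  have hOT : C.IsOT (Subgroup.centralizer {z}) := ⟨z, p, hp, hd, hz1, hz2, rfl⟩
  have hzm : z ∈ Subgroup.centralizer ({z} : Set ↥(twistedG2 K e)) := cyc_mem_cent hD hz hz
  have hpT' : p ∣ Nat.card (Subgroup.centralizer ({z} : Set ↥(twistedG2 K e))) := by
    have h1 : orderOf (⟨z, hzm⟩ : Subgroup.centralizer ({z} : Set ↥(twistedG2 K e))) = p := by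
      haveI := Fact.mk hp
      apply orderOf_eq_prime
      · exact Subtype.ext hz1
      · intro h
        exact hz2 (congrArg Subtype.val h)
    rw [← h1]
    exact orderOf_dvd_natCard _
  obtain ⟨x, hx⟩ := hT.conj_of_prime hOT hK hS hp hpT hpT'
  refine ⟨x⁻¹, fun a ha => ?_⟩
  have := (hx a).1 (cyc_mem_cent hD hz ha)
  simpa using this

/-- Any two cyclic subgroups of the same order `d` for `d` as in the statement are conjugate. -/
theorem RCtx.conj_cyclic (C : RCtx K e) {m : ℕ} (hm : 1 ≤ m) (hK : Fintype.card K = 3 ^ (2 * m + 1)) (hS : IsSimpleGroup ↥(twistedG2 K e)) (d : ℕ)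
    (hd : d ∣ (3 ^ (2 * m + 1) - 1) / 2 ∨ d ∣ (3 ^ (2 * m + 1) + 1) / 4 ∨ d ∣ 3 ^ (2 * m + 1) - 3 ^ (m + 1) + 1 ∨ d ∣ 3 ^ (2 * m + 1) + 3 ^ (m + 1) + 1)
    (A B : Subgroup ↥(twistedG2 K e)) (hA : IsCyclic A) (hB : IsCyclic B)
    (hAd : Nat.card A = d) (hBd : Nat.card B = d) :
    ∃ g : ↥(twistedG2 K e), B = A.map (MulAut.conj g).toMonoidHom := by
  classical
  have h8 : 3 ^ (2 * m + 1) % 8 = 3 := card_mod_eight
  by_cases hd1 : d = 1
  · refine ⟨1, ?_⟩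
    have h1 : A = ⊥ := Subgroup.eq_bot_of_card_eq A (by rw [hAd, hd1])
    have h2 : B = ⊥ := Subgroup.eq_bot_of_card_eq B (by rw [hBd, hd1])
    rw [h1, h2, Subgroup.map_bot]
  obtain ⟨p, hp, hpd⟩ := Nat.exists_prime_and_dvd hd1
  have hpA : p ∣ Nat.card A := hAd ▸ hpd
  have hpB : p ∣ Nat.card B := hBd ▸ hpd
  rw [← hK] at h8
  obtain ⟨T₁, T₂, h1, h2, -, -, -, -, h7, h9, hprod⟩ := C.tori_named' hm hK hS
  rw [← hK] at hd
  rcases hd with hd | hd | hd | hd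
  · have hp2 : p ≠ 2 := by
      rintro rfl
      have : 2 ∣ (Fintype.card K - 1) / 2 := hpd.trans hd
      omega
    have hpq : p ∣ Fintype.card K - 1 := by
      have h3 : p ∣ (Fintype.card K - 1) / 2 := hpd.trans hd
      exact h3.trans (Nat.div_dvd_of_dvd (by omega))
    obtain ⟨g₁, hg₁⟩ := C.into_minus hK hp hp2 hpq hA hpA
    obtain ⟨g₂, hg₂⟩ := C.into_minus hK hp hp2 hpq hB hpB
    exact conj_of_into C.H₀_cyclic g₁ g₂ hg₁ hg₂ (by rw [hAd, hBd])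
  · have hp2 : p ≠ 2 := by
      rintro rfl
      have : 2 ∣ (Fintype.card K + 1) / 4 := hpd.trans hd
      omega
    have hpq : p ∣ Fintype.card K + 1 := by
      have h3 : p ∣ (Fintype.card K + 1) / 4 := hpd.trans hd
      exact h3.trans (Nat.div_dvd_of_dvd (by omega))
    obtain ⟨X, hX, -, -, hmem, -⟩ := C.exists_A_plus hm hK
    obtain ⟨g₁, hg₁⟩ := C.into_plus hK hp hp2 hpq hA hpA
    obtain ⟨g₂, hg₂⟩ := C.into_plus hK hp hp2 hpq hB hpB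
    have key : ∀ (D : Subgroup ↥(twistedG2 K e)) (g : ↥(twistedG2 K e)), Nat.card D = d → (∀ a ∈ D, g * a * g⁻¹ ∈ C.E₀) → ∀ a ∈ D, g * a * g⁻¹ ∈ X := by
      intro D g hc h a ha
      refine (hmem _).2 ⟨h a ha, ?_⟩
      rw [conj_pow]
      have h3 : a ^ ((Fintype.card K + 1) / 4) = 1 := by
        have h4 : a ^ d = 1 := by
          rw [← hc]
          have := pow_card_eq_one' (x := (⟨a, ha⟩ : D))
          exact congrArg Subtype.val this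
        obtain ⟨t, ht⟩ := hd
        rw [ht, pow_mul, h4, one_pow]
      rw [h3, mul_one, mul_inv_cancel]
    exact conj_of_into hX g₁ g₂ (key A g₁ hAd hg₁) (key B g₂ hBd hg₂) (by rw [hAd, hBd])
  · have hd' : d ∣ Nat.card T₁ := by rw [h7, ← hK]; exact hd
    have hpT : p ∣ Nat.card T₁ := hpd.trans hd'
    have hpq : p ∣ Fintype.card K ^ 2 - Fintype.card K + 1 := by
      rw [hprod]
      exact Dvd.dvd.mul_right hpT _
    obtain ⟨g₁, hg₁⟩ := C.into_O hK hS hp hpq h1 hpT hA hpA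
    obtain ⟨g₂, hg₂⟩ := C.into_O hK hS hp hpq h1 hpT hB hpB
    exact conj_of_into (h1.cyclic hK hS) g₁ g₂ hg₁ hg₂ (by rw [hAd, hBd])
  · have hd' : d ∣ Nat.card T₂ := by rw [h9, ← hK]; exact hd
    have hpT : p ∣ Nat.card T₂ := hpd.trans hd'
    have hpq : p ∣ Fintype.card K ^ 2 - Fintype.card K + 1 := by
      rw [hprod]
      exact Dvd.dvd.mul_left hpT _
    obtain ⟨g₁, hg₁⟩ := C.into_O hK hS hp hpq h2 hpT hA hpA
    obtain ⟨g₂, hg₂⟩ := C.into_O hK hS hp hpq h2 hpT hB hpB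
    exact conj_of_into (h2.cyclic hK hS) g₁ g₂ hg₁ hg₂ (by rw [hAd, hBd])

end CfsgLib.Ree
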