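/-
Rigidity of the small Ree groups.
-/
import Cfsg.Agent.Lib.Ree.Aut

set_option autoImplicit false
set_option synthInstance.maxHeartbeats 400000
set_option synthInstance.maxSize 1024

namespace CfsgLib.Ree

open Cfsg.Lie Cfsg.Lie.ChevalleyDatum CfsgLib.BN CfsgLib.Chev

section rigid

variable {K : Type*} [Field K] [Fintype K] {e : ℕ} (C : RCtx K e)

/-- An automorphism that fixes `H¹` and moves `U¹` trivially on the first coordinate is trivial on `U¹`. -/
theorem RCtx.rigid_U (χ : ↥(twistedG2 K e) ≃* ↥(twistedG2 K e)) (h1 : ∀ y, χ (C.rH y) = C.rH y)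
    (h2 : ∀ t u v, ∃ u' v', χ (C.rS t u v) = C.rS t u' v') {t₁ : K} (ht₁ : C.ρ t₁ ≠ t₁) (t u v : K) : χ (C.rS t u v) = C.rS t u v := by
  have r0 : C.ρ 0 = 0 := map_zero _
  have r1 : C.ρ 1 = 1 := map_one _
  have h3 := C.three
  -- the centre
  have hZ : ∀ v, ∃ v', χ (C.rS 0 0 v) = C.rS 0 0 v' := by
    intro v
    obtain ⟨u', v', e1⟩ := h2 0 0 v
    obtain ⟨a, b, e2⟩ := h2 1 0 0
    have e3 : C.rS 0 0 v * C.rS 1 0 0 = C.rS 1 0 0 * C.rS 0 0 v := by
      rw [C.rS_mul, C.rS_mul]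
      congr 1 <;> simp [r0, r1]
    have e4 := congrArg χ e3
    rw [map_mul, map_mul, e1, e2, C.rS_mul, C.rS_mul] at e4
    obtain ⟨-, -, e5⟩ := C.rS_inj e4
    simp only [r0, r1] at e5
    have e6 : u' = 0 := by linear_combination -e5
    exact ⟨v', by rw [e1, e6]⟩
  choose G hG using hZ
  have hGadd : ∀ v v', G (v + v') = G v + G v' := by
    intro v v'
    have e3 : C.rS 0 0 v * C.rS 0 0 v' = C.rS 0 0 (v + v') := by
      rw [C.rS_mul]
      congr 1 <;> simp [r0]
    have e4 := congrArg χ e3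
    rw [map_mul, hG, hG, hG, C.rS_mul] at e4
    obtain ⟨-, -, e5⟩ := C.rS_inj e4
    simp only [r0] at e5
    linear_combination -e5
  have hG0 : G 0 = 0 := by
    have := hGadd 0 0
    rw [add_zero] at this
    linear_combination -this
  have hGneg : ∀ v, G (-v) = - G v := by
    intro v
    have := hGadd v (-v)
    rw [add_neg_cancel, hG0] at this
    linear_combination -this
  -- the middle part
  have hM : ∀ u, ∃ u', χ (C.rS 0 u 0) = C.rS 0 u' 0 := by
    intro u
    obtain ⟨u', v', e1⟩ := h2 0 u 0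
    have e3 : C.rH (-1) * C.rS 0 u 0 * (C.rH (-1))⁻¹ = C.rS 0 u 0 := by
      rw [C.rH_conj]
      congr 1
      · simp
      · simp only [Units.val_neg, Units.val_one, map_neg, map_one]
        ring
      · simp
    have e4 := congrArg χ e3
    rw [map_mul, map_mul, map_inv, h1, e1, C.rH_conj] at e4
    obtain ⟨-, -, e5⟩ := C.rS_inj e4
    simp only [Units.val_neg, Units.val_one, map_neg, map_one] at e5
    have e6 : v' = 0 := by
      have : 2 * v' = 0 := by linear_combination -e5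
      exact (mul_eq_zero.1 this).resolve_left C.two_ne
    exact ⟨u', by rw [e1, e6]⟩
  choose H hH using hM
  -- the top part
  have hT : ∀ t, ∃ a b, χ (C.rS t 0 0) = C.rS t a b := fun t => h2 t 0 0
  choose A B hAB using hT
  -- relation between the centre and the middle part
  have hGH : ∀ t u, G (t * u) = t * H u := by
    intro t u
    have e3 : C.rS 0 u 0 * C.rS t 0 0 = C.rS t 0 0 * C.rS 0 u 0 * C.rS 0 0 (-(t * u)) := by
      rw [C.rS_mul, C.rS_mul, C.rS_mul]
      congr 1 <;> simp [r0]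
    have e4 := congrArg χ e3
    rw [map_mul, map_mul, map_mul, hAB, hH, hG, C.rS_mul, C.rS_mul, C.rS_mul] at e4
    obtain ⟨-, -, e5⟩ := C.rS_inj e4
    simp only [r0, hGneg] at e5
    linear_combination e5
  set c₀ := H 1 with hc₀
  have hGv : ∀ v, G v = v * c₀ := by
    intro v
    have := hGH v 1
    rwa [mul_one] at this
  have hHu : ∀ u, H u = u * c₀ := by
    intro u
    have := hGH 1 u
    rw [one_mul, one_mul] at this
    rw [← this, hGv]
  -- equivariance
  have hEq : ∀ (y : Kˣ) (t : K), A ((y : K) * t) = (y : K) * C.ρ y * A t ∧ B ((y : K) * t) = (y : K) ^ 2 * C.ρ y * B t := by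
    intro y t
    have e3 : C.rH y * C.rS t 0 0 * (C.rH y)⁻¹ = C.rS ((y : K) * t) 0 0 := by
      rw [C.rH_conj]
      simp
    have e4 := congrArg χ e3
    rw [map_mul, map_mul, map_inv, h1, hAB, C.rH_conj, hAB] at e4
    obtain ⟨-, e5, e6⟩ := C.rS_inj e4
    exact ⟨e5.symm, e6.symm⟩
  have hA0 : A 0 = 0 ∧ B 0 = 0 := by
    have e3 := hAB 0
    rw [C.rS_zero, map_one, ← C.rS_zero] at e3
    obtain ⟨-, e5, e6⟩ := C.rS_inj e3
    exact ⟨e5.symm, e6.symm⟩
  have hAf : ∀ x, A x = x * C.ρ x * A 1 := by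
    intro x
    by_cases hx : x = 0
    · rw [hx, hA0.1, r0]
      ring
    · have := (hEq (Units.mk0 x hx) 1).1
      rw [Units.val_mk0, mul_one] at this
      exact this
  have hBf : ∀ x, B x = x ^ 2 * C.ρ x * B 1 := by
    intro x
    by_cases hx : x = 0
    · rw [hx, hA0.2, r0]
      ring
    · have := (hEq (Units.mk0 x hx) 1).2
      rw [Units.val_mk0, mul_one] at this
      exact this
  -- the main relation
  have hmain : ∀ t t' : K, A t + A t' - t * C.ρ t' = A (t + t') + (-(t * C.ρ t')) * c₀ ∧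
      B t + B t' - t ^ 2 * C.ρ t' - t' * A t + t * t' * C.ρ t' = B (t + t') + (-(t ^ 2 * C.ρ t') + t * t' * C.ρ t') * c₀ := by
    intro t t'
    have e3 : C.rS t 0 0 * C.rS t' 0 0 = C.rS (t + t') 0 0 * (C.rS 0 (-(t * C.ρ t')) 0 * C.rS 0 0 (-(t ^ 2 * C.ρ t') + t * t' * C.ρ t')) := by
      rw [C.rS_mul, C.rS_mul, C.rS_mul]
      congr 1
      · ring
      · simp [r0]
      · simp only [add_zero, zero_add, r0, mul_zero, zero_mul]
        ring
    have e4 := congrArg χ e3
    rw [map_mul, map_mul, map_mul, hAB, hAB, hAB, hH, hG, hHu, hGv, C.rS_mul, C.rS_mul, C.rS_mul] at e4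
    obtain ⟨-, e5, e6⟩ := C.rS_inj e4
    simp only [add_zero, zero_add, r0, mul_zero, zero_mul, sub_zero] at e5 e6
    constructor
    · linear_combination e5
    · linear_combination e6
  have hc : A 1 = 1 - c₀ := by
    have e1 := (hmain 1 1).1
    rw [hAf (1 + 1)] at e1
    simp only [map_add, r1] at e1
    linear_combination e1 + A 1 * h3
  have hne : C.ρ t₁ - t₁ ≠ 0 := sub_ne_zero.2 ht₁
  have ha0 : A 1 = 0 := by
    have e1 := (hmain t₁ 1).1
    rw [hAf t₁, hAf (t₁ + 1)] at e1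
    simp only [map_add, r1] at e1
    have : (C.ρ t₁ - t₁) * A 1 = 0 := by
      linear_combination (-1 : K) * e1 + t₁ * hc - t₁ * A 1 * h3
    exact (mul_eq_zero.1 this).resolve_left hne
  have hc1 : c₀ = 1 := by
    rw [ha0] at hc
    linear_combination hc
  have hA : ∀ x, A x = 0 := by
    intro x
    rw [hAf, ha0, mul_zero]
  have hb0 : B 1 = 0 := by
    have e1 := (hmain t₁ 1).2
    rw [hA t₁, hBf t₁, hBf (t₁ + 1), hc1] at e1
    simp only [map_add, r1] at e1
    have ht1 : t₁ - 1 ≠ 0 := by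
      intro h
      apply ht₁
      rw [sub_eq_zero.1 h, r1]
    have : (t₁ - 1) * (C.ρ t₁ - t₁) * B 1 = 0 := by
      linear_combination (1 : K) * e1 + (t₁ * C.ρ t₁ + t₁) * B 1 * h3
    exact (mul_eq_zero.1 this).resolve_left (mul_ne_zero ht1 hne)
  have hB : ∀ x, B x = 0 := by
    intro x
    rw [hBf, hb0, mul_zero]
  have hfinal : C.rS t u v = C.rS t 0 0 * (C.rS 0 u 0 * C.rS 0 0 v) := by
    rw [C.rS_mul, C.rS_mul]
    congr 1 <;> simp [r0]
  rw [hfinal, map_mul, map_mul, hAB, hH, hG, hA, hB, hHu, hGv, hc1, mul_one, mul_one]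

/-- The rigidity statement. -/
theorem RCtx.rigid (χ : ↥(twistedG2 K e) ≃* ↥(twistedG2 K e)) (h1 : ∀ y, χ (C.rH y) = C.rH y)
    (h2 : ∀ t u v, ∃ u' v', χ (C.rS t u v) = C.rS t u' v') {t₁ : K} (ht₁ : C.ρ t₁ ≠ t₁) {y₀ : Kˣ} (hy₀ : (y₀ : K) ^ 2 ≠ 1) : χ = MulEquiv.refl _ := by
  classical
  have hU := C.rigid_U χ h1 h2 ht₁
  have hB : ∀ g ∈ borelOf K e, χ g = g := by
    intro g hg
    obtain ⟨t, u, v, y, rfl⟩ := C.mem_borelOf.1 hg
    rw [map_mul, hU, h1]
  -- the image of the Weyl element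
  have hx₀ : χ C.rW • (ptI : Pts K e) = C.ptF 0 0 0 := by
    have hne : χ C.rW • (ptI : Pts K e) ≠ ptI := by
      intro h
      have h3 := fix_ptI.1 h
      have h4 := hB _ h3
      apply C.rW_not_B
      rw [← χ.injective h4]
      exact h3
    obtain ⟨t, u, v, h3⟩ := (C.pt_cases _).resolve_left hne
    have hfix : C.rH y₀ • C.ptF t u v = C.ptF t u v := by
      rw [← h3, ← mul_smul]
      have e1 : C.rH y₀ * χ C.rW = χ C.rW * C.rH y₀⁻¹ := by
        have e2 := congrArg χ (C.rW_conj y₀⁻¹)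
        rw [inv_inv, map_mul χ, map_mul χ, map_inv χ C.rW, h1, h1] at e2
        rw [← e2]
        group
      rw [e1, mul_smul, C.rH_smul_ptI]
    rw [C.rH_smul_ptF] at hfix
    obtain ⟨a1, a2, a3⟩ := C.ptF_inj hfix
    have hy0 : (y₀ : K) ≠ 0 := y₀.ne_zero
    have hy1 : (y₀ : K) ≠ 1 := by
      intro h
      apply hy₀
      rw [h]
      simp
    have b1 : t = 0 := by
      have : ((y₀ : K) - 1) * t = 0 := by linear_combination a1
      exact (mul_eq_zero.1 this).resolve_left (sub_ne_zero.2 hy1)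
    have b2 : u = 0 := by
      have : ((y₀ : K) * C.ρ y₀ - 1) * u = 0 := by linear_combination a2
      refine (mul_eq_zero.1 this).resolve_left (sub_ne_zero.2 ?_)
      intro h5
      exact hy₀ (C.weight_two hy0 h5)
    have b3 : v = 0 := by
      have : ((y₀ : K) ^ 2 * C.ρ y₀ - 1) * v = 0 := by linear_combination a3
      refine (mul_eq_zero.1 this).resolve_left (sub_ne_zero.2 ?_)
      intro h5
      exact hy1 (C.weight_three hy0 h5)
    rw [h3, b1, b2, b3]
  have hpt : ∀ k : ↥(twistedG2 K e), χ k • (ptI : Pts K e) = k • ptI := by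
    intro k
    rcases C.bruhat k with ⟨t, u, v, y, rfl⟩ | ⟨t, u, v, y, t', u', v', rfl⟩
    · rw [hB _ (mul_mem (C.rS_mem_B _ _ _) (C.rH_mem_B _))]
    · rw [map_mul, map_mul, map_mul, hU, h1, hU, mul_smul, mul_smul, mul_smul, mul_smul, mul_smul, mul_smul, C.rS_smul_ptI, hx₀, C.rW_smul_ptI]
  have hall : ∀ (g k : ↥(twistedG2 K e)), χ g • (k • (ptI : Pts K e)) = g • k • (ptI : Pts K e) := by
    intro g k
    rw [← hpt k, ← mul_smul, ← map_mul, hpt, hpt, mul_smul]
  haveI := C.char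
  have hperf : ∀ x : K, ∃ y : K, y ^ 3 = x := fun x => ⟨C.φ (C.φ x), C.hφ2 x⟩
  have hcore := g2_core hperf C.φ C.hφ2 C.hφ
  apply MulEquiv.ext
  intro g
  show χ g = g
  have hz : g⁻¹ * χ g ∈ (borelOf K e).normalCore := by
    show ∀ b, b * (g⁻¹ * χ g) * b⁻¹ ∈ borelOf K e
    intro b
    rw [← fix_ptI]
    have e1 : (b * (g⁻¹ * χ g) * b⁻¹) • (ptI : Pts K e) = b • g⁻¹ • χ g • b⁻¹ • (ptI : Pts K e) := by
      simp only [mul_smul]
    rw [e1, hall, inv_smul_smul, smul_inv_smul]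
  have hcore' : (borelOf K e).normalCore = ⊥ := hcore
  rw [hcore', Subgroup.mem_bot] at hz
  exact (inv_mul_eq_one.1 hz).symm

end rigid

end CfsgLib.Ree
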