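/-
The outer automorphism group of the small Ree groups.
-/
import Cfsg.Agent.Lib.Ree.Rigid

set_option autoImplicit false
set_option synthInstance.maxHeartbeats 400000
set_option synthInstance.maxSize 1024

namespace CfsgLib.Ree

open Cfsg.Lie Cfsg.Lie.ChevalleyDatum CfsgLib.BN CfsgLib.Chev

section out

variable {K : Type*} [Field K] [Fintype K] {m : ℕ} (hK : Fintype.card K = 3 ^ (2 * m + 1)) (C : RCtx K (3 ^ m))

omit [Fintype K] in
lemma RCtx.rS_nine {e : ℕ} (C : RCtx K e) (t u v : K) : (C.rS t u v) ^ 3 ^ 2 = 1 := by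
  have e1 : (3 : ℕ) ^ 2 = 3 * 3 := by norm_num
  rw [e1, pow_mul, C.rS_cube, C.rS_cube_eq_one_iff]

include hK in
/-- An element normalising `U¹` lies in the Borel subgroup. -/
lemma RCtx.mem_B_of_norm (C : RCtx K (3 ^ m)) {g : ↥(twistedG2 K (3 ^ m))} (h : ∀ x ∈ uOf K (3 ^ m), g * x * g⁻¹ ∈ uOf K (3 ^ m)) : g ∈ borelOf K (3 ^ m) := by
  by_contra hg
  have h1 : g • (ptI : Pts K (3 ^ m)) ≠ ptI := fun h2 => hg (fix_ptI.1 h2)
  set x := C.rS 0 0 1 with hx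
  obtain ⟨t, u, v, h2⟩ := C.mem_uOf.1 (h x (C.rS_mem_uOf _ _ _))
  have h3 : (g * x * g⁻¹) ^ 3 ^ 2 = 1 := by
    rw [h2]
    exact C.rS_nine t u v
  have h4 : (g * x * g⁻¹) • (ptI : Pts K (3 ^ m)) = ptI := by
    rw [h2, C.rS_smul_ptI]
  have h5 : (g * x * g⁻¹) • (g • (ptI : Pts K (3 ^ m))) = g • (ptI : Pts K (3 ^ m)) := by
    rw [mul_smul, mul_smul, inv_smul_smul, hx, C.rS_smul_ptI]
  have h6 := C.eq_one_of_fix_two hK h3 h1.symm h4 h5
  have h7 : x = 1 := conj_eq_one_iff.1 h6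
  rw [hx, ← C.rS_zero] at h7
  exact one_ne_zero (C.rS_inj h7).2.2

/-- Automorphisms preserving `U¹`. -/
def PU (ψ : ↥(twistedG2 K (3 ^ m)) ≃* ↥(twistedG2 K (3 ^ m))) : Prop := ∀ g, g ∈ uOf K (3 ^ m) ↔ ψ g ∈ uOf K (3 ^ m)

include hK in
/-- Every automorphism preserves `U¹` after an inner automorphism. -/
lemma RCtx.exists_PU (C : RCtx K (3 ^ m)) (φ : ↥(twistedG2 K (3 ^ m)) ≃* ↥(twistedG2 K (3 ^ m))) : ∃ x : ↥(twistedG2 K (3 ^ m)), PU (φ.trans (MulAut.conj x⁻¹)) := by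
  classical
  haveI : Fact (Nat.Prime 3) := ⟨Nat.prime_three⟩
  set Q := (uOf K (3 ^ m)).map φ.toMonoidHom with hQ
  have hU : IsPGroup 3 (uOf K (3 ^ m)) := by
    apply IsPGroup.of_card (n := 3 * (2 * m + 1))
    rw [card_uOf C, hK, ← pow_mul, mul_comm]
  have hQp : IsPGroup 3 Q := hU.map φ.toMonoidHom
  obtain ⟨P, hP⟩ := hQp.exists_le_sylow
  obtain ⟨g, hg⟩ := C.exists_sylow_conj hK P
  have hPc : (P : Subgroup ↥(twistedG2 K (3 ^ m))) = (uOf K (3 ^ m)).map (MulAut.conj g).toMonoidHom := by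
    ext y
    rw [hg]
    constructor
    · intro h
      exact ⟨_, h, by simp [MulAut.conj_apply]; group⟩
    · rintro ⟨z, hz, rfl⟩
      have e1 : g⁻¹ * ((MulAut.conj g).toMonoidHom z) * g = z := by
        simp [MulAut.conj_apply]
        group
      rwa [e1]
  have hQP : Q = P := by
    apply Subgroup.eq_of_le_of_card_ge hP
    rw [hPc, hQ, Subgroup.card_map_of_injective (MulAut.conj g).injective, Subgroup.card_map_of_injective φ.injective]
  refine ⟨g, fun z => ?_⟩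
  have h1 : z ∈ uOf K (3 ^ m) ↔ φ z ∈ Q := by
    constructor
    · intro h
      exact ⟨z, h, rfl⟩
    · rintro ⟨z', hz', e⟩
      rwa [← φ.injective e]
  rw [h1, hQP, hg]
  simp [MulAut.conj_apply]

lemma PU.symm {ψ : ↥(twistedG2 K (3 ^ m)) ≃* ↥(twistedG2 K (3 ^ m))} (h : PU ψ) : PU ψ.symm := by
  intro g
  rw [h (ψ.symm g)]
  simp

include hK in
lemma RCtx.PU_B (C : RCtx K (3 ^ m)) {ψ : ↥(twistedG2 K (3 ^ m)) ≃* ↥(twistedG2 K (3 ^ m))} (h : PU ψ) {g : ↥(twistedG2 K (3 ^ m))} (hg : g ∈ borelOf K (3 ^ m)) : ψ g ∈ borelOf K (3 ^ m) := by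
  apply C.mem_B_of_norm hK
  intro x hx
  have h1 : ψ.symm x ∈ uOf K (3 ^ m) := (PU.symm h x).1 hx
  have h2 := C.B_conj_U hg h1
  have h3 := (h _).1 h2
  simpa using h3

/-- Fixed points of a torus element on `U¹`. -/
lemma RCtx.fix_weights {e : ℕ} (C : RCtx K e) {y : Kˣ} (hy2 : (y : K) ^ 2 ≠ 1) {t u v : K} (h : C.rH y * C.rS t u v * (C.rH y)⁻¹ = C.rS t u v) : t = 0 ∧ u = 0 ∧ v = 0 := by
  rw [C.rH_conj] at h
  obtain ⟨a1, a2, a3⟩ := C.rS_inj h
  have hy0 : (y : K) ≠ 0 := y.ne_zero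
  have hy1 : (y : K) ≠ 1 := by
    intro h
    apply hy2
    rw [h]
    simp
  refine ⟨?_, ?_, ?_⟩
  · have : ((y : K) - 1) * t = 0 := by linear_combination a1
    exact (mul_eq_zero.1 this).resolve_left (sub_ne_zero.2 hy1)
  · have : ((y : K) * C.ρ y - 1) * u = 0 := by linear_combination a2
    refine (mul_eq_zero.1 this).resolve_left (sub_ne_zero.2 ?_)
    intro h5
    exact hy2 (C.weight_two hy0 h5)
  · have : ((y : K) ^ 2 * C.ρ y - 1) * v = 0 := by linear_combination a3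
    refine (mul_eq_zero.1 this).resolve_left (sub_ne_zero.2 ?_)
    intro h5
    exact hy1 (C.weight_three hy0 h5)

/-- Cosets of `U¹` by fixed point free torus elements are conjugacy classes. -/
lemma RCtx.coset_conj {e : ℕ} (C : RCtx K e) {y : Kˣ} (hy2 : (y : K) ^ 2 ≠ 1) (a b c : K) : ∃ s ∈ uOf K e, C.rS a b c * C.rH y = s * C.rH y * s⁻¹ := by
  classical
  let h := C.rH y
  have hU : ∀ s ∈ uOf K e, h * s⁻¹ * h⁻¹ ∈ uOf K e := fun s hs => C.B_conj_U (C.rH_mem_B y) (inv_mem hs)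
  let f : ↥(uOf K e) → ↥(uOf K e) := fun s => ⟨(s : ↥(twistedG2 K e)) * (h * (s : ↥(twistedG2 K e))⁻¹ * h⁻¹), mul_mem s.2 (hU _ s.2)⟩
  have hinj : Function.Injective f := by
    intro s s' hs
    have h1 : (s : ↥(twistedG2 K e)) * (h * (s : ↥(twistedG2 K e))⁻¹ * h⁻¹) = (s' : ↥(twistedG2 K e)) * (h * (s' : ↥(twistedG2 K e))⁻¹ * h⁻¹) := congrArg Subtype.val hs
    set z := (s' : ↥(twistedG2 K e))⁻¹ * (s : ↥(twistedG2 K e)) with hz
    have hzU : z ∈ uOf K e := mul_mem (inv_mem s'.2) s.2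
    obtain ⟨t, u, v, htuv⟩ := C.mem_uOf.1 hzU
    have h2 : h * z * h⁻¹ = z := by
      have e1 : (s' : ↥(twistedG2 K e))⁻¹ * ((s : ↥(twistedG2 K e)) * (h * (s : ↥(twistedG2 K e))⁻¹ * h⁻¹)) * (h * (s' : ↥(twistedG2 K e)) * h⁻¹) = z * (h * z⁻¹ * h⁻¹)⁻¹⁻¹ := by
        rw [hz]
        group
      have e2 : z = (s' : ↥(twistedG2 K e))⁻¹ * ((s : ↥(twistedG2 K e)) * (h * (s : ↥(twistedG2 K e))⁻¹ * h⁻¹)) * (h * (s' : ↥(twistedG2 K e)) * h⁻¹) * (h * z * h⁻¹) := by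
        rw [e1]
        group
      rw [h1] at e2
      have e3 : (s' : ↥(twistedG2 K e))⁻¹ * ((s' : ↥(twistedG2 K e)) * (h * (s' : ↥(twistedG2 K e))⁻¹ * h⁻¹)) * (h * (s' : ↥(twistedG2 K e)) * h⁻¹) = 1 := by group
      rw [e3, one_mul] at e2
      exact e2.symm
    rw [htuv] at h2
    obtain ⟨a1, a2, a3⟩ := C.fix_weights hy2 h2
    rw [a1, a2, a3, C.rS_zero] at htuv
    apply Subtype.ext
    rw [hz] at htuv
    exact (inv_mul_eq_one.1 htuv).symm
  have hsurj : Function.Surjective f := Finite.injective_iff_surjective.1 hinj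
  obtain ⟨s, hs⟩ := hsurj ⟨C.rS a b c, C.rS_mem_uOf _ _ _⟩
  refine ⟨s, s.2, ?_⟩
  have h1 : (s : ↥(twistedG2 K e)) * (h * (s : ↥(twistedG2 K e))⁻¹ * h⁻¹) = C.rS a b c := congrArg Subtype.val hs
  rw [← h1]
  change (s : ↥(twistedG2 K e)) * (h * (s : ↥(twistedG2 K e))⁻¹ * h⁻¹) * h = s * h * (s : ↥(twistedG2 K e))⁻¹
  group

/-- A generator of the units. -/
lemma RCtx.gen_facts (C : RCtx K (3 ^ m)) (hK : Fintype.card K = 3 ^ (2 * m + 1)) (hm : 1 ≤ m) : ∃ y₀ : Kˣ, (∀ x : Kˣ, x ∈ Subgroup.zpowers y₀) ∧ 26 ≤ orderOf y₀ ∧ (y₀ : K) ^ 2 ≠ 1 ∧ C.ρ y₀ ≠ y₀ := by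
  classical
  obtain ⟨y₀, hy⟩ := IsCyclic.exists_generator (α := Kˣ)
  have hord : orderOf y₀ = 3 ^ (2 * m + 1) - 1 := by
    rw [orderOf_eq_card_of_forall_mem_zpowers hy, Nat.card_eq_fintype_card, Fintype.card_units, hK]
  have he3 : 3 ≤ 3 ^ m := by
    calc 3 = 3 ^ 1 := by norm_num
      _ ≤ 3 ^ m := Nat.pow_le_pow_right (by norm_num) hm
  have hq : 3 ^ (2 * m + 1) = 3 * (3 ^ m) ^ 2 := by
    rw [← pow_mul, pow_succ, mul_comm m 2, mul_comm]
  have hord2 : 3 * 3 ^ m ≤ orderOf y₀ := by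
    rw [hord, hq]
    generalize 3 ^ m = E at he3 ⊢
    have : 3 * E + 1 ≤ 3 * E ^ 2 := by nlinarith
    omega
  have hord3 : 26 ≤ orderOf y₀ := by
    rw [hord, hq]
    generalize 3 ^ m = E at he3 ⊢
    have : 27 ≤ 3 * E ^ 2 := by nlinarith
    omega
  refine ⟨y₀, hy, hord3, ?_, ?_⟩
  · intro h
    have h1 : y₀ ^ 2 = 1 := Units.ext (by simpa using h)
    have h2 := Nat.le_of_dvd (by norm_num) (orderOf_dvd_of_pow_eq_one h1)
    omega
  · intro h
    have h1 : C.φ (y₀ : K) = y₀ := by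
      have := congrArg C.φ h
      rw [C.φ_ρ] at this
      exact this.symm
    rw [C.hφ] at h1
    have h2 : y₀ ^ (3 ^ m - 1) = 1 := by
      apply Units.ext
      have h3 : (y₀ : K) ^ (3 ^ m) = (y₀ : K) ^ (3 ^ m - 1) * y₀ := by
        rw [← pow_succ]
        congr 1
        omega
      rw [h3] at h1
      have h4 := mul_right_cancel₀ y₀.ne_zero (h1.trans (one_mul _).symm)
      simpa using h4
    have h3 := Nat.le_of_dvd (by omega) (orderOf_dvd_of_pow_eq_one h2)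
    omega

/-- The torus can be moved to the torus. -/
lemma RCtx.exists_torus (C : RCtx K (3 ^ m)) (hK : Fintype.card K = 3 ^ (2 * m + 1)) (hm : 1 ≤ m) {ψ : ↥(twistedG2 K (3 ^ m)) ≃* ↥(twistedG2 K (3 ^ m))} (h : PU ψ) :
    ∃ s ∈ uOf K (3 ^ m), ∀ y, ∃ y', s⁻¹ * ψ (C.rH y) * s = C.rH y' := by
  classical
  obtain ⟨y₀, hgen, hord, -, -⟩ := C.gen_facts hK hm
  obtain ⟨a, b, c, y', e1⟩ := C.mem_borelOf.1 (C.PU_B hK h (C.rH_mem_B y₀))
  have hy' : (y' : K) ^ 2 ≠ 1 := by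
    intro hsq
    have h1 : y' * y' = 1 := Units.ext (by
      rw [Units.val_mul, ← pow_two, hsq]
      rfl)
    have h2 : (ψ (C.rH y₀)) * (ψ (C.rH y₀)) ∈ uOf K (3 ^ m) := by
      rw [e1]
      have e2 : C.rS a b c * C.rH y' * (C.rS a b c * C.rH y') = C.rS a b c * (C.rH y' * C.rS a b c * (C.rH y')⁻¹) * (C.rH y' * C.rH y') := by group
      rw [e2, ← map_mul, h1, map_one, mul_one, C.rH_conj, C.rS_mul]
      exact C.rS_mem_uOf _ _ _
    obtain ⟨t, u, v, e3⟩ := C.mem_uOf.1 h2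
    have h3 : (ψ (C.rH y₀)) ^ 18 = 1 := by
      have e4 : (18 : ℕ) = 2 * 3 ^ 2 := by norm_num
      rw [e4, pow_mul, pow_two, e3]
      exact C.rS_nine t u v
    have h4 : y₀ ^ 18 = 1 := by
      apply C.rH_inj
      apply ψ.injective
      rw [map_pow, map_pow, h3, map_one, map_one]
    have h5 := Nat.le_of_dvd (by norm_num) (orderOf_dvd_of_pow_eq_one h4)
    omega
  obtain ⟨s, hs, e2⟩ := C.coset_conj hy' a b c
  refine ⟨s, hs, fun y => ?_⟩
  obtain ⟨k, rfl⟩ := hgen y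
  refine ⟨y' ^ k, ?_⟩
  show s⁻¹ * ψ (C.rH (y₀ ^ k)) * s = _
  rw [map_zpow, map_zpow, map_zpow, e1, e2]
  have e3 : (s * C.rH y' * s⁻¹) ^ k = s * (C.rH y') ^ k * s⁻¹ := by
    rw [conj_zpow]
  rw [e3]
  group

lemma RCtx.rS_split {e : ℕ} (C : RCtx K e) (t u v : K) : C.rS t u v = C.rS t 0 0 * C.rS 0 u v := by
  rw [C.rS_mul]
  congr 1 <;> simp

/-- The field automorphism attached to an automorphism. -/
lemma RCtx.exists_field (C : RCtx K (3 ^ m)) {ψ : ↥(twistedG2 K (3 ^ m)) ≃* ↥(twistedG2 K (3 ^ m))} (h : PU ψ) {α : Kˣ → Kˣ} (hα : ∀ y, ψ (C.rH y) = C.rH (α y)) :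
    ∃ (c : Kˣ) (σ : K ≃+* K), (∀ t u v, ∃ u' v', ψ (C.rS t u v) = C.rS ((c : K) * σ t) u' v') ∧ ∀ y, (α y : K) = σ y := by
  classical
  have hT : ∀ t, ∃ f a b, ψ (C.rS t 0 0) = C.rS f a b := fun t => C.mem_uOf.1 ((h _).1 (C.rS_mem_uOf _ _ _))
  choose F A B hF using hT
  have hQ : ∀ u v, ∃ u' v', ψ (C.rS 0 u v) = C.rS 0 u' v' := by
    intro u v
    obtain ⟨t', u', v', e1⟩ := C.mem_uOf.1 ((h (C.rS 0 u v)).1 (C.rS_mem_uOf _ _ _))
    have e2 : (C.rS t' u' v') ^ 3 = 1 := by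
      rw [← e1, ← map_pow, (C.rS_cube_eq_one_iff 0 u v).2 rfl, map_one]
    have e3 := (C.rS_cube_eq_one_iff t' u' v').1 e2
    subst e3
    exact ⟨u', v', e1⟩
  have hform : ∀ t u v, ∃ u' v', ψ (C.rS t u v) = C.rS (F t) u' v' := by
    intro t u v
    obtain ⟨u', v', e1⟩ := hQ u v
    rw [C.rS_split t u v, map_mul, e1, hF, C.rS_mul, add_zero]
    exact ⟨_, _, rfl⟩
  have hadd : ∀ t t', F (t + t') = F t + F t' := by
    intro t t'
    obtain ⟨u', v', e1⟩ := hform (t + t') (-(t * C.ρ t')) (-(t ^ 2 * C.ρ t') + t * t' * C.ρ t')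
    have e2 : C.rS t 0 0 * C.rS t' 0 0 = C.rS (t + t') (-(t * C.ρ t')) (-(t ^ 2 * C.ρ t') + t * t' * C.ρ t') := by
      rw [C.rS_mul]
      congr 1
      · ring
      · ring
    have e3 := congrArg ψ e2
    rw [map_mul, hF, hF, e1, C.rS_mul] at e3
    exact (C.rS_inj e3).1.symm
  have hinj : ∀ t, F t = 0 → t = 0 := by
    intro t ht
    have e1 := hF t
    rw [ht] at e1
    have e2 : ψ ((C.rS t 0 0) ^ 3) = 1 := by
      rw [map_pow, e1]
      exact (C.rS_cube_eq_one_iff 0 _ _).2 rfl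
    have e3 : (C.rS t 0 0) ^ 3 = 1 := by
      apply ψ.injective
      rw [e2, map_one]
    exact (C.rS_cube_eq_one_iff t 0 0).1 e3
  have hmul : ∀ (y : Kˣ) (t : K), F ((y : K) * t) = (α y : K) * F t := by
    intro y t
    have e1 : C.rH y * C.rS t 0 0 * (C.rH y)⁻¹ = C.rS ((y : K) * t) 0 0 := by
      rw [C.rH_conj]
      simp
    have e2 := congrArg ψ e1
    rw [map_mul, map_mul, map_inv, hα, hF, C.rH_conj, hF] at e2
    exact (C.rS_inj e2).1.symm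
  have hF0 : F 0 = 0 := by
    have := hadd 0 0
    rw [add_zero] at this
    linear_combination -this
  have hF1 : F 1 ≠ 0 := fun h1 => one_ne_zero (hinj 1 h1)
  set g : K → K := fun t => F t / F 1 with hg
  have gadd : ∀ x y, g (x + y) = g x + g y := by
    intro x y
    simp only [hg, hadd]
    ring
  have gone : g 1 = 1 := div_self hF1
  have hαg : ∀ y : Kˣ, (α y : K) = g y := by
    intro y
    have := hmul y 1
    rw [mul_one] at this
    simp only [hg]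
    rw [this]
    field_simp
  have gmul : ∀ x y, g (x * y) = g x * g y := by
    intro x y
    by_cases hx : x = 0
    · simp only [hg, hx, zero_mul, hF0]
      simp
    · have := hmul (Units.mk0 x hx) y
      rw [Units.val_mk0] at this
      have h2 := hαg (Units.mk0 x hx)
      rw [Units.val_mk0] at h2
      simp only [hg]
      rw [this, h2]
      simp only [hg]
      ring
  let gH : K →+* K := { toFun := g, map_one' := gone, map_mul' := gmul, map_zero' := by simp [hg, hF0], map_add' := gadd }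
  have gbij : Function.Bijective gH := by
    have hinj' : Function.Injective gH := gH.injective
    exact ⟨hinj', Finite.injective_iff_surjective.1 hinj'⟩
  let σ : K ≃+* K := RingEquiv.ofBijective gH gbij
  have hσ : ∀ t, σ t = F t / F 1 := fun t => rfl
  refine ⟨Units.mk0 (F 1) hF1, σ, ?_, ?_⟩
  · intro t u v
    obtain ⟨u', v', e1⟩ := hform t u v
    refine ⟨u', v', ?_⟩
    rw [e1, Units.val_mk0, hσ]
    congr 1
    field_simp
  · intro y
    rw [hαg, hσ]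

/-- Every automorphism is inner up to a field automorphism. -/
theorem RCtx.aut_decomp (C : RCtx K (3 ^ m)) (hK : Fintype.card K = 3 ^ (2 * m + 1)) (hm : 1 ≤ m) (φ : ↥(twistedG2 K (3 ^ m)) ≃* ↥(twistedG2 K (3 ^ m))) :
    ∃ (x : ↥(twistedG2 K (3 ^ m))) (σ : K ≃+* K), φ = MulAut.conj x * fA σ := by
  classical
  obtain ⟨x, hx⟩ := C.exists_PU hK φ
  set ψ₁ := φ.trans (MulAut.conj x⁻¹) with hψ₁
  obtain ⟨s, hs, hy⟩ := C.exists_torus hK hm hx
  set ψ := ψ₁.trans (MulAut.conj s⁻¹) with hψ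
  have hψa : ∀ g, ψ g = s⁻¹ * ψ₁ g * s := by
    intro g
    simp [hψ, MulAut.conj_apply]
  have hψ₁a : ∀ g, ψ₁ g = x⁻¹ * φ g * x := by
    intro g
    simp [hψ₁, MulAut.conj_apply]
  have hPU : PU ψ := by
    intro g
    rw [hx g, hψa]
    constructor
    · intro h
      exact mul_mem (mul_mem (inv_mem hs) h) hs
    · intro h
      have := mul_mem (mul_mem hs h) (inv_mem hs)
      convert this using 1
      group
  have hall : ∀ y, ∃ y', ψ (C.rH y) = C.rH y' := by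
    intro y
    obtain ⟨y', e1⟩ := hy y
    exact ⟨y', by rw [hψa, e1]⟩
  choose α hα using hall
  obtain ⟨c, σ, hS, hσ⟩ := C.exists_field hPU hα
  let χ : ↥(twistedG2 K (3 ^ m)) ≃* ↥(twistedG2 K (3 ^ m)) := (ψ.trans (MulAut.conj (C.rH c⁻¹))).trans (fA σ).symm
  have hχ : ∀ g, fA σ (χ g) = C.rH c⁻¹ * ψ g * (C.rH c⁻¹)⁻¹ := by
    intro g
    simp [χ, MulAut.conj_apply]
  obtain ⟨y₀, -, -, hy₀, ht₁⟩ := C.gen_facts hK hm
  have hχ1 : χ = MulEquiv.refl _ := by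
    apply C.rigid χ ?_ ?_ ht₁ hy₀
    · intro y
      apply (fA σ).injective
      rw [hχ, hα, C.fA_H, ← map_inv, ← map_mul, ← map_mul]
      congr 1
      have e1 : α y = Units.map (σ : K →* K) y := Units.ext (hσ y)
      rw [e1, inv_inv, mul_comm c⁻¹, mul_assoc, inv_mul_cancel, mul_one]
    · intro t u v
      obtain ⟨u', v', e1⟩ := hS t u v
      have e2 : C.rH c⁻¹ * C.rS ((c : K) * σ t) u' v' * (C.rH c⁻¹)⁻¹ = C.rS (σ t) (((c⁻¹ : Kˣ) : K) * C.ρ ((c⁻¹ : Kˣ) : K) * u') (((c⁻¹ : Kˣ) : K) ^ 2 * C.ρ ((c⁻¹ : Kˣ) : K) * v') := by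
        rw [C.rH_conj]
        congr 1
        rw [← mul_assoc, Units.val_inv_eq_inv_val, inv_mul_cancel₀ c.ne_zero, one_mul]
      refine ⟨σ.symm (((c⁻¹ : Kˣ) : K) * C.ρ ((c⁻¹ : Kˣ) : K) * u'), σ.symm (((c⁻¹ : Kˣ) : K) ^ 2 * C.ρ ((c⁻¹ : Kˣ) : K) * v'), ?_⟩
      apply (fA σ).injective
      rw [hχ, e1, e2, C.fA_S]
      simp only [RingEquiv.apply_symm_apply]
  have hχ2 : ∀ g, fA σ g = C.rH c⁻¹ * ψ g * (C.rH c⁻¹)⁻¹ := by
    intro g
    rw [← hχ, hχ1]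
    rfl
  refine ⟨x * s * C.rH c, σ, ?_⟩
  refine MulEquiv.ext fun g => ?_
  show φ g = MulAut.conj (x * s * C.rH c) (fA σ g)
  rw [MulAut.conj_apply, hχ2, hψa, hψ₁a, map_inv]
  group

/-- A field automorphism that is inner is trivial. -/
theorem RCtx.fA_inner (C : RCtx K (3 ^ m)) (hK : Fintype.card K = 3 ^ (2 * m + 1)) {σ : K ≃+* K} {g : ↥(twistedG2 K (3 ^ m))} (h : fA σ = MulAut.conj g) : σ = RingEquiv.refl K := by
  have hc : ∀ u, fA σ u = g * u * g⁻¹ := by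
    intro u
    rw [h, MulAut.conj_apply]
  have hg : g ∈ borelOf K (3 ^ m) := by
    apply C.mem_B_of_norm hK
    intro x hx
    rw [← hc]
    obtain ⟨a, b, c, rfl⟩ := C.mem_uOf.1 hx
    rw [C.fA_S]
    exact C.rS_mem_uOf _ _ _
  obtain ⟨a, b, c, y, rfl⟩ := C.mem_borelOf.1 hg
  have key : ∀ y' : Kˣ, Units.map (σ : K →* K) y' = y' := by
    intro y'
    have e1 := hc (C.rH y')
    rw [C.fA_H] at e1
    have e2 : C.rS a b c * C.rH y * C.rH y' * (C.rS a b c * C.rH y)⁻¹ = C.rS a b c * (C.rH y' * (C.rS a b c)⁻¹ * (C.rH y')⁻¹) * C.rH y' := by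
      have e3 : C.rH y * C.rH y' = C.rH y' * C.rH y := by
        rw [← map_mul, ← map_mul, mul_comm]
      calc C.rS a b c * C.rH y * C.rH y' * (C.rS a b c * C.rH y)⁻¹ = C.rS a b c * (C.rH y * C.rH y') * (C.rH y)⁻¹ * (C.rS a b c)⁻¹ := by group
        _ = _ := by
          rw [e3]
          group
    rw [e2, C.rS_inv, C.rH_conj, C.rS_mul] at e1
    -- an element of `U¹ ∩ H¹`
    obtain ⟨A, B, D, e1'⟩ : ∃ A B D, C.rH (Units.map (σ : K →* K) y') = C.rS A B D * C.rH y' := ⟨_, _, _, e1⟩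
    have e4 : C.rH (Units.map (σ : K →* K) y' * y'⁻¹) = C.rS A B D := by
      rw [map_mul, map_inv, e1']
      group
    have e5 : ((C.rH (Units.map (σ : K →* K) y' * y'⁻¹) : ↥(twistedG2 K (3 ^ m))) : GL chevG2.Idx K) = 1 := by
      apply TG2.extra.U_H TG2.good _ (C.rH_diag _)
      rw [e4]
      exact C.rS_mem_U _ _ _
    have e6 : C.rH (Units.map (σ : K →* K) y' * y'⁻¹) = 1 := Subtype.ext e5
    have e7 : Units.map (σ : K →* K) y' * y'⁻¹ = 1 := C.rH_inj (by rw [e6, map_one])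
    exact mul_inv_eq_one.1 e7
  ext t
  by_cases ht : t = 0
  · simp [ht]
  · have := congrArg Units.val (key (Units.mk0 t ht))
    simpa using this

/-- The count of the outer automorphism group. -/
theorem RCtx.card_out (C : RCtx K (3 ^ m)) (hK : Fintype.card K = 3 ^ (2 * m + 1)) (hm : 1 ≤ m) : Nat.card (Cfsg.Out ↥(twistedG2 K (3 ^ m))) = 2 * m + 1 := by
  classical
  haveI : Fact (Nat.Prime 3) := ⟨Nat.prime_three⟩
  haveI := C.char
  have hg : Nat.card (K ≃+* K) = 2 * m + 1 := CfsgLib.Sz.card_gal_aux 3 (2 * m + 1) hK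
  rw [← hg]
  symm
  apply Nat.card_eq_of_bijective (fun σ : K ≃+* K => (QuotientGroup.mk (fA σ) : Cfsg.Out ↥(twistedG2 K (3 ^ m))))
  constructor
  · intro σ τ e1
    have e2 := QuotientGroup.eq.1 e1
    rw [fA_symm_mul] at e2
    obtain ⟨g, hg⟩ := e2
    have e3 := C.fA_inner hK hg.symm
    ext a
    have e4 : σ.symm (τ a) = a := RingEquiv.congr_fun e3 a
    calc σ a = σ (σ.symm (τ a)) := by rw [e4]
      _ = τ a := by simp
  · intro q
    obtain ⟨φ, rfl⟩ := QuotientGroup.mk_surjective q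
    obtain ⟨x, σ, rfl⟩ := C.aut_decomp hK hm φ
    refine ⟨σ, ?_⟩
    show (QuotientGroup.mk (fA σ) : Cfsg.Out ↥(twistedG2 K (3 ^ m))) = QuotientGroup.mk (MulAut.conj x * fA σ)
    rw [QuotientGroup.eq]
    have := (Cfsg.innNormal ↥(twistedG2 K (3 ^ m))).conj_mem (MulAut.conj x) ⟨x, rfl⟩ (fA σ)⁻¹
    convert this using 1
    group

end out

end CfsgLib.Ree
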