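/-
The element orders of the small Ree groups.
-/
import Cfsg.Agent.Lib.Ree.ConjCyc
import Cfsg.Agent.Lib.Ree.Out

set_option autoImplicit false
set_option synthInstance.maxHeartbeats 400000
set_option synthInstance.maxSize 1024

namespace CfsgLib.Ree

open Cfsg.Lie Cfsg.Lie.ChevalleyDatum CfsgLib.BN CfsgLib.Chev CfsgLib.H9.SL2Cl Matrix

section general

variable {Γ : Type*} [Group Γ] [Finite Γ]

lemma exists_order_of_dvd_cyc {X : Subgroup Γ} (hX : IsCyclic X) {d : ℕ} (hd : d ∣ Nat.card X) : ∃ g : Γ, orderOf g = d := by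
  obtain ⟨c, hc⟩ := IsCyclic.exists_generator (α := X)
  have ho : orderOf c = Nat.card X := orderOf_eq_card_of_forall_mem_zpowers hc
  obtain ⟨k, hk⟩ := hd
  have h1 : orderOf (c : Γ) = Nat.card X := by rw [← ho]; simp
  have hpos : 0 < Nat.card X := Nat.card_pos
  have hk0 : 0 < k := by
    rcases Nat.eq_zero_or_pos k with rfl | h
    · rw [mul_zero] at hk
      omega
    · exact h
  refine ⟨(c : Γ) ^ k, ?_⟩
  rw [orderOf_pow, h1, hk, Nat.gcd_eq_right (Dvd.intro_left _ rfl), Nat.mul_div_cancel _ hk0]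

lemma exists_order_of_dvd_elt {x : Γ} {d : ℕ} (hd : d ∣ orderOf x) : ∃ g : Γ, orderOf g = d := by
  apply exists_order_of_dvd_cyc (X := Subgroup.zpowers x) (Subgroup.isCyclic_zpowers _)
  rw [Nat.card_zpowers]
  exact hd

lemma pow_of_conj {g k : Γ} {n : ℕ} (h : (k⁻¹ * g * k) ^ n = 1) : g ^ n = 1 := by
  have h3 : k * (k⁻¹ * g * k) ^ n * k⁻¹ = 1 := by rw [h]; group
  rw [← conj_pow] at h3
  simpa [mul_assoc] using h3

end general

variable {K : Type*} [Field K] [Fintype K] {e : ℕ}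

lemma RCtx.rS0_cube (C : RCtx K e) (u v : K) : (C.rS 0 u v) ^ 3 = 1 :=
  (C.rS_cube_eq_one_iff 0 u v).2 rfl

lemma RCtx.rS_nine' (C : RCtx K e) (t u v : K) : (C.rS t u v) ^ 9 = 1 := by
  rw [show (9 : ℕ) = 3 * 3 from rfl, pow_mul, C.rS_cube, C.rS0_cube]

lemma RCtx.order_nine (C : RCtx K e) : orderOf (C.rS 1 0 0) = 9 := by
  haveI : Fact (Nat.Prime 3) := ⟨by norm_num⟩
  have h : orderOf (C.rS 1 0 0) = 3 ^ (1 + 1) := by
    apply orderOf_eq_prime_pow
    · rw [pow_one, C.rS_cube_eq_one_iff]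
      exact one_ne_zero
    · exact C.rS_nine' 1 0 0
  simpa using h

lemma RCtx.order_six (C : RCtx K e) : orderOf (C.rS 0 1 0 * C.aI) = 6 := by
  haveI : Fact (Nat.Prime 3) := ⟨by norm_num⟩
  haveI : Fact (Nat.Prime 2) := ⟨by norm_num⟩
  have h3 : orderOf (C.rS 0 1 0) = 3 := by
    apply orderOf_eq_prime (C.rS0_cube 1 0)
    intro h
    have h1 := (C.rS_inj (h.trans C.rS_zero.symm)).2.1
    exact one_ne_zero h1
  have h2 : orderOf C.aI = 2 := by
    apply orderOf_eq_prime _ C.aI_ne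
    rw [pow_two, C.aI_sq]
  have hc : Commute (C.rS 0 1 0) C.aI := by
    have := C.aI_conj 0 1 0
    simp only [neg_zero] at this
    exact (mul_inv_eq_iff_eq_mul.1 this).symm
  rw [hc.orderOf_mul_eq_mul_orderOf_of_coprime (by rw [h3, h2]; norm_num), h3, h2]

/-- Elements of the Borel subgroup are annihilated by `6`, `9` or `q-1`. -/
lemma RCtx.borel_pow (C : RCtx K e) {g : ↥(twistedG2 K e)} (hg : g ∈ borelOf K e) :
    g ^ 6 = 1 ∨ g ^ 9 = 1 ∨ g ^ (Fintype.card K - 1) = 1 := by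
  obtain ⟨t, u, v, y, rfl⟩ := C.mem_borelOf.1 hg
  by_cases hy : (y : K) ^ 2 = 1
  · rcases sq_cases hy with h | h
    · have hy1 : y = 1 := Units.ext h
      right; left
      rw [hy1, map_one, mul_one]
      exact C.rS_nine' t u v
    · have hy1 : y = -1 := Units.ext (by simpa using h)
      left
      have haI : C.rH y = C.aI := by rw [hy1]; rfl
      rw [haI]
      have h1 : (C.rS t u v * C.aI) ^ 2 = C.rS (t + -t) (u + u - t * C.ρ (-t)) (v + -v - t ^ 2 * C.ρ (-t) - -t * u + t * -t * C.ρ (-t)) := by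
        rw [← C.rS_mul, ← C.aI_conj, pow_two, C.aI_inv]
        group
      rw [show (6 : ℕ) = 2 * 3 from rfl, pow_mul, h1, add_neg_cancel]
      exact C.rS0_cube _ _
  · right; right
    obtain ⟨s, -, hs⟩ := C.coset_conj hy t u v
    rw [hs, conj_pow, ← map_pow]
    have h1 : y ^ (Fintype.card K - 1) = 1 := by
      rw [← C.card_units]
      exact pow_card_eq_one'
    rw [h1, map_one, mul_one, mul_inv_cancel]

lemma RCtx.E₀_pow (C : RCtx K e) {m : ℕ} (hK : Fintype.card K = 3 ^ (2 * m + 1)) {y : ↥(twistedG2 K e)} (hy : y ∈ C.E₀) : y ^ ((Fintype.card K + 1) / 2) = 1 := by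
  obtain ⟨ε, l, hl, rfl⟩ := C.mem_E₀.1 hy
  have h8 : 3 ^ (2 * m + 1) % 8 = 3 := card_mod_eight
  rw [← hK] at h8
  have hD := card_Dbar C
  have hn : (Fintype.card K + 1) / 2 = Nat.card (Dbar K) := by omega
  rw [← map_pow]
  have h1 : (ε, l) ^ ((Fintype.card K + 1) / 2) = 1 := by
    rw [hn]
    apply Prod.ext
    · show ε ^ Nat.card (Dbar K) = 1
      have h4 : Nat.card (Dbar K) = 2 * (Nat.card (Dbar K) / 2) := by omega
      rw [h4, pow_mul, pow_two, eps_sq, one_pow]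
    · show l ^ Nat.card (Dbar K) = 1
      have := pow_card_eq_one' (x := (⟨l, hl⟩ : Dbar K))
      exact congrArg Subtype.val this
  rw [h1, map_one]

/-- Every element is annihilated by one of the six numbers. -/
theorem RCtx.pow_cases (C : RCtx K e) {m : ℕ} (hm : 1 ≤ m) (hK : Fintype.card K = 3 ^ (2 * m + 1)) (hS : IsSimpleGroup ↥(twistedG2 K e)) (g : ↥(twistedG2 K e)) :
    g ^ 6 = 1 ∨ g ^ 9 = 1 ∨ g ^ (Fintype.card K - 1) = 1 ∨ g ^ ((Fintype.card K + 1) / 2) = 1 ∨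
      g ^ (3 ^ (2 * m + 1) - 3 ^ (m + 1) + 1) = 1 ∨ g ^ (3 ^ (2 * m + 1) + 3 ^ (m + 1) + 1) = 1 := by
  classical
  by_cases hf : Fpf g
  · rcases C.fpf_cases hK hf with ⟨k, hk, -⟩ | ⟨T, hT, hgT, -⟩
    · right; right; right; left
      exact pow_of_conj (C.E₀_pow hK hk)
    · have hgn : g ^ Nat.card T = 1 := by
        have := pow_card_eq_one' (x := (⟨g, hgT⟩ : T))
        exact congrArg Subtype.val this
      obtain ⟨T₁, T₂, h1, h2, -, h4, -, -, h7, h8, -⟩ := C.tori_named' hm hK hS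
      rcases h4 T hT with h | h
      · rw [← h.card_eq, h7] at hgn
        right; right; right; right; left
        exact hgn
      · rw [← h.card_eq, h8] at hgn
        right; right; right; right; right
        exact hgn
  · unfold Fpf at hf
    push Not at hf
    obtain ⟨w, hw⟩ := hf
    obtain ⟨h, rfl⟩ := QuotientGroup.mk_surjective w
    have h1 : (h⁻¹ * g * h) • (ptI : Pts K e) = ptI := by
      rw [mul_smul, mul_smul, smul_ptI]
      show h⁻¹ • g • (QuotientGroup.mk h : Pts K e) = _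
      rw [hw, ← smul_ptI, inv_smul_smul]
    rcases C.borel_pow (fix_ptI.1 h1) with h2 | h2 | h2
    · exact Or.inl (pow_of_conj h2)
    · exact Or.inr (Or.inl (pow_of_conj h2))
    · exact Or.inr (Or.inr (Or.inl (pow_of_conj h2)))

theorem RCtx.order_iff (C : RCtx K e) {m : ℕ} (hm : 1 ≤ m) (hK : Fintype.card K = 3 ^ (2 * m + 1)) (hS : IsSimpleGroup ↥(twistedG2 K e)) (d : ℕ) :
    (∃ g : ↥(twistedG2 K e), orderOf g = d) ↔
      (d ∣ 6 ∨ d ∣ 9 ∨ d ∣ 3 ^ (2 * m + 1) - 1 ∨ d ∣ (3 ^ (2 * m + 1) + 1) / 2 ∨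
        d ∣ 3 ^ (2 * m + 1) - 3 ^ (m + 1) + 1 ∨ d ∣ 3 ^ (2 * m + 1) + 3 ^ (m + 1) + 1) := by
  classical
  constructor
  · rintro ⟨g, rfl⟩
    rw [← hK]
    rcases C.pow_cases hm hK hS g with h | h | h | h | h | h
    · exact Or.inl (orderOf_dvd_of_pow_eq_one h)
    · exact Or.inr (Or.inl (orderOf_dvd_of_pow_eq_one h))
    · exact Or.inr (Or.inr (Or.inl (orderOf_dvd_of_pow_eq_one h)))
    · exact Or.inr (Or.inr (Or.inr (Or.inl (orderOf_dvd_of_pow_eq_one h))))
    · rw [← hK] at h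
      exact Or.inr (Or.inr (Or.inr (Or.inr (Or.inl (orderOf_dvd_of_pow_eq_one h)))))
    · rw [← hK] at h
      exact Or.inr (Or.inr (Or.inr (Or.inr (Or.inr (orderOf_dvd_of_pow_eq_one h)))))
  · rw [← hK]
    obtain ⟨T₁, T₂, h1, h2, -, -, -, -, h7, h8, -⟩ := C.tori_named' hm hK hS
    rintro (h | h | h | h | h | h)
    · exact exists_order_of_dvd_elt (x := C.rS 0 1 0 * C.aI) (by rw [C.order_six]; exact h)
    · exact exists_order_of_dvd_elt (x := C.rS 1 0 0) (by rw [C.order_nine]; exact h)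
    · exact exists_order_of_dvd_cyc C.H₀_cyclic (by rw [C.card_H₀]; exact h)
    · refine exists_order_of_dvd_cyc C.T₀_cyclic ?_
      have := C.card_T₀
      have h3 : (Fintype.card K + 1) / 2 = Nat.card C.T₀ := by omega
      rw [← h3]
      exact h
    · refine exists_order_of_dvd_cyc (h1.cyclic hK hS) ?_
      rw [h7, ← hK]
      exact h
    · refine exists_order_of_dvd_cyc (h2.cyclic hK hS) ?_
      rw [h8, ← hK]
      exact h

end CfsgLib.Ree
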